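import Mathlib.GroupTheory.FiniteAbelian.Duality
import Mathlib.RingTheory.RootsOfUnity.AlgebraicallyClosed
import Mathlib.LinearAlgebra.FiniteDimensional.Lemmas
import Mathlib.LinearAlgebra.Dual.Lemmas
import Mathlib.LinearAlgebra.Projection
import Mathlib.LinearAlgebra.Dimension.OrzechProperty
import Mathlib.Data.Int.CardIntervalMod
import Mathlib.RingTheory.Nilpotent.Basic
import Mathlib.Algebra.Polynomial.AlgebraMap

/-!
# Jordan chains of weight vectors
-/

set_option autoImplicit false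
set_option linter.unusedSectionVars false
set_option linter.style.haveILetI false

namespace Cfsg.PM

open Module Finset

universe u v w w'

variable {k : Type v} [Field k] {L : Type u} [Group L] {W : Type w} [AddCommGroup W] [Module k W]

/-- Weights. -/
def Wt (L : Type u) [Group L] (k : Type v) [Field k] : Type (max u v) := L →* kˣ

namespace Wt

instance : CommGroup (Wt L k) := inferInstanceAs (CommGroup (L →* kˣ))
instance : FunLike (Wt L k) L kˣ := inferInstanceAs (FunLike (L →* kˣ) L kˣ)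
instance : MonoidHomClass (Wt L k) L kˣ := inferInstanceAs (MonoidHomClass (L →* kˣ) L kˣ)

@[ext] theorem ext {ν μ : Wt L k} (h : ∀ l, ν l = μ l) : ν = μ := DFunLike.ext _ _ h
@[simp] theorem mul_apply (ν μ : Wt L k) (l : L) : (ν * μ) l = ν l * μ l := rfl
@[simp] theorem one_apply (l : L) : (1 : Wt L k) l = 1 := rfl
@[simp] theorem inv_apply (ν : Wt L k) (l : L) : ν⁻¹ l = (ν l)⁻¹ := rfl
@[simp] theorem pow_apply (ν : Wt L k) (n : ℕ) (l : L) : (ν ^ n) l = ν l ^ n := rfl

end Wt

/-- Weight space. -/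
def wsp (σ : L →* End k W) (ν : Wt L k) : Submodule k W where
  carrier := {v | ∀ l, σ l v = (ν l : k) • v}
  add_mem' := fun {a b} ha hb l => by rw [map_add, ha l, hb l, smul_add]
  zero_mem' := fun l => by simp
  smul_mem' := fun c v hv l => by rw [map_smul, hv l, smul_comm]

theorem mem_wsp {σ : L →* End k W} {ν : Wt L k} {v : W} :
    v ∈ wsp σ ν ↔ ∀ l, σ l v = (ν l : k) • v := Iff.rfl

theorem eq_of_mem_wsp {σ : L →* End k W} {ν μ : Wt L k} {v : W} (h : v ∈ wsp σ ν)
    (h' : v ∈ wsp σ μ) (h0 : v ≠ 0) : ν = μ := by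
  ext l
  exact smul_left_injective k h0 ((h l).symm.trans (h' l))

/-- A functional of weight `μ` vanishes on the other weight spaces. -/
theorem apply_eq_zero_of_wt {σ : L →* End k W} {ν μ : Wt L k} {φ : W →ₗ[k] k}
    (hφ : ∀ l y, φ (σ l y) = (μ l : k) * φ y) {v : W} (h : v ∈ wsp σ ν) (hne : ν ≠ μ) :
    φ v = 0 := by
  by_contra h0
  refine hne (Wt.ext fun l => Units.ext ?_)
  have := hφ l v
  rw [h l, map_smul, smul_eq_mul] at this
  exact mul_right_cancel₀ h0 this

section Proj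

variable [Fintype L]

/-- The projection onto a weight space. -/
noncomputable def wpr (σ : L →* End k W) (ν : Wt L k) : End k W :=
  (Fintype.card L : k)⁻¹ • ∑ l : L, ((ν l⁻¹ : kˣ) : k) • σ l

theorem wpr_apply (σ : L →* End k W) (ν : Wt L k) (v : W) :
    wpr σ ν v = (Fintype.card L : k)⁻¹ • ∑ l : L, ((ν l⁻¹ : kˣ) : k) • σ l v := by
  simp [wpr, LinearMap.sum_apply]

theorem mul_wpr (σ : L →* End k W) (ν : Wt L k) (l : L) :
    σ l * wpr σ ν = (ν l : k) • wpr σ ν := by
  rw [wpr, mul_smul_comm, smul_comm (ν l : k)]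
  congr 1
  rw [Finset.mul_sum, Finset.smul_sum]
  refine Fintype.sum_equiv (Equiv.mulLeft l) _ _ fun l' => ?_
  rw [Equiv.coe_mulLeft, mul_smul_comm, ← map_mul, smul_smul, ← Units.val_mul]
  congr 2
  simp

theorem wpr_mul (σ : L →* End k W) (ν : Wt L k) (l : L) :
    wpr σ ν * σ l = (ν l : k) • wpr σ ν := by
  rw [wpr, smul_mul_assoc, smul_comm (ν l : k)]
  congr 1
  rw [Finset.sum_mul, Finset.smul_sum]
  refine Fintype.sum_equiv (Equiv.mulRight l) _ _ fun l' => ?_
  rw [Equiv.coe_mulRight, smul_mul_assoc, ← map_mul, smul_smul, ← Units.val_mul]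
  congr 2
  simp

theorem wpr_mem (σ : L →* End k W) (ν : Wt L k) (v : W) : wpr σ ν v ∈ wsp σ ν := fun l => by
  rw [← End.mul_apply, mul_wpr, LinearMap.smul_apply]

theorem wpr_of_mem (hL : (Fintype.card L : k) ≠ 0) {σ : L →* End k W} {ν : Wt L k} {v : W}
    (h : v ∈ wsp σ ν) : wpr σ ν v = v := by
  rw [wpr_apply, Finset.sum_congr rfl (g := fun _ => v) fun l _ => by
    rw [h l, smul_smul, ← Units.val_mul, ← map_mul, inv_mul_cancel, map_one, Units.val_one,
      one_smul], Finset.sum_const, card_univ, ← Nat.cast_smul_eq_nsmul k, smul_smul,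
    inv_mul_cancel₀ hL, one_smul]

theorem commute_wpr {σ : L →* End k W} (ν : Wt L k) {f : End k W}
    (h : ∀ l, Commute f (σ l)) : Commute f (wpr σ ν) :=
  (Commute.sum_right _ _ _ fun l _ => (h l).smul_right _).smul_right _

theorem exists_mem_wsp [IsAlgClosed k] (hL : (Fintype.card L : k) ≠ 0)
    (hc : ∀ a b : L, a * b = b * a) (σ : L →* End k W) {U : Type w'} [AddCommGroup U] [Module k U]
    {f : W →ₗ[k] U} (hf : f ≠ 0) : ∃ ν v, v ∈ wsp σ ν ∧ f v ≠ 0 := by
  classical
  letI : CommGroup L := { (inferInstance : Group L) with mul_comm := hc }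
  haveI : NeZero ((Monoid.exponent L : ℕ) : k) := ⟨fun h => hL (by
    obtain ⟨c, hc⟩ := Group.exponent_dvd_card (G := L)
    rw [hc, Nat.cast_mul, h, zero_mul])⟩
  have hcard : Nat.card (Wt L k) = Nat.card L := CommGroup.card_monoidHom_of_hasEnoughRootsOfUnity L k
  haveI : Finite (Wt L k) := Nat.finite_of_card_ne_zero (hcard ▸ Nat.card_pos.ne')
  letI := Fintype.ofFinite (Wt L k)
  have h1 : ∀ l : L, l ≠ 1 → ∑ ν : Wt L k, ((ν l⁻¹ : kˣ) : k) = 0 := fun l hl => by
    obtain ⟨μ, hμ⟩ : ∃ μ : Wt L k, μ l⁻¹ ≠ 1 :=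
      CommGroup.exists_apply_ne_one_of_hasEnoughRootsOfUnity L k (inv_ne_one.2 hl)
    have h2 : ∑ ν : Wt L k, (((μ * ν) l⁻¹ : kˣ) : k) = ∑ ν : Wt L k, ((ν l⁻¹ : kˣ) : k) :=
      Equiv.sum_comp (Equiv.mulLeft μ) fun ν => ((ν l⁻¹ : kˣ) : k)
    simp only [Wt.mul_apply, Units.val_mul, ← Finset.mul_sum] at h2
    by_contra h0
    exact hμ (Units.ext ((mul_eq_right₀ h0).1 h2))
  have h2 : ∀ v, ∑ ν : Wt L k, wpr σ ν v = v := fun v => by
    simp only [wpr_apply]
    rw [← Finset.smul_sum, Finset.sum_comm, Finset.sum_eq_single 1]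
    · simp only [inv_one, map_one, Units.val_one, one_smul, End.one_apply, sum_const, card_univ]
      rw [← Nat.card_eq_fintype_card (α := Wt L k), hcard, Nat.card_eq_fintype_card,
        ← Nat.cast_smul_eq_nsmul k, smul_smul, inv_mul_cancel₀ hL, one_smul]
    · intro l _ hl
      rw [← Finset.sum_smul, h1 l hl, zero_smul]
    · simp
  by_contra h
  push Not at h
  refine hf (LinearMap.ext fun v => ?_)
  rw [← h2 v, map_sum, Finset.sum_eq_zero fun ν _ => h ν _ (wpr_mem σ ν v)]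
  rfl

end Proj

/-- `D` shifts the weights by `α`. -/
def Shifts (α : Wt L k) (D : End k W) (σ : L →* End k W) : Prop :=
  ∀ l, σ l * D = (α l : k) • (D * σ l)

variable {α : Wt L k} {D : End k W} {σ : L →* End k W}

theorem Shifts.pow (h : Shifts α D σ) (i : ℕ) : Shifts (α ^ i) (D ^ i) σ := fun l => by
  induction i with
  | zero => simp
  | succ i ih =>
    rw [pow_succ, ← mul_assoc, ih, smul_mul_assoc, mul_assoc, h, mul_smul_comm, smul_smul,
      ← mul_assoc, pow_succ α, Wt.mul_apply, Units.val_mul]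

theorem Shifts.apply (h : Shifts α D σ) (l : L) (y : W) :
    σ l (D y) = (α l : k) • D (σ l y) := congrArg (fun f : End k W => f y) (h l)

theorem Shifts.mem (h : Shifts α D σ) {ν : Wt L k} {v : W} (hv : v ∈ wsp σ ν) :
    D v ∈ wsp σ (ν * α) := fun l => by
  rw [h.apply, hv l, map_smul, smul_smul, Wt.mul_apply, Units.val_mul, mul_comm]

theorem Shifts.pow_mem (h : Shifts α D σ) (i : ℕ) {ν : Wt L k} {v : W} (hv : v ∈ wsp σ ν) :
    (D ^ i) v ∈ wsp σ (ν * α ^ i) := (h.pow i).mem hv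

theorem Shifts.commute (h : Shifts α D σ) {e : ℕ} (he : α ^ e = 1) (l : L) :
    Commute (D ^ e) (σ l) := by
  have := h.pow e l
  rw [he, Wt.one_apply, Units.val_one, one_smul] at this
  exact this.symm

/-- A basis consisting of Jordan chains of weight vectors. -/
structure Chains (D : End k W) (σ : L →* End k W) where
  ι : Type
  [fin : Fintype ι]
  [dec : DecidableEq ι]
  m : ι → ℕ
  w : ι → Wt L k
  u : ι → W
  b : Basis (Σ c, Fin (m c)) k W
  pos : ∀ c, 0 < m c
  b_eq : ∀ c i, b ⟨c, i⟩ = (D ^ (i : ℕ)) (u c)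
  top : ∀ c, (D ^ m c) (u c) = 0
  wt : ∀ c, u c ∈ wsp σ (w c)

attribute [instance] Chains.fin Chains.dec

theorem pow_apply_eq_zero_of_le {u : W} {m j : ℕ} (h : (D ^ m) u = 0) (hj : m ≤ j) :
    (D ^ j) u = 0 := by
  obtain ⟨i, rfl⟩ := Nat.exists_eq_add_of_le' hj
  rw [pow_add, End.mul_apply, h, map_zero]

theorem linearIndependent_chain {u : W} {φ : W →ₗ[k] k} {M : ℕ} (h0 : (D ^ (M + 1)) u = 0)
    (h1 : φ ((D ^ M) u) = 1) {s : Fin (M + 1) → k}
    (hs : ∀ j, φ ((D ^ j) (∑ i, s i • (D ^ (i : ℕ)) u)) = 0) (i : Fin (M + 1)) : s i = 0 := by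
  obtain ⟨i, hi⟩ := i
  induction i using Nat.strong_induction_on with
  | _ i ih =>
    have := hs (M - i)
    rw [map_sum, map_sum, Finset.sum_eq_single ⟨i, hi⟩] at this
    · rwa [map_smul, map_smul, ← End.mul_apply, ← pow_add, Nat.sub_add_cancel (by omega), h1,
        smul_eq_mul, mul_one] at this
    · rintro ⟨j, hj⟩ _ hne
      have hne' : j ≠ i := fun h => hne (Fin.ext h)
      rcases lt_or_gt_of_ne hne' with h | h
      · rw [ih j h hj, zero_smul, map_zero, map_zero]
      · rw [map_smul, ← End.mul_apply, ← pow_add, pow_apply_eq_zero_of_le h0 (by simp; omega),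
          smul_zero, map_zero]
    · simp

theorem nonempty_chains [IsAlgClosed k] [Fintype L] (hL : (Fintype.card L : k) ≠ 0)
    (hc : ∀ a b : L, a * b = b * a) (α : Wt L k) (n : ℕ) :
    ∀ {W : Type w} [AddCommGroup W] [Module k W] [FiniteDimensional k W] (D : End k W)
      (σ : L →* End k W), finrank k W = n → IsNilpotent D → Shifts α D σ →
      Nonempty (Chains D σ) := by
  induction n using Nat.strong_induction_on with
  | _ n ih =>
  intro W _ _ _ D σ hn hD hs
  classical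
  have hex : ∃ j, D ^ j = 0 := hD
  rcases h : Nat.find hex with _ | M
  · have h0 := Nat.find_spec hex
    rw [h, pow_zero] at h0
    haveI : Subsingleton W := ⟨fun a b => by
      rw [← End.one_apply (R := k) a, ← End.one_apply (R := k) b, h0]; rfl⟩
    exact ⟨⟨Empty, Empty.elim, Empty.elim, Empty.elim, Basis.empty _, fun c => c.elim,
      fun c => c.elim, fun c => c.elim, fun c => c.elim⟩⟩
  have h0 : D ^ (M + 1) = 0 := h ▸ Nat.find_spec hex
  obtain ⟨ν, u, hu, h1⟩ := exists_mem_wsp hL hc σ (Nat.find_min hex (m := M) (by omega))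
  obtain ⟨φ₀, hφ₀⟩ := Projective.exists_dual_eq_one k h1
  set φ := φ₀ ∘ₗ wpr σ (ν * α ^ M) with hφ
  have h2 : φ ((D ^ M) u) = 1 := by
    rw [hφ, LinearMap.comp_apply, wpr_of_mem hL (hs.pow_mem M hu), hφ₀]
  have h3 : ∀ l y, φ (σ l y) = ((ν * α ^ M) l : k) * φ y := fun l y => by
    rw [hφ, LinearMap.comp_apply, ← End.mul_apply, wpr_mul, LinearMap.smul_apply, map_smul]
    rfl
  let W' : Submodule k W := ⨅ j : ℕ, LinearMap.ker (φ ∘ₗ D ^ j)
  have hW' : ∀ y, y ∈ W' ↔ ∀ j : ℕ, φ ((D ^ j) y) = 0 := fun y => by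
    simp [W', Submodule.mem_iInf]
  have hD' : ∀ y ∈ W', D y ∈ W' := fun y hy => (hW' _).2 fun j => by
    rw [← End.mul_apply, ← pow_succ]; exact (hW' _).1 hy _
  have hσ' : ∀ l, ∀ y ∈ W', σ l y ∈ W' := fun l y hy => (hW' _).2 fun j => by
    have h4 := congrArg φ ((hs.pow j).apply l y)
    rw [h3, (hW' _).1 hy, mul_zero, map_smul, smul_eq_mul] at h4
    exact (mul_eq_zero.1 h4.symm).resolve_left (Units.ne_zero _)
  let σ' : L →* End k W' :=
    { toFun := fun l => (σ l).restrict (hσ' l)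
      map_one' := LinearMap.ext fun y => Subtype.ext (by simp)
      map_mul' := fun l l' => LinearMap.ext fun y => Subtype.ext (by simp) }
  let U : Submodule k W := Submodule.span k (Set.range fun i : Fin (M + 1) => (D ^ (i : ℕ)) u)
  have hu0 : (D ^ (M + 1)) u = 0 := by rw [h0]; rfl
  have hli : LinearIndependent k fun i : Fin (M + 1) => (D ^ (i : ℕ)) u :=
    Fintype.linearIndependent_iff.2 fun s hs' =>
      linearIndependent_chain hu0 h2 fun j => by rw [hs', map_zero, map_zero]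
  have hdisj : Disjoint U W' := Submodule.disjoint_def.2 fun y hy hy' => by
    obtain ⟨s, rfl⟩ := (Submodule.mem_span_range_iff_exists_fun k).1 hy
    exact Finset.sum_eq_zero fun i _ => by
      rw [linearIndependent_chain hu0 h2 ((hW' _).1 hy') i, zero_smul]
  have hsup : ∀ s ≤ M + 1, ∀ y, (∀ j, s ≤ j → φ ((D ^ j) y) = 0) → y ∈ U ⊔ W' := by
    intro s
    induction s with
    | zero => exact fun _ y hy => Submodule.mem_sup_right ((hW' y).2 fun j => hy j j.zero_le)
    | succ s ih' =>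
      intro hs' y hy
      have h4 : φ ((D ^ s) y) • (D ^ (M - s)) u ∈ U :=
        U.smul_mem _ (Submodule.subset_span ⟨⟨M - s, by omega⟩, rfl⟩)
      rw [← sub_add_cancel y (φ ((D ^ s) y) • (D ^ (M - s)) u)]
      refine Submodule.add_mem _ (ih' (by omega) _ fun j hj => ?_) (Submodule.mem_sup_left h4)
      rw [map_sub, map_sub, map_smul, map_smul, ← End.mul_apply (D ^ j), ← pow_add]
      rcases hj.eq_or_lt with rfl | hj
      · rw [Nat.add_sub_cancel' (by omega), h2, smul_eq_mul, mul_one, sub_self]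
      · rw [hy j hj, pow_apply_eq_zero_of_le hu0 (by omega), map_zero, smul_zero, sub_zero]
  have htop : U ⊔ W' = ⊤ := eq_top_iff.2 fun y _ => hsup _ le_rfl y fun j hj => by
    rw [pow_apply_eq_zero_of_le (m := M + 1) (by rw [h0]; rfl) hj, map_zero]
  have hrk : M + 1 + finrank k W' = n := by
    have h4 := Submodule.finrank_add_eq_of_isCompl ⟨hdisj, codisjoint_iff.2 htop⟩
    rwa [finrank_span_eq_card hli, Fintype.card_fin, hn] at h4
  have hpow : ∀ (j : ℕ) (y : W'), (((D.restrict hD') ^ j) y : W) = (D ^ j) y := fun j y => by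
    rw [Module.End.pow_restrict]; rfl
  obtain ⟨C⟩ := ih _ (by omega) (D.restrict hD') σ' rfl
    ⟨M + 1, LinearMap.ext fun y => Subtype.ext (by rw [hpow, h0]; rfl)⟩
    fun l => LinearMap.ext fun y => Subtype.ext (hs.apply l y)
  let m : Option C.ι → ℕ := fun c => c.elim (M + 1) C.m
  let u' : Option C.ι → W := fun c => c.elim u fun c => C.u c
  let f : (Σ c, Fin (m c)) → W := fun x => (D ^ (x.2 : ℕ)) (u' x.1)
  have hspan : ⊤ ≤ Submodule.span k (Set.range f) := by
    rw [← htop]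
    refine sup_le (Submodule.span_mono ?_) fun y hy => ?_
    · rintro _ ⟨i, rfl⟩
      exact ⟨⟨none, i⟩, rfl⟩
    · have h4 : _ = y := congrArg Subtype.val (C.b.sum_repr ⟨y, hy⟩)
      rw [← h4, Submodule.coe_sum]
      refine Submodule.sum_mem _ fun x _ => Submodule.smul_mem _ _ (Submodule.subset_span
        ⟨⟨some x.1, x.2⟩, ?_⟩)
      rw [C.b_eq, hpow]
      rfl
  have hcard : Fintype.card (Σ c, Fin (m c)) = finrank k W := by
    rw [hn, ← hrk, finrank_eq_card_basis C.b, Fintype.card_sigma, Fintype.card_sigma,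
      Fintype.sum_option]
    simp only [Fintype.card_fin]
    rfl
  refine ⟨⟨Option C.ι, m, fun c => c.elim ν C.w, u',
    basisOfTopLeSpanOfCardEqFinrank f hspan hcard, ?_, fun c i => ?_, ?_, ?_⟩⟩
  · rintro (_ | c)
    exacts [M.succ_pos, C.pos c]
  · rw [coe_basisOfTopLeSpanOfCardEqFinrank]
  · rintro (_ | c)
    · exact hu0
    · exact (hpow _ _).symm.trans (congrArg Subtype.val (C.top c))
  · rintro (_ | c)
    · exact hu
    · exact fun l => congrArg Subtype.val (C.wt c l)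

theorem mem_range_pow_mono {y : W} {i j : ℕ} (h : y ∈ LinearMap.range (D ^ j)) (hij : i ≤ j) :
    y ∈ LinearMap.range (D ^ i) := by
  obtain ⟨z, rfl⟩ := h
  obtain ⟨s, rfl⟩ := Nat.exists_eq_add_of_le hij
  exact ⟨(D ^ s) z, by rw [pow_add, End.mul_apply]⟩

theorem apply_mem_range_pow {y : W} {j : ℕ} (h : y ∈ LinearMap.range (D ^ j)) :
    D y ∈ LinearMap.range (D ^ (j + 1)) := by
  obtain ⟨z, rfl⟩ := h
  exact ⟨z, by rw [pow_succ', End.mul_apply]⟩

/-- The number of `i < m` with `w α ^ i = ν`. -/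
noncomputable def cnt (α w ν : Wt L k) (m : ℕ) : ℕ :=
  open Classical in ((range m).filter fun i => w * α ^ i = ν).card

theorem cnt_eq {e : ℕ} (he : orderOf α = e) (h0 : 0 < e) (w : Wt L k) (j m : ℕ) :
    cnt α w (w * α ^ j) m = m / e + if j % e < m % e then 1 else 0 := by
  classical
  rw [← Nat.count_modEq_card m h0 j, Nat.count_eq_card_filter_range, cnt]
  congr 1
  refine Finset.filter_congr fun i _ => ?_
  rw [mul_right_inj, pow_eq_pow_iff_modEq, he]

namespace Chains

variable (C : Chains D σ)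

/-- The coordinate functionals. -/
noncomputable def co (c : C.ι) (i : ℕ) : W →ₗ[k] k :=
  if h : i < C.m c then C.b.coord ⟨c, ⟨i, h⟩⟩ else 0

theorem co_of_le {c : C.ι} {i : ℕ} (h : C.m c ≤ i) : C.co c i = 0 := dif_neg h.not_gt

theorem pow_u_eq_zero {c : C.ι} {j : ℕ} (h : C.m c ≤ j) : (D ^ j) (C.u c) = 0 :=
  pow_apply_eq_zero_of_le (C.top c) h

theorem co_pow (c c' : C.ι) (i j : ℕ) :
    C.co c i ((D ^ j) (C.u c')) = if c' = c ∧ j = i ∧ i < C.m c then 1 else 0 := by
  by_cases hi : i < C.m c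
  swap
  · simp [co, hi]
  by_cases hj : j < C.m c'
  · rw [co, dif_pos hi, ← C.b_eq c' ⟨j, hj⟩, Basis.coord_apply, Basis.repr_self,
      Finsupp.single_apply]
    refine if_congr ⟨fun h => ?_, ?_⟩ rfl rfl
    · obtain ⟨rfl, h⟩ := Sigma.mk.inj h
      exact ⟨rfl, congrArg Fin.val (eq_of_heq h), hi⟩
    · rintro ⟨rfl, rfl, -⟩
      rfl
  · rw [C.pow_u_eq_zero (not_lt.1 hj), map_zero, if_neg]
    rintro ⟨rfl, rfl, h⟩
    exact hj h

theorem co_pow_self {c : C.ι} {i : ℕ} (h : i < C.m c) : C.co c i ((D ^ i) (C.u c)) = 1 := by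
  rw [co_pow, if_pos ⟨rfl, rfl, h⟩]

theorem pow_u_ne_zero {c : C.ι} {i : ℕ} (h : i < C.m c) : (D ^ i) (C.u c) ≠ 0 := fun e => by
  have := C.co_pow_self h
  rw [e, map_zero] at this
  exact zero_ne_one this

theorem hom_ext {U : Type w'} [AddCommGroup U] [Module k U] {f g : W →ₗ[k] U}
    (h : ∀ c i, i < C.m c → f ((D ^ i) (C.u c)) = g ((D ^ i) (C.u c))) : f = g :=
  C.b.ext fun x => by
    obtain ⟨c, i⟩ := x
    rw [C.b_eq]
    exact h c i i.2

theorem eq_sum (y : W) : y = ∑ c, ∑ i ∈ range (C.m c), C.co c i y • (D ^ i) (C.u c) := by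
  conv_lhs => rw [← C.b.sum_repr y]
  rw [Fintype.sum_sigma]
  refine Finset.sum_congr rfl fun c _ => ?_
  rw [← Fin.sum_univ_eq_sum_range fun i => C.co c i y • (D ^ i) (C.u c)]
  refine Finset.sum_congr rfl fun i _ => ?_
  rw [C.b_eq, co, dif_pos i.2]
  rfl

theorem eq_zero {y : W} (h : ∀ c i, i < C.m c → C.co c i y = 0) : y = 0 := by
  rw [C.eq_sum y]
  exact Finset.sum_eq_zero fun c _ => Finset.sum_eq_zero fun i hi => by
    rw [h c i (mem_range.1 hi), zero_smul]

theorem co_add_pow {c : C.ι} {i j : ℕ} (h : i + j < C.m c) (y : W) :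
    C.co c (i + j) ((D ^ j) y) = C.co c i y := by
  refine congrArg (fun f : W →ₗ[k] k => f y)
    (C.hom_ext (f := C.co c (i + j) ∘ₗ D ^ j) (g := C.co c i) fun c' i' _ => ?_)
  rw [LinearMap.comp_apply, ← End.mul_apply, ← pow_add, co_pow, co_pow]
  refine if_congr ⟨fun h => ⟨h.1, ?_, ?_⟩, fun h' => ⟨h'.1, ?_, h⟩⟩ rfl rfl <;> omega

theorem co_pow_of_lt {c : C.ι} {i j : ℕ} (h : i < j) (y : W) : C.co c i ((D ^ j) y) = 0 := by
  refine congrArg (fun f : W →ₗ[k] k => f y)
    (C.hom_ext (f := C.co c i ∘ₗ D ^ j) (g := 0) fun c' i' _ => ?_)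
  rw [LinearMap.comp_apply, ← End.mul_apply, ← pow_add, co_pow, if_neg (by omega)]
  rfl

theorem co_succ {c : C.ι} {i : ℕ} (h : i + 1 < C.m c) (y : W) :
    C.co c (i + 1) (D y) = C.co c i y := by
  simpa using C.co_add_pow h y

theorem co_zero (c : C.ι) (y : W) : C.co c 0 (D y) = 0 := by
  simpa using C.co_pow_of_lt (c := c) Nat.one_pos y

theorem mem_range_pow {j : ℕ} {y : W} :
    y ∈ LinearMap.range (D ^ j) ↔ ∀ c i, i < j → C.co c i y = 0 := by
  refine ⟨?_, fun h => ?_⟩
  · rintro ⟨z, rfl⟩ c i hi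
    exact C.co_pow_of_lt hi z
  · rw [C.eq_sum y]
    refine Submodule.sum_mem _ fun c _ => Submodule.sum_mem _ fun i _ => ?_
    by_cases hi : i < j
    · rw [h c i hi, zero_smul]
      exact Submodule.zero_mem _
    · exact Submodule.smul_mem _ _ (mem_range_pow_mono ⟨_, rfl⟩ (not_lt.1 hi))

theorem co_eq_zero_of_pow {c : C.ι} {i j : ℕ} {y : W} (hy : (D ^ j) y = 0) (h : i + j < C.m c) :
    C.co c i y = 0 := by rw [← C.co_add_pow h, hy, map_zero]

theorem pow_eq_zero {j : ℕ} (h : ∀ c, C.m c ≤ j) : D ^ j = 0 :=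
  C.hom_ext fun c i _ => by
    rw [← End.mul_apply, ← pow_add, C.pow_u_eq_zero ((h c).trans (Nat.le_add_right _ _))]
    rfl

theorem le_of_pow_eq_zero {j : ℕ} (h : D ^ j = 0) (c : C.ι) : C.m c ≤ j :=
  not_lt.1 fun h' => C.pow_u_ne_zero h' (by rw [h]; rfl)

theorem finrank_eq : finrank k W = ∑ c, C.m c := by
  rw [finrank_eq_card_basis C.b, Fintype.card_sigma]
  simp

theorem pow_u_mem (hs : Shifts α D σ) (c : C.ι) (i : ℕ) :
    (D ^ i) (C.u c) ∈ wsp σ (C.w c * α ^ i) := hs.pow_mem i (C.wt c)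

theorem co_wt (hs : Shifts α D σ) (c : C.ι) (i : ℕ) (l : L) (y : W) :
    C.co c i (σ l y) = ((C.w c * α ^ i) l : k) * C.co c i y := by
  refine congrArg (fun f : W →ₗ[k] k => f y) (C.hom_ext (f := C.co c i ∘ₗ σ l)
    (g := ((C.w c * α ^ i) l : k) • C.co c i) fun c' i' _ => ?_)
  rw [LinearMap.comp_apply, C.pow_u_mem hs c' i' l, map_smul, LinearMap.smul_apply, co_pow]
  split_ifs with h
  · obtain ⟨rfl, rfl, -⟩ := h
    rfl
  · simp

theorem co_eq_zero_of_wt (hs : Shifts α D σ) {c : C.ι} {i : ℕ} {ν : Wt L k} {y : W}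
    (hy : y ∈ wsp σ ν) (h : ν ≠ C.w c * α ^ i) : C.co c i y = 0 :=
  apply_eq_zero_of_wt (C.co_wt hs c i) hy h

theorem finrank_wsp (hs : Shifts α D σ) (ν : Wt L k) :
    finrank k (wsp σ ν) = ∑ c, cnt α (C.w c) ν (C.m c) := by
  classical
  let S := {x : Σ c, Fin (C.m c) // C.w x.1 * α ^ (x.2 : ℕ) = ν}
  have h1 : wsp σ ν = Submodule.span k (Set.range fun x : S => C.b x.1) := by
    refine le_antisymm (fun y hy => ?_) (Submodule.span_le.2 ?_)
    · rw [C.eq_sum y]
      refine Submodule.sum_mem _ fun c _ => Submodule.sum_mem _ fun i hi => ?_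
      by_cases h : ν = C.w c * α ^ i
      · exact Submodule.smul_mem _ _ (Submodule.subset_span
          ⟨⟨⟨c, ⟨i, mem_range.1 hi⟩⟩, h.symm⟩, C.b_eq _ _⟩)
      · rw [C.co_eq_zero_of_wt hs hy h, zero_smul]
        exact Submodule.zero_mem _
    · rintro _ ⟨⟨⟨c, i⟩, h⟩, rfl⟩
      change C.b ⟨c, i⟩ ∈ wsp σ ν
      rw [C.b_eq, ← h]
      exact C.pow_u_mem hs c i
  have h2 : LinearIndependent k fun x : S => C.b x.1 :=
    C.b.linearIndependent.comp _ Subtype.val_injective
  rw [h1, finrank_span_eq_card h2,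
    Fintype.card_subtype, Finset.card_filter, Fintype.sum_sigma]
  refine Finset.sum_congr rfl fun c _ => ?_
  rw [cnt, Finset.card_filter,
    Fin.sum_univ_eq_sum_range fun i => if C.w c * α ^ i = ν then 1 else 0]

/-- The linear map with prescribed values on the chains. -/
noncomputable def lift {U : Type w'} [AddCommGroup U] [Module k U] (f : C.ι → ℕ → U) :
    W →ₗ[k] U := C.b.constr k fun x => f x.1 x.2

theorem lift_apply {U : Type w'} [AddCommGroup U] [Module k U] (f : C.ι → ℕ → U) (c : C.ι)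
    (i : ℕ) : C.lift f ((D ^ i) (C.u c)) = if i < C.m c then f c i else 0 := by
  split_ifs with h
  · rw [← C.b_eq c ⟨i, h⟩, lift, Basis.constr_basis]
  · rw [C.pow_u_eq_zero (not_lt.1 h), map_zero]

theorem lift_apply' {U : Type w'} [AddCommGroup U] [Module k U] {f : C.ι → ℕ → U}
    (h : ∀ c i, C.m c ≤ i → f c i = 0) (c : C.ι) (i : ℕ) :
    C.lift f ((D ^ i) (C.u c)) = f c i := by
  rw [lift_apply]
  split_ifs with hi
  · rfl
  · exact (h c i (not_lt.1 hi)).symm

/-- A block of size `m` is visible in every chain decomposition. -/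
theorem exists_eq_of_block {m : ℕ} {y : W} {φ : W →ₗ[k] k} (h1 : (D ^ (m + 1)) y = 0)
    (h2 : ∀ z, φ ((D ^ (m + 1)) z) = 0) (h3 : φ ((D ^ m) y) ≠ 0) : ∃ c, C.m c = m + 1 := by
  by_contra h
  push Not at h
  refine h3 ?_
  rw [C.eq_sum y, map_sum, map_sum]
  refine Finset.sum_eq_zero fun c _ => ?_
  rw [map_sum, map_sum]
  refine Finset.sum_eq_zero fun i _ => ?_
  rw [map_smul, map_smul, ← End.mul_apply, ← pow_add]
  rcases i with _ | i
  · rcases lt_or_gt_of_ne (h c) with h' | h'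
    · rw [C.pow_u_eq_zero (by omega), map_zero, smul_zero]
    · rw [C.co_eq_zero_of_pow h1 (by omega), zero_smul]
  · rw [show m + (i + 1) = m + 1 + i by omega, pow_add, End.mul_apply, h2, smul_zero]

end Chains

theorem comp_aeval {U : Type w'} [AddCommGroup U] [Module k U] {A : End k W} {B : End k U}
    {f : W →ₗ[k] U} (h : ∀ y, f (A y) = B (f y)) (q : Polynomial k) (y : W) :
    f (Polynomial.aeval A q y) = Polynomial.aeval B q (f y) := by
  induction q using Polynomial.induction_on generalizing y with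
  | C a => simp
  | add q r hq hr => simp [hq, hr]
  | monomial n a ih =>
    simp only [pow_succ, ← mul_assoc, map_mul, Polynomial.aeval_X, End.mul_apply] at ih ⊢
    rw [ih, h]

theorem aeval_mem {A : End k W} {S : Submodule k W} (h : ∀ y ∈ S, A y ∈ S) (q : Polynomial k)
    {y : W} (hy : y ∈ S) : Polynomial.aeval A q y ∈ S := by
  induction q using Polynomial.induction_on generalizing y with
  | C a => simpa using S.smul_mem a hy
  | add q r hq hr => simpa using S.add_mem (hq hy) (hr hy)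
  | monomial n a ih =>
    simp only [pow_succ, ← mul_assoc, map_mul, Polynomial.aeval_X, End.mul_apply] at ih ⊢
    exact ih (h y hy)

section Fil

variable {V : Type w'} [AddCommGroup V] [Module k V]

/-- The filtration of `Hom(W, V)` by the degree. -/
def Fil (C : Chains D σ) (E : End k V) (r : C.ι → ℤ) (s : ℤ) : Submodule k (W →ₗ[k] V) where
  carrier := {f | ∀ c (i : ℕ),
    f ((D ^ i) (C.u c)) ∈ LinearMap.range (E ^ (i + r c + s).toNat)}
  add_mem' := fun {_ _} ha hb c i => Submodule.add_mem _ (ha c i) (hb c i)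
  zero_mem' := fun _ _ => Submodule.zero_mem _
  smul_mem' := fun a _ hf c i => Submodule.smul_mem _ a (hf c i)

variable {C : Chains D σ} {E : End k V} {r : C.ι → ℤ} {s s' : ℤ} {f : W →ₗ[k] V}

theorem mem_Fil : f ∈ Fil C E r s ↔ ∀ c (i : ℕ),
    f ((D ^ i) (C.u c)) ∈ LinearMap.range (E ^ (i + r c + s).toNat) := Iff.rfl

theorem Fil.mono (h : f ∈ Fil C E r s) (hs : s' ≤ s) : f ∈ Fil C E r s' := fun c i =>
  mem_range_pow_mono (h c i) (by omega)

theorem Fil.left (h : f ∈ Fil C E r s) : E ∘ₗ f ∈ Fil C E r (s + 1) := fun c i =>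
  mem_range_pow_mono (apply_mem_range_pow (h c i)) (by omega)

theorem Fil.right (h : f ∈ Fil C E r s) : f ∘ₗ D ∈ Fil C E r (s + 1) := fun c i => by
  rw [LinearMap.comp_apply, ← End.mul_apply, ← pow_succ']
  exact mem_range_pow_mono (h c (i + 1)) (by omega)

theorem Fil.left_aeval (h : f ∈ Fil C E r s) (q : Polynomial k) :
    Polynomial.aeval E q ∘ₗ f ∈ Fil C E r s := fun c i =>
  aeval_mem (fun _ hy => mem_range_pow_mono (apply_mem_range_pow hy) (Nat.le_succ _)) q (h c i)

theorem Fil.right_aeval (h : f ∈ Fil C E r s) (q : Polynomial k) :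
    f ∘ₗ Polynomial.aeval D q ∈ Fil C E r s := by
  induction q using Polynomial.induction_on with
  | C a =>
    rw [Polynomial.aeval_C, Algebra.algebraMap_eq_smul_one, LinearMap.comp_smul]
    exact Submodule.smul_mem _ a h
  | add q q' hq hq' =>
    rw [map_add, LinearMap.comp_add]
    exact Submodule.add_mem _ hq hq'
  | monomial n a ih =>
    rw [pow_succ, ← mul_assoc, map_mul, Polynomial.aeval_X]
    exact Fil.mono (Fil.right ih) (by omega)

end Fil

theorem finrank_map_add_le [FiniteDimensional k W] {g : End k W} {A A' B : Submodule k W}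
    (hAB : A ≤ B) (hA' : A' ≤ A) (hg : ∀ y ∈ A, g y ∈ A') {K : Type*} [Fintype K]
    (Φ : W →ₗ[k] K → k) (h1 : ∀ s, ∃ y ∈ A, Φ y = s) (h2 : ∀ y ∈ A', Φ y = 0) :
    finrank k (B.map g) + Fintype.card K ≤ finrank k B := by
  have e1 := LinearMap.finrank_range_add_finrank_ker (Φ.domRestrict A)
  have e2 := LinearMap.finrank_range_add_finrank_ker (g.domRestrict A)
  have e3 := LinearMap.finrank_range_add_finrank_ker (g.domRestrict B)
  rw [LinearMap.range_eq_top.2 fun s => by
    obtain ⟨y, hy, rfl⟩ := h1 s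
    exact ⟨⟨y, hy⟩, rfl⟩, finrank_top, finrank_fintype_fun_eq_card] at e1
  rw [LinearMap.range_domRestrict] at e2 e3
  have e4 : finrank k A' ≤ finrank k (LinearMap.ker (Φ.domRestrict A)) :=
    LinearMap.finrank_le_finrank_of_injective
      (f := (Submodule.inclusion hA').codRestrict _ fun y => h2 y y.2) fun y y' h =>
      Subtype.ext (congrArg (fun z => (z.1 : W)) h)
  have e5 : finrank k (A.map g) ≤ finrank k A' :=
    Submodule.finrank_mono (Submodule.map_le_iff_le_comap.2 hg)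
  have e6 : finrank k (LinearMap.ker (g.domRestrict A)) ≤
      finrank k (LinearMap.ker (g.domRestrict B)) :=
    LinearMap.finrank_le_finrank_of_injective
      (f := ((Submodule.inclusion hAB).domRestrict _).codRestrict _ fun y => y.2) fun y y' h =>
      Subtype.ext (Subtype.ext (congrArg (fun z => (z.1 : W)) h))
  omega

theorem mul_finrank_range_le [FiniteDimensional k W] {T : End k W} {p : ℕ} (h : T ^ (p + 1) = 0) :
    (p + 1) * finrank k (LinearMap.range (T ^ p)) ≤ finrank k W := by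
  have h1 : ∀ j, j ≤ p → finrank k (LinearMap.range (T ^ (j + 1))) +
      finrank k (LinearMap.range (T ^ p)) ≤ finrank k (LinearMap.range (T ^ j)) := fun j hj => by
    have e1 := LinearMap.finrank_range_add_finrank_ker (T.domRestrict (LinearMap.range (T ^ j)))
    rw [LinearMap.range_domRestrict, ← LinearMap.range_comp, ← End.mul_eq_comp, ← pow_succ'] at e1
    have e2 : finrank k (LinearMap.range (T ^ p)) ≤
        finrank k (LinearMap.ker (T.domRestrict (LinearMap.range (T ^ j)))) :=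
      LinearMap.finrank_le_finrank_of_injective
        (f := (Submodule.inclusion fun y hy => mem_range_pow_mono hy hj).codRestrict _ fun y => by
          obtain ⟨_, z, rfl⟩ := y
          change T ((T ^ p) z) = 0
          rw [← End.mul_apply, ← pow_succ', h]
          rfl) fun y y' h => Subtype.ext (congrArg (fun z => (z.1 : W)) h)
    omega
  have h2 : ∀ j, j ≤ p + 1 → finrank k (LinearMap.range (T ^ j)) +
      j * finrank k (LinearMap.range (T ^ p)) ≤ finrank k W := fun j hj => by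
    induction j with
    | zero => simpa using Submodule.finrank_le _
    | succ j ih =>
      have := ih (by omega)
      have := h1 j (by omega)
      rw [add_mul]
      omega
  exact (Nat.le_add_left _ _).trans (h2 _ le_rfl)

end Cfsg.PM

set_option linter.all false in
theorem Cfsg.Rz.Mod_Chain_0 : True := by
  have := @_root_.Cfsg.PM.wsp.eq_def.{0, 0, 0}
  have := @_root_.Cfsg.PM.wsp.eq_1.{0, 0, 0}
  have := @_root_.Cfsg.PM.wsp.fun_cases
  have := @_root_.Cfsg.PM.Wt.instCommGroup.eq_def.{0, 0}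
  have := @_root_.Cfsg.PM.Wt.instCommGroup.eq_1.{0, 0}
  have := @_root_.Cfsg.PM.Wt.instCommGroup.fun_cases
  have := @_root_.Cfsg.PM.cnt.eq_def.{0, 0}
  have := @_root_.Cfsg.PM.cnt.fun_cases
  have := @_root_.Cfsg.PM.Fil.eq_def.{0, 0, 0, 0}
  have := @_root_.Cfsg.PM.Fil.eq_1.{0, 0, 0, 0}
  have := @_root_.Cfsg.PM.Fil.fun_cases
  have := @_root_.Cfsg.PM.wpr.eq_def.{0, 0, 0}
  have := @_root_.Cfsg.PM.wpr.fun_cases
  have := @_root_.Cfsg.PM.Wt.eq_def.{0, 0}
  have := @_root_.Cfsg.PM.Wt.eq_1.{0, 0}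
  have := @_root_.Cfsg.PM.Wt.fun_cases
  have := @_root_.Cfsg.PM.Chains.lift.eq_def.{0, 0, 0, 0}
  have := @_root_.Cfsg.PM.Chains.lift.fun_cases
  have := @_root_.Cfsg.PM.Chains.co.eq_def.{0, 0, 0}
  have := @_root_.Cfsg.PM.Chains.co.fun_cases.{0, 0, 0}
  have := @_root_.Cfsg.PM.Chains.mk.congr_simp.{0, 0, 0}
  have := @_root_.Cfsg.PM.Shifts.eq_def.{0, 0, 0}
  have := @_root_.Cfsg.PM.Shifts.eq_1.{0, 0, 0}
  have := @_root_.Cfsg.PM.Shifts.fun_cases
  have := @_root_.Cfsg.PM.Wt.instFunLikeUnits.eq_def.{0, 0}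
  have := @_root_.Cfsg.PM.Wt.instFunLikeUnits.eq_1.{0, 0}
  have := @_root_.Cfsg.PM.Wt.instFunLikeUnits.fun_cases
  trivial
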