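import Cfsg.Agent.Grp.Dickson
import Cfsg.Agent.Mod.Rep
import Mathlib.LinearAlgebra.BilinearForm.Orthogonal

/-!
# Finite groups with a three-dimensional orthogonal representation in characteristic `p`
-/

set_option autoImplicit false

namespace Cfsg

open Subgroup MulAction Module Submodule

universe u v w

theorem mem_normalizer_zpowers_of_conj_mem {G : Type u} [Group G] [Finite G] {x g : G}
    (h : g * x * g⁻¹ ∈ zpowers x) : g ∈ normalizer ((zpowers x : Subgroup G) : Set G) := by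
  refine mem_normalizer_fintype fun n hn => ?_
  obtain ⟨m, rfl⟩ := mem_zpowers_iff.mp hn
  rw [← conj_zpow]
  exact zpow_mem h m

section lin

variable {k : Type v} [Field k] {W : Type w} [AddCommGroup W] [Module k W] [FiniteDimensional k W]
  {B : LinearMap.BilinForm k W}

theorem orth3_two_le {U : Submodule k W} {a b : W} (ha : a ∈ U) (hb : b ∈ U) (h0 : a ≠ 0)
    (h1 : b ∉ k ∙ a) : 2 ≤ finrank k U := by
  have h2 : (k ∙ a) < U := lt_of_le_of_ne ((span_singleton_le_iff_mem _ _).mpr ha)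
    fun h => h1 (h ▸ hb)
  have h3 := Submodule.finrank_lt_finrank_of_lt h2
  rw [finrank_span_singleton h0] at h3
  exact h3

theorem orth3_ne_zero (hs : ∀ v w, B v w = B w v) (hn : ∀ v, (∀ w, B v w = 0) → v = 0)
    (hd : finrank k W ≤ 3) {a b : W} (h0 : a ≠ 0) (h1 : b ∉ k ∙ a) (ha : B a a = 0)
    (hb : B b b = 0) : B a b ≠ 0 := by
  intro hab
  have hB : B.Nondegenerate := ⟨hn, fun v hv => hn v fun w => by rw [hs]; exact hv w⟩
  set U : Submodule k W := span k {a, b} with hU
  have haU : a ∈ U := subset_span (by simp)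
  have hbU : b ∈ U := subset_span (by simp)
  have key : ∀ c, B a c = 0 → B b c = 0 → c ∈ B.orthogonal U := by
    intro c h2 h3
    rw [LinearMap.BilinForm.mem_orthogonal_iff]
    intro n hn
    obtain ⟨α, β, rfl⟩ := mem_span_pair.mp hn
    simp [h2, h3]
  have h4 := orth3_two_le haU hbU h0 h1
  have h5 := orth3_two_le (key a ha (by rw [hs, hab])) (key b hab hb) h0 h1
  rw [LinearMap.BilinForm.finrank_orthogonal hB] at h5
  omega

theorem orth3_scalar (h2 : (2 : k) ≠ 0) (hs : ∀ v w, B v w = B w v)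
    (hn : ∀ v, (∀ w, B v w = 0) → v = 0) (hd : finrank k W ≤ 3) {f : W →ₗ[k] W}
    (hf : ∀ v w, B (f v) (f w) = B v w) {a b c : W} (ha0 : a ≠ 0) (hb0 : b ≠ 0)
    (hab : b ∉ k ∙ a) (hac : c ∉ k ∙ a) (hbc : c ∉ k ∙ b) (ha : B a a = 0) (hb : B b b = 0)
    (hc : B c c = 0) {α β γ : k} (hα : f a = α • a) (hβ : f b = β • b) (hγ : f c = γ • c) :
    f = α • 1 := by
  have h1 := orth3_ne_zero hs hn hd ha0 hab ha hb
  have h3 := orth3_ne_zero hs hn hd ha0 hac ha hc
  have h4 := orth3_ne_zero hs hn hd hb0 hbc hb hc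
  have key : ∀ {x y : W} {s t : k}, f x = s • x → f y = t • y → B x y ≠ 0 → s * t = 1 := by
    intro x y s t hx hy hxy
    have := hf x y
    rw [hx, hy, map_smul, map_smul, LinearMap.smul_apply, smul_eq_mul, smul_eq_mul] at this
    exact mul_right_cancel₀ hxy (by linear_combination this)
  have e1 := key hα hβ h1
  have e2 := key hα hγ h3
  have e3 := key hβ hγ h4
  have hβα : β = α := by linear_combination (-β) * e2 + α * e3
  have hγα : γ = α := by linear_combination (-γ) * e1 + α * e3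
  set E : Submodule k W := LinearMap.ker (f - α • 1) with hE
  have hmem : ∀ x, f x = α • x → x ∈ E := fun x hx => by simp [hE, hx]
  have hle : span k {a, b} ≤ E := span_le.mpr (by
    rintro x (rfl | rfl)
    · exact hmem _ hα
    · exact hmem _ (hβα ▸ hβ))
  have hc' : c ∉ span k {a, b} := by
    intro h
    obtain ⟨s, t, rfl⟩ := mem_span_pair.mp h
    have h5 : 2 * s * t * B a b = 0 := by
      have := hc
      simp only [map_add, map_smul, LinearMap.add_apply, LinearMap.smul_apply, smul_eq_mul, ha, hb,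
        hs b a] at this
      linear_combination this
    rcases mul_eq_zero.mp ((mul_eq_zero.mp h5).resolve_right h1) with h6 | h6
    · have : s = 0 := (mul_eq_zero.mp h6).resolve_left h2
      exact hbc (by rw [this, zero_smul, zero_add]; exact mem_span_singleton.mpr ⟨t, rfl⟩)
    · exact hac (by rw [h6, zero_smul, add_zero]; exact mem_span_singleton.mpr ⟨s, rfl⟩)
  have h6 : span k {a, b} < E := lt_of_le_of_ne hle fun h => hc' (h ▸ hmem c (hγα ▸ hγ))
  have h7 := Submodule.finrank_lt_finrank_of_lt h6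
  have h8 : 2 ≤ finrank k (span k {a, b} : Submodule k W) :=
    orth3_two_le (subset_span (by simp)) (subset_span (by simp)) ha0 hab
  have h9 : E = ⊤ := Submodule.eq_top_of_finrank_eq (le_antisymm E.finrank_le (by omega))
  rw [← sub_eq_zero, ← LinearMap.ker_eq_top, ← hE, h9]

theorem orth3_exists_pair [IsAlgClosed k] (h2 : (2 : k) ≠ 0) (hs : ∀ v w, B v w = B w v)
    (hn : ∀ v, (∀ w, B v w = 0) → v = 0) (hd : 3 ≤ finrank k W) {f : W →ₗ[k] W}
    (hf : ∀ v w, B (f v) (f w) = B v w) {m : ℕ} (hm : (m : k) ≠ 0) (hfm : f ^ m = 1) :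
    ∃ (v w : W) (α β : k), f v = α • v ∧ f w = β • w ∧ B v v = 0 ∧ B w w = 0 ∧ B v w ≠ 0 := by
  classical
  obtain ⟨b, x, -, hx⟩ := exists_eigenbasis_of_pow_eq_one f hm hfm
  have key : ∀ {x y : W} {s t : k}, f x = s • x → f y = t • y → B x y ≠ 0 → s * t = 1 := by
    intro x y s t hx hy hxy
    have := hf x y
    rw [hx, hy, map_smul, map_smul, LinearMap.smul_apply, smul_eq_mul, smul_eq_mul] at this
    exact mul_right_cancel₀ hxy (by linear_combination this)
  have h1 : ∃ (v : W) (α : k), v ≠ 0 ∧ f v = α • v ∧ B v v = 0 := by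
    by_cases h : ∃ i, B (b i) (b i) = 0
    · obtain ⟨i, hi⟩ := h
      exact ⟨b i, x i, b.ne_zero i, hx i, hi⟩
    push Not at h
    have h3 : ∀ i, x i ∈ ({1, -1} : Finset k) := fun i => by
      have := key (hx i) (hx i) (h i)
      simpa [mul_self_eq_one_iff] using this
    obtain ⟨i, -, j, -, hij, hxij⟩ := Finset.exists_ne_map_eq_of_card_lt_of_maps_to
      (s := Finset.univ) (t := ({1, -1} : Finset k)) (f := x)
      (by rw [Finset.card_univ, Fintype.card_fin]; exact lt_of_le_of_lt Finset.card_le_two hd)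
      (fun i _ => h3 i)
    obtain ⟨r, hr⟩ := IsAlgClosed.exists_eq_mul_self
      (B (b i) (b j) ^ 2 - B (b i) (b i) * B (b j) (b j))
    refine ⟨(r - B (b i) (b j)) • b i + B (b i) (b i) • b j, x i, fun h0 => h i ?_, ?_, ?_⟩
    · have := congrArg (fun v => b.repr v j) h0
      simpa [Finsupp.single_apply, hij] using this
    · rw [map_add, map_smul, map_smul, hx i, hx j, ← hxij, smul_add, smul_comm (x i),
        smul_comm (x i)]
    · simp only [map_add, map_smul, LinearMap.add_apply, LinearMap.smul_apply, smul_eq_mul,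
        hs (b j) (b i)]
      linear_combination (-B (b i) (b i)) * hr
  obtain ⟨v, α, hv0, hv, hvv⟩ := h1
  obtain ⟨l, hl⟩ : ∃ l, B v (b l) ≠ 0 := by
    by_contra h
    push Not at h
    refine hv0 (hn v fun w => ?_)
    have : B v = 0 := b.ext fun l => h l
    rw [this]; rfl
  have h3 := key hv (hx l) hl
  by_cases h4 : x l = α
  · refine ⟨v, b l - (B (b l) (b l) / (2 * B v (b l))) • v, α, α, hv, ?_, hvv, ?_, ?_⟩
    · rw [map_sub, map_smul, hx l, hv, h4, smul_sub, smul_comm α]
    · simp only [map_sub, map_smul, LinearMap.sub_apply, LinearMap.smul_apply, smul_eq_mul,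
        hs (b l) v, hvv]
      field_simp
      ring
    · simpa [hvv] using hl
  · refine ⟨v, b l, α, x l, hv, hx l, hvv, ?_, hl⟩
    by_contra h5
    have h6 := key (hx l) (hx l) h5
    exact h4 (by linear_combination (-x l) * h3 + α * h6)

end lin

variable {G : Type u} [Group G] [Finite G] {p : ℕ} [hp : Fact p.Prime]
  {k : Type v} [Field k] [IsAlgClosed k] [CharP k p] {W : Type w} [AddCommGroup W] [Module k W]
  [FiniteDimensional k W] {B : LinearMap.BilinForm k W}

theorem orth3_dickson (hp5 : 5 ≤ p) {x : G} (hx : orderOf x = p) (hsq : ¬ p ^ 2 ∣ Nat.card G)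
    (σ : Representation k G W) (hs : ∀ v w, B v w = B w v) (hn : ∀ v, (∀ w, B v w = 0) → v = 0)
    (hd : finrank k W ≤ 3) (hσ : ∀ g v w, B (σ g v) (σ g w) = B v w) {s : W} (hs0 : s ≠ 0)
    (hss : B s s = 0) (hfix : ∀ v, σ x v = v ↔ v ∈ k ∙ s) (hu : (σ x - 1) ^ 3 = 0)
    (hmov : ∃ g, σ g s ∉ k ∙ s) :
    ∃ (K : Subgroup G) (_ : K.Normal), SelfCent p (x : G ⧸ K) ∧
      (normalizer ((zpowers (x : G ⧸ K) : Subgroup (G ⧸ K)) : Set (G ⧸ K))).index = p + 1 ∧
      p - 1 ≤ 2 * (zpowers (x : G ⧸ K)).relIndex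
        (normalizer ((zpowers (x : G ⧸ K) : Subgroup (G ⧸ K)) : Set (G ⧸ K))) := by
  classical
  have h2 : (2 : k) ≠ 0 := by
    intro h
    have : p ∣ 2 := (CharP.cast_eq_zero_iff k p 2).mp (by exact_mod_cast h)
    exact absurd (Nat.le_of_dvd two_pos this) (by omega)
  have hinv : ∀ g v, σ g⁻¹ (σ g v) = v := fun g v => by
    rw [← Module.End.mul_apply, ← map_mul, inv_mul_cancel, map_one]; rfl
  have hinv' : ∀ g v, σ g (σ g⁻¹ v) = v := fun g v => by simp
  have hadj : ∀ g v w, B (σ g v) w = B v (σ g⁻¹ w) := fun g v w => by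
    rw [← hσ g v, hinv']
  have hxs : σ x s = s := (hfix s).mpr (mem_span_singleton_self s)
  have hxs' : σ x⁻¹ s = s := by conv_lhs => rw [← hxs, hinv]
  have hu3 : ∀ v, (σ x - 1) ((σ x - 1) ((σ x - 1) v)) = 0 := fun v => by
    have := congrArg (fun f => f v) hu
    simpa only [pow_three, Module.End.mul_apply, LinearMap.zero_apply] using this
  have hker : ∀ v, (σ x - 1) v = 0 ↔ v ∈ k ∙ s := fun v => by
    rw [← hfix, LinearMap.sub_apply, sub_eq_zero]; rfl
  obtain ⟨w0, hw0⟩ : ∃ w, B s w ≠ 0 := by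
    by_contra h
    push Not at h
    exact hs0 (hn s h)
  -- `x` acts trivially on `s^⊥ / k s`
  have hxperp : ∀ w, B w s = 0 → σ x w - w ∈ k ∙ s := by
    intro w hw
    rw [← hker]
    refine hn _ fun v => ?_
    have h3 : ∀ a b, B ((σ x - 1) a) b = - B a ((σ x - 1) (σ x⁻¹ b)) := fun a b => by
      simp only [LinearMap.sub_apply, Module.End.one_apply, map_sub, hinv', hadj]
      ring
    have h4 : ∀ b, σ x⁻¹ ((σ x - 1) b) = (σ x - 1) (σ x⁻¹ b) := fun b => by
      simp only [LinearMap.sub_apply, Module.End.one_apply, map_sub, hinv', hinv]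
    change B ((σ x - 1) ((σ x - 1) w)) v = 0
    rw [h3, h3, h4]
    obtain ⟨c, hc⟩ := mem_span_singleton.mp ((hker _).mp (hu3 (σ x⁻¹ (σ x⁻¹ v))))
    rw [← hc, map_smul, hw]; simp
  have hd3 : 3 ≤ finrank k W := by
    have h3 : σ x w0 - w0 ∉ k ∙ s := by
      intro h
      obtain ⟨c, hc⟩ := mem_span_singleton.mp h
      have h4 := hσ x w0 w0
      rw [show σ x w0 = w0 + c • s by rw [hc]; abel] at h4
      simp only [map_add, map_smul, LinearMap.add_apply, LinearMap.smul_apply, smul_eq_mul, hss,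
        hs w0 s] at h4
      have h5 : c = 0 := by
        have : 2 * c * B s w0 = 0 := by linear_combination h4
        exact (mul_eq_zero.mp ((mul_eq_zero.mp this).resolve_right hw0)).resolve_left h2
      rw [h5, zero_smul, eq_comm, sub_eq_zero, hfix] at hc
      obtain ⟨c', hc'⟩ := mem_span_singleton.mp hc
      exact hw0 (by rw [← hc', map_smul, hss, smul_zero])
    have h4 : 2 ≤ finrank k (LinearMap.ker (B s)) :=
      orth3_two_le (a := s) (b := σ x w0 - w0) hss (by
        rw [LinearMap.mem_ker, map_sub, ← hσ x⁻¹ s, hinv, hxs', sub_self]) hs0 h3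
    have h5 : LinearMap.ker (B s) < ⊤ := lt_top_iff_ne_top.mpr fun h =>
      hw0 (by rw [← LinearMap.mem_ker, h]; trivial)
    have h6 := Submodule.finrank_lt_finrank_of_lt h5
    rw [finrank_top] at h6
    omega
  -- the scalars
  let K : Subgroup G :=
    { carrier := {g | ∃ c : k, σ g = c • 1}
      mul_mem' := by
        rintro a b ⟨c, hc⟩ ⟨d, hd⟩
        exact ⟨c * d, by rw [map_mul, hc, hd, smul_mul_smul_comm, one_mul]⟩
      one_mem' := ⟨1, by rw [map_one, one_smul]⟩
      inv_mem' := by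
        rintro a ⟨c, hc⟩
        have hc0 : c ≠ 0 := fun h => hs0 (by rw [← hinv a s, hc, h]; simp)
        refine ⟨c⁻¹, LinearMap.ext fun v => ?_⟩
        have := hinv' a v
        rw [hc, LinearMap.smul_apply, Module.End.one_apply] at this
        rw [LinearMap.smul_apply, Module.End.one_apply]
        conv_rhs => rw [← this]
        rw [smul_smul, inv_mul_cancel₀ hc0, one_smul] }
  have hK : ∀ g, g ∈ K ↔ ∃ c : k, σ g = c • 1 := fun _ => Iff.rfl
  haveI hKn : K.Normal := ⟨fun n hn g => by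
    obtain ⟨c, hc⟩ := (hK n).mp hn
    refine (hK _).mpr ⟨c, ?_⟩
    rw [map_mul, map_mul, hc, mul_smul_comm, mul_one, smul_mul_assoc, ← map_mul, mul_inv_cancel,
      map_one]⟩
  have hxK : x ∉ K := by
    rintro ⟨c, hc⟩
    have h3 : c = 1 := by
      have := hxs
      rw [hc, LinearMap.smul_apply, Module.End.one_apply] at this
      exact smul_left_injective k hs0 (by simpa using this)
    obtain ⟨c', hc'⟩ := mem_span_singleton.mp ((hfix w0).mp (by rw [hc, h3]; simp))
    exact hw0 (by rw [← hc', map_smul, hss, smul_zero])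
  -- the isotropic lines fixed by non-scalar elements
  let Iso : Submodule k W → Prop := fun L => ∃ v, v ≠ 0 ∧ B v v = 0 ∧ L = k ∙ v
  let X := {L : Submodule k W // Iso L ∧ ∃ g, g ∉ K ∧ L.map (σ g) = L}
  have hmap : ∀ (g h : G) (L : Submodule k W), (L.map (σ h)).map (σ g) = L.map (σ (g * h)) :=
    fun g h L => by rw [map_mul, Module.End.mul_eq_comp, Submodule.map_comp]
  have hmap1 : ∀ L : Submodule k W, L.map (σ 1) = L := fun L => by
    rw [map_one, Module.End.one_eq_id, Submodule.map_id]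
  letI act : MulAction G X :=
    { smul := fun g L => ⟨L.1.map (σ g), by
        obtain ⟨⟨v, hv0, hvv, hv⟩, h, hh, hL⟩ := L.2
        refine ⟨⟨σ g v, fun h0 => hv0 (by rw [← hinv g v, h0, map_zero]), by rw [hσ, hvv], ?_⟩,
          g * h * g⁻¹, fun h' => hh (by simpa [mul_assoc] using hKn.conj_mem _ h' g⁻¹), ?_⟩
        · rw [hv, Submodule.map_span, Set.image_singleton]
        · rw [hmap, inv_mul_cancel_right, ← hmap, hL]⟩
      one_smul := fun L => Subtype.ext (hmap1 L.1)
      mul_smul := fun g h L => Subtype.ext (hmap g h L.1).symm }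
  have hact : ∀ (g : G) (L : X), (g • L).1 = L.1.map (σ g) := fun _ _ => rfl
  have heig : ∀ (g : G) (v : W), v ≠ 0 → ((k ∙ v).map (σ g) = k ∙ v ↔ ∃ c : k, σ g v = c • v) := by
    intro g v hv
    rw [Submodule.map_span, Set.image_singleton]
    constructor
    · intro h
      obtain ⟨c, hc⟩ := mem_span_singleton.mp (h ▸ mem_span_singleton_self (σ g v))
      exact ⟨c, hc.symm⟩
    · rintro ⟨c, hc⟩
      have hc0 : c ≠ 0 := fun h => hv (by rw [← hinv g v, hc, h, zero_smul, map_zero])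
      rw [hc, span_singleton_smul_eq (IsUnit.mk0 c hc0)]
  have hKact : K ≤ (toPermHom G X).ker := by
    intro g hg
    obtain ⟨c, hc⟩ := (hK g).mp hg
    refine Equiv.ext fun L => Subtype.ext ?_
    obtain ⟨⟨v, hv0, -, hv⟩, -⟩ := L.2
    change L.1.map (σ g) = L.1
    rw [hv, heig g v hv0]
    exact ⟨c, by rw [hc]; rfl⟩
  letI act' : MulAction (G ⧸ K) X :=
    MulAction.compHom X (QuotientGroup.lift K (toPermHom G X) hKact)
  have hact' : ∀ (g : G) (L : X), ((g : G ⧸ K) • L).1 = L.1.map (σ g) := fun _ _ => rfl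
  have hnot : ∀ {v w : W}, v ≠ 0 → w ≠ 0 → (k ∙ v) ≠ (k ∙ w) → w ∉ k ∙ v := by
    intro v w hv hw hne h
    obtain ⟨c, rfl⟩ := mem_span_singleton.mp h
    have hc0 : c ≠ 0 := fun h => hw (by rw [h, zero_smul])
    exact hne (span_singleton_smul_eq (IsUnit.mk0 c hc0) v).symm
  have hthree : ∀ g, g ∉ K → ∀ t : Finset (Submodule k W),
      (∀ L ∈ t, Iso L ∧ L.map (σ g) = L) → t.card ≠ 3 := by
    intro g hg t ht h3
    obtain ⟨L1, L2, L3, h12, h13, h23, rfl⟩ := Finset.card_eq_three.mp h3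
    obtain ⟨⟨a, ha0, haa, rfl⟩, ha⟩ := ht L1 (by simp)
    obtain ⟨⟨b, hb0, hbb, rfl⟩, hb⟩ := ht L2 (by simp)
    obtain ⟨⟨c, hc0, hcc, rfl⟩, hc⟩ := ht L3 (by simp)
    obtain ⟨α, hα⟩ := (heig g a ha0).mp ha
    obtain ⟨β, hβ⟩ := (heig g b hb0).mp hb
    obtain ⟨γ, hγ⟩ := (heig g c hc0).mp hc
    exact hg ⟨α, orth3_scalar h2 hs hn hd (hσ g) ha0 hb0 (hnot ha0 hb0 h12) (hnot ha0 hc0 h13)
      (hnot hb0 hc0 h23) haa hbb hcc hα hβ hγ⟩
  haveI : Finite X := by
    have h3 : ∀ g, g ∉ K → {L : Submodule k W | Iso L ∧ L.map (σ g) = L}.Finite := by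
      intro g hg
      by_contra h
      obtain ⟨t, ht, htc⟩ := (Set.not_finite.mp h).exists_subset_card_eq 3
      exact hthree g hg t (fun L hL => ht hL) htc
    have h4 := (Set.toFinite {g : G | g ∉ K}).biUnion h3
    refine Set.Finite.subset h4 ?_
    rintro L ⟨h5, g, hg, hL⟩
    exact Set.mem_biUnion (x := g) hg ⟨h5, hL⟩
  let y0 : X := ⟨k ∙ s, ⟨s, hs0, hss, rfl⟩, x, hxK, (heig x s hs0).mpr ⟨1, by rw [hxs, one_smul]⟩⟩
  have hxo : orderOf (x : G ⧸ K) = p := by
    have h3 : orderOf (x : G ⧸ K) ∣ p := hx ▸ orderOf_map_dvd (QuotientGroup.mk' K) x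
    exact ((Nat.dvd_prime hp.out).mp h3).resolve_left fun h =>
      hxK ((QuotientGroup.eq_one_iff x).mp (orderOf_eq_one_iff.mp h))
  have hsq' : ¬ p ^ 2 ∣ Nat.card (G ⧸ K) := fun h => hsq (h.trans (card_quotient_dvd_card K))
  refine ⟨K, hKn, dickson_count (X := X) (y0 := y0) hp5 hxo hsq' ?_ ?_ ?_ ?_ ?_⟩
  · intro L
    obtain ⟨⟨v, hv0, -, hv⟩, -⟩ := L.2
    rw [Subtype.ext_iff, hact', Subtype.ext_iff, hv, heig x v hv0]
    constructor
    · rintro ⟨c, hc⟩
      have h3 : (σ x - 1) v = (c - 1) • v := by simp [hc, sub_smul]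
      have h4 := hu3 v
      simp only [h3, map_smul, smul_smul] at h4
      have h5 : c - 1 = 0 := by simpa [hv0] using h4
      rw [h5, zero_smul, hker] at h3
      by_contra h6
      exact hnot hs0 hv0 (Ne.symm h6) h3
    · intro h
      have h' : (k ∙ v) = k ∙ s := h
      exact ⟨1, by rw [one_smul, hfix]; exact h' ▸ mem_span_singleton_self v⟩
  · intro g hg1 hgp
    obtain ⟨g0, rfl⟩ := QuotientGroup.mk_surjective g
    have h3 : ((pPrimePart p g0 : G) : G ⧸ K) = g0 := by
      rw [mk_pPrimePart, pPrimePart_eq_self_iff]; exact hgp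
    set g := pPrimePart p g0
    have hg : IsPRegular p g := isPRegular_pPrimePart p g0
    rw [← h3] at hg1 ⊢
    have hgK : g ∉ K := fun h => hg1 ((QuotientGroup.eq_one_iff g).mpr h)
    refine le_antisymm ?_ ?_
    · by_contra h
      obtain ⟨t, ht, htc⟩ := Set.exists_subset_card_eq (show 3 ≤ _ from not_le.mp h)
      have hfin := (Set.toFinite t)
      refine hthree g hgK (hfin.toFinset.map (Function.Embedding.subtype _)) (fun L hL => ?_) ?_
      · obtain ⟨L', hL', rfl⟩ := Finset.mem_map.mp hL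
        exact ⟨L'.2.1, congrArg Subtype.val (mem_fixedBy.mp (ht (hfin.mem_toFinset.mp hL')))⟩
      · rw [Finset.card_map, ← htc, Set.ncard_eq_toFinset_card _ hfin]
    · obtain ⟨v, w, α, β, hv, hw, hvv, hww, hvw⟩ := orth3_exists_pair h2 hs hn hd3 (hσ g)
        (m := orderOf g) (fun h => hg ((CharP.cast_eq_zero_iff k p _).mp h))
        (by rw [← map_pow, pow_orderOf_eq_one, map_one])
      have hv0 : v ≠ 0 := fun h => hvw (by rw [h]; simp)
      have hw0 : w ≠ 0 := fun h => hvw (by rw [h]; simp)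
      have h4 := (heig g v hv0).mpr ⟨α, hv⟩
      have h5 := (heig g w hw0).mpr ⟨β, hw⟩
      refine (Set.one_lt_ncard (Set.toFinite _)).mpr ⟨⟨k ∙ v, ⟨v, hv0, hvv, rfl⟩, g, hgK, h4⟩,
        Subtype.ext h4, ⟨k ∙ w, ⟨w, hw0, hww, rfl⟩, g, hgK, h5⟩, Subtype.ext h5, fun h => hvw ?_⟩
      have h6 : (k ∙ v) = k ∙ w := congrArg Subtype.val h
      obtain ⟨c, hc⟩ := mem_span_singleton.mp (h6 ▸ mem_span_singleton_self w : w ∈ k ∙ v)
      rw [← hc, map_smul, hvv, smul_zero]
  · intro L
    obtain ⟨-, g, hg, hL⟩ := L.2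
    exact ⟨g, fun h => hg ((QuotientGroup.eq_one_iff g).mp h), Subtype.ext hL⟩
  · intro g hg
    obtain ⟨g, rfl⟩ := QuotientGroup.mk_surjective g
    obtain ⟨c, hc⟩ := (heig g s hs0).mp (congrArg Subtype.val hg)
    let J : Subgroup G :=
      { carrier := {j | σ j s = s ∧ ∀ w, B w s = 0 → σ j w - w ∈ k ∙ s}
        mul_mem' := by
          rintro a b ⟨ha, ha'⟩ ⟨hb, hb'⟩
          refine ⟨by rw [map_mul, Module.End.mul_apply, hb, ha], fun w hw => ?_⟩
          obtain ⟨d, hd⟩ := mem_span_singleton.mp (hb' w hw)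
          have : σ (a * b) w - w = d • s + (σ a w - w) := by
            rw [map_mul, Module.End.mul_apply, show σ b w = d • s + w by rw [hd]; abel, map_add,
              map_smul, ha]
            abel
          rw [this]
          exact add_mem (mem_span_singleton.mpr ⟨d, rfl⟩) (ha' w hw)
        one_mem' := ⟨by simp, fun w _ => by simp⟩
        inv_mem' := by
          rintro a ⟨ha, ha'⟩
          have ha1 : σ a⁻¹ s = s := by conv_lhs => rw [← ha, hinv]
          refine ⟨ha1, fun w hw => ?_⟩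
          obtain ⟨d, hd⟩ := mem_span_singleton.mp (ha' w hw)
          have := congrArg (σ a⁻¹) hd
          rw [map_smul, map_sub, ha1, hinv] at this
          exact mem_span_singleton.mpr ⟨-d, by rw [neg_smul, this]; abel⟩ }
    have hJ : IsPGroup p (J.map (QuotientGroup.mk' K)) := by
      rw [isPGroup_iff_forall_isPElt]
      rintro _ ⟨j, ⟨hj, hj'⟩, rfl⟩
      refine isPElt_iff_pow_eq_one.mpr ⟨1, ?_⟩
      rw [pow_one, ← map_pow, QuotientGroup.mk'_apply, QuotientGroup.eq_one_iff]
      refine ⟨1, ?_⟩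
      have h3 : (σ j - 1) ^ 3 = 0 := by
        refine LinearMap.ext fun w => ?_
        have h4 : B (σ j w - w) s = 0 := by
          rw [map_sub, LinearMap.sub_apply, ← hσ j w s, hj, sub_self]
        obtain ⟨d, hd⟩ := mem_span_singleton.mp (hj' _ h4)
        simp only [pow_three, Module.End.mul_apply, LinearMap.zero_apply, LinearMap.sub_apply,
          Module.End.one_apply]
        rw [← hd, map_smul, hj, sub_self]
      haveI : Nontrivial W := ⟨⟨s, 0, hs0⟩⟩
      haveI : CharP (Module.End k W) p := charP_of_injective_algebraMap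
        (FaithfulSMul.algebraMap_injective k _) p
      have h5 := sub_pow_char_of_commute (p := p) (Commute.one_right (σ j))
      rw [pow_eq_zero_of_le (show 3 ≤ p by omega) h3, one_pow, eq_comm, sub_eq_zero] at h5
      rw [map_pow, h5, one_smul]
    have hxJ : x ∈ J := ⟨hxs, hxperp⟩
    have hgJ : g * x * g⁻¹ ∈ J := by
      have hc0 : c ≠ 0 := fun h => hs0 (by rw [← hinv g s, hc, h, zero_smul, map_zero])
      have hc' : σ g⁻¹ s = c⁻¹ • s := by
        have := hinv g s
        rw [hc, map_smul] at this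
        conv_rhs => rw [← this]
        rw [smul_smul, inv_mul_cancel₀ hc0, one_smul]
      refine ⟨?_, fun w hw => ?_⟩
      · simp only [map_mul, Module.End.mul_apply]
        rw [hc', map_smul, hxs, ← hc', hinv']
      · have h3 : B (σ g⁻¹ w) s = 0 := by rw [hadj, inv_inv, hc, map_smul, hw, smul_zero]
        obtain ⟨d, hd⟩ := mem_span_singleton.mp (hxperp _ h3)
        have := congrArg (σ g) hd
        rw [map_smul, map_sub, hinv', hc, smul_smul] at this
        simp only [map_mul, Module.End.mul_apply]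
        exact mem_span_singleton.mpr ⟨_, this⟩
    have hle : zpowers (x : G ⧸ K) ≤ J.map (QuotientGroup.mk' K) :=
      zpowers_le.mpr ⟨x, hxJ, rfl⟩
    have heq : zpowers (x : G ⧸ K) = J.map (QuotientGroup.mk' K) := by
      obtain ⟨n, hn⟩ := hJ.exists_card_eq
      have hn1 : n ≤ 1 := by
        by_contra hk2
        exact hsq' (((pow_dvd_pow p (by omega)).trans hn.symm.dvd).trans
          (card_subgroup_dvd_card _))
      refine eq_of_le_of_card_ge hle ?_
      rw [hn, Nat.card_zpowers, hxo]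
      calc p ^ n ≤ p ^ 1 := Nat.pow_le_pow_right hp.out.pos hn1
        _ = p := pow_one p
    refine mem_normalizer_zpowers_of_conj_mem ?_
    rw [heq]
    exact ⟨_, hgJ, rfl⟩
  · obtain ⟨g, hg⟩ := hmov
    refine ⟨g, fun h => hg ?_⟩
    obtain ⟨c, hc⟩ := (heig g s hs0).mp (congrArg Subtype.val h)
    exact mem_span_singleton.mpr ⟨c, hc.symm⟩

end Cfsg
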