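import Cfsg.Agent.Mod.PrimeHom

/-!
# The endomorphism module of a uniserial module
-/

set_option autoImplicit false
set_option linter.unusedSectionVars false
set_option linter.style.haveILetI false

namespace Cfsg.PM

open Module Finset Subgroup Polynomial

universe u v w w'

section Lin

variable {k : Type v} [Field k] {L : Type u} [Group L] {V : Type w} [AddCommGroup V] [Module k V]
  {D : End k V} {σ : L →* End k V}

theorem Chains.trace_eq (C : Chains D σ) (a : End k V) : LinearMap.trace k V a =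
    ∑ c, ∑ i ∈ range (C.m c), C.co c i (a ((D ^ i) (C.u c))) := by
  rw [LinearMap.trace_eq_matrix_trace k C.b, Matrix.trace, Fintype.sum_sigma]
  refine sum_congr rfl fun c _ => ?_
  rw [← Fin.sum_univ_eq_sum_range fun i => C.co c i (a ((D ^ i) (C.u c)))]
  refine sum_congr rfl fun i _ => ?_
  rw [Matrix.diag_apply, LinearMap.toMatrix_apply, C.b_eq, Chains.co, dif_pos i.2]
  rfl

variable {C : Chains D σ} {s s' : ℤ} {a b : End k V}

theorem Fil.trace_eq_zero (ha : a ∈ Fil C D 0 1) : LinearMap.trace k V a = 0 := by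
  rw [C.trace_eq]
  exact sum_eq_zero fun c _ => sum_eq_zero fun i _ =>
    C.mem_range_pow.1 (ha c i) c i (by simp)

theorem Fil.apply_mem (ha : a ∈ Fil C D 0 s) {j : ℕ} {y : V} (hy : y ∈ LinearMap.range (D ^ j)) :
    a y ∈ LinearMap.range (D ^ (j + s).toNat) := by
  rw [C.eq_sum y, map_sum]
  refine Submodule.sum_mem _ fun c _ => ?_
  rw [map_sum]
  refine Submodule.sum_mem _ fun i _ => ?_
  rw [map_smul]
  by_cases hi : i < j
  · rw [C.mem_range_pow.1 hy c i hi, zero_smul]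
    exact Submodule.zero_mem _
  · exact Submodule.smul_mem _ _ (mem_range_pow_mono (ha c i) (by simp; omega))

theorem Fil.mul (ha : a ∈ Fil C D 0 s) (hb : b ∈ Fil C D 0 s') : a * b ∈ Fil C D 0 (s + s') :=
  fun c i => mem_range_pow_mono (Fil.apply_mem ha (hb c i)) (by simp; omega)

theorem mem_fil_bot {c : C.ι} (hc : ∀ d, d = c) (a : End k V) : a ∈ Fil C D 0 (1 - C.m c) := by
  intro d i
  obtain rfl := hc d
  by_cases hi : i < C.m d
  · rw [show ((i : ℤ) + (0 : C.ι → ℤ) d + (1 - C.m d)).toNat = 0 by simp; omega]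
    exact ⟨_, rfl⟩
  · rw [C.pow_u_eq_zero (not_lt.1 hi), map_zero]
    exact Submodule.zero_mem _

theorem Fil.succ (ha : a ∈ Fil C D 0 s) {c : C.ι} (hc : ∀ d, d = c)
    (h : ∀ i j : ℕ, (j : ℤ) = i + s → C.co c j (a ((D ^ i) (C.u c))) = 0) :
    a ∈ Fil C D 0 (s + 1) := fun d i => C.mem_range_pow.2 fun d' j hj => by
  obtain rfl := hc d
  obtain rfl := hc d'
  by_cases h1 : (j : ℤ) = i + s
  · exact h i j h1
  · exact C.mem_range_pow.1 (ha d' i) d' j (by simp at hj ⊢; omega)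

theorem Fil.succ_of_neg (ha : a ∈ Fil C D 0 s) {c : C.ι} (hc : ∀ d, d = c) (hs : s < 0)
    (h : D * a - a * D ∈ Fil C D 0 (s + 2)) : a ∈ Fil C D 0 (s + 1) := by
  refine Fil.succ ha hc fun i j => ?_
  induction j generalizing i with
  | zero =>
    intro hi
    obtain ⟨i, rfl⟩ : ∃ i', i = i' + 1 := ⟨i - 1, by omega⟩
    have := C.mem_range_pow.1 (h c i) c 0 (by simp; omega)
    rwa [LinearMap.sub_apply, map_sub, End.mul_apply, C.co_zero, zero_sub, neg_eq_zero,
      End.mul_apply, ← End.mul_apply D, ← pow_succ'] at this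
  | succ j ih =>
    intro hi
    obtain ⟨i, rfl⟩ : ∃ i', i = i' + 1 := ⟨i - 1, by omega⟩
    by_cases hj : j + 1 < C.m c
    · have := C.mem_range_pow.1 (h c i) c (j + 1) (by simp; omega)
      rwa [LinearMap.sub_apply, map_sub, End.mul_apply, C.co_succ hj, ih i (by omega), zero_sub,
        neg_eq_zero, End.mul_apply, ← End.mul_apply D, ← pow_succ'] at this
    · rw [C.co_of_le (not_lt.1 hj), LinearMap.zero_apply]

/-- The adjoint action of `D`. -/
def adj (D : End k V) : End k (End k V) := LinearMap.mulLeft k D - LinearMap.mulRight k D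

theorem adj_apply (D a : End k V) : adj D a = D * a - a * D := rfl

theorem adj_pow_left (j : ℕ) (a : End k V) : (adj D ^ j) (D * a) = D * (adj D ^ j) a := by
  induction j with
  | zero => rfl
  | succ j ih => simp only [pow_succ', End.mul_apply, ih, adj_apply, mul_sub, mul_assoc]

theorem adj_pow_right (j : ℕ) (a : End k V) : (adj D ^ j) (a * D) = (adj D ^ j) a * D := by
  induction j with
  | zero => rfl
  | succ j ih => simp only [pow_succ', End.mul_apply, ih, adj_apply, sub_mul, mul_assoc]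

theorem adj_pow_mul_aeval {j : ℕ} (h : (adj D ^ j) a = 0) (r : k[X]) :
    (adj D ^ j) (a * aeval D r) = 0 := by
  induction r using Polynomial.induction_on with
  | C c => rw [aeval_C, Algebra.algebraMap_eq_smul_one, mul_smul_comm, mul_one, map_smul, h,
      smul_zero]
  | add r r' hr hr' => rw [map_add, mul_add, map_add, hr, hr', add_zero]
  | monomial n c ih => rw [pow_succ, ← mul_assoc, map_mul (aeval D), aeval_X, ← mul_assoc,
      adj_pow_right, ih, zero_mul]

theorem adj_pow_comm_aeval {j : ℕ} (h : (adj D ^ (j + 1)) a = 0) (r : k[X]) :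
    (adj D ^ j) (aeval D r * a - a * aeval D r) = 0 := by
  induction r using Polynomial.induction_on with
  | C c => rw [aeval_C, Algebra.commutes, sub_self, map_zero]
  | add r r' hr hr' => rw [map_add, mul_add, add_mul, add_sub_add_comm, map_add, hr, hr', add_zero]
  | monomial n c ih =>
    have h1 : aeval D (Polynomial.C c * X ^ (n + 1)) = D * aeval D (Polynomial.C c * X ^ n) := by
      rw [pow_succ', mul_left_comm, map_mul, aeval_X]
    have h2 := adj_pow_mul_aeval (a := adj D a) h (Polynomial.C c * X ^ n)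
    rw [h1]
    generalize aeval D (Polynomial.C c * X ^ n) = y at ih h2
    rw [show D * y * a - a * (D * y) = D * (y * a - a * y) + adj D a * y by
      rw [adj_apply]; noncomm_ring, map_add, adj_pow_left, ih, h2, mul_zero, add_zero]

/-- Homogeneous endomorphisms. -/
def Hm (C : Chains D σ) (c : C.ι) (r : ℕ) : Submodule k (End k V) where
  carrier := {f | ∀ i : ℕ, f ((D ^ i) (C.u c)) ∈ k ∙ (D ^ (i + r)) (C.u c)}
  add_mem' := fun {_ _} ha hb i => Submodule.add_mem _ (ha i) (hb i)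
  zero_mem' := fun _ => Submodule.zero_mem _
  smul_mem' := fun a _ hf i => Submodule.smul_mem _ a (hf i)

theorem Hm.adj {c : C.ι} {r : ℕ} (ha : a ∈ Hm C c r) : adj D a ∈ Hm C c (r + 1) := fun i => by
  obtain ⟨s, hs⟩ := Submodule.mem_span_singleton.1 (ha i)
  obtain ⟨s', hs'⟩ := Submodule.mem_span_singleton.1 (ha (i + 1))
  refine Submodule.mem_span_singleton.2 ⟨s - s', ?_⟩
  rw [adj_apply, LinearMap.sub_apply, End.mul_apply, End.mul_apply, ← End.mul_apply D (D ^ i),
    ← pow_succ', ← hs, ← hs', map_smul, ← End.mul_apply, ← pow_succ', sub_smul,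
    show i + 1 + r = i + (r + 1) by omega, add_assoc]

theorem Hm.adj_pow {c : C.ι} {r : ℕ} (ha : a ∈ Hm C c r) (j : ℕ) :
    (PM.adj D ^ j) a ∈ Hm C c (r + j) := by
  induction j with
  | zero => exact ha
  | succ j ih => rw [pow_succ']; exact Hm.adj ih

/-- The coefficients in degree `r`. -/
noncomputable def coefs (C : Chains D σ) (c : C.ι) (r : ℕ) :
    End k V →ₗ[k] Fin (C.m c - r) → k :=
  LinearMap.pi fun i => C.co c (i + r) ∘ₗ LinearMap.applyₗ ((D ^ (i : ℕ)) (C.u c))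

theorem coefs_apply {c : C.ι} (r : ℕ) (a : End k V) (i : Fin (C.m c - r)) :
    coefs C c r a i = C.co c (i + r) (a ((D ^ (i : ℕ)) (C.u c))) := rfl

theorem Hm.eq_zero {c : C.ι} (hc : ∀ d, d = c) {r : ℕ} (ha : a ∈ Hm C c r)
    (h : coefs C c r a = 0) : a = 0 := C.hom_ext fun d i _ => by
  obtain rfl := hc d
  obtain ⟨s, hs⟩ := Submodule.mem_span_singleton.1 (ha i)
  rw [← hs, LinearMap.zero_apply]
  by_cases hi : i + r < C.m d
  · have := congrFun h ⟨i, by omega⟩
    rw [coefs_apply, ← hs, map_smul, C.co_pow_self hi, smul_eq_mul, mul_one] at this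
    rw [this]
    exact zero_smul _ _
  · rw [C.pow_u_eq_zero (not_lt.1 hi), smul_zero]

theorem finrank_map_coefs [FiniteDimensional k V] {c : C.ι} (hc : ∀ d, d = c) {r : ℕ}
    {S : Submodule k (End k V)} (hS : S ≤ Hm C c r) :
    finrank k (S.map (coefs C c r)) = finrank k S := by
  rw [← LinearMap.range_domRestrict]
  exact LinearMap.finrank_range_of_inj ((injective_iff_map_eq_zero _).2 fun a ha =>
    Subtype.ext (Hm.eq_zero hc (hS a.2) ha))

theorem finrank_Hm [FiniteDimensional k V] {c : C.ι} (hc : ∀ d, d = c) (r : ℕ) :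
    finrank k (Hm C c r) = C.m c - r := by
  have h1 : (Hm C c r).map (coefs C c r) = ⊤ := eq_top_iff.2 fun s _ => by
    let s' : ℕ → k := fun i => if hi : i < C.m c - r then s ⟨i, hi⟩ else 0
    have h2 := C.lift_apply' (f := fun _ i => s' i • (D ^ (i + r)) (C.u c)) fun d i hi => by
      rw [C.pow_u_eq_zero (by rw [← hc d]; omega), smul_zero]
    refine ⟨_, fun i => Submodule.mem_span_singleton.2 ⟨s' i, (h2 c i).symm⟩, funext fun i => ?_⟩
    rw [coefs_apply, h2, map_smul, C.co_pow_self (by omega), smul_eq_mul, mul_one]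
    exact dif_pos i.2
  rw [← finrank_map_coefs hc le_rfl, h1, finrank_top, finrank_fin_fun]

theorem Fil.coefs_eq_zero {c : C.ι} {r : ℕ} (ha : a ∈ Fil C D 0 (r + 1)) : coefs C c r a = 0 :=
  funext fun i => C.mem_range_pow.1 (ha c i) c _ (by simp)

theorem Fil.up {c : C.ι} (hc : ∀ d, d = c) {t : ℤ}
    (h : ∀ s, s < t → a ∈ Fil C D 0 s → a ∈ Fil C D 0 (s + 1)) : a ∈ Fil C D 0 t := by
  have h1 : ∀ j : ℕ, 1 - C.m c + j ≤ t → a ∈ Fil C D 0 (1 - C.m c + j) := fun j => by
    induction j with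
    | zero => exact fun _ => by simpa using mem_fil_bot hc a
    | succ j ih =>
      intro hj
      rw [Nat.cast_succ, ← add_assoc]
      exact h _ (by omega) (ih (by omega))
  by_cases ht : t ≤ 1 - C.m c
  · exact Fil.mono (mem_fil_bot hc a) ht
  · exact Fil.mono (h1 (t - (1 - C.m c)).toNat (by omega)) (by omega)

theorem Fil.adj (ha : a ∈ Fil C D 0 s) : PM.adj D a ∈ Fil C D 0 (s + 1) :=
  Submodule.sub_mem _ (Fil.left ha) (Fil.right ha)

theorem Fil.adj_pow (ha : a ∈ Fil C D 0 s) (j : ℕ) : (PM.adj D ^ j) a ∈ Fil C D 0 (s + j) := by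
  induction j with
  | zero => simpa using ha
  | succ j ih =>
    rw [pow_succ', End.mul_apply, Nat.cast_succ, ← add_assoc]
    exact Fil.adj ih

theorem Fil.exists_smul {c : C.ι} (hc : ∀ d, d = c) (ha : a ∈ Fil C D 0 (C.m c - 1))
    (hb : b ∈ Fil C D 0 (C.m c - 1)) (h0 : a ≠ 0) : ∃ r : k, b = r • a := by
  have h1 : ∀ f ∈ Fil C D 0 (C.m c - 1), C.co c (C.m c - 1) (f (C.u c)) = 0 → f = 0 :=
    fun f hf h => C.hom_ext fun d i _ => C.eq_zero fun d' j hj => by
      obtain rfl := hc d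
      obtain rfl := hc d'
      by_cases h2 : i = 0 ∧ j = C.m d' - 1
      · obtain ⟨rfl, rfl⟩ := h2
        exact h
      · exact C.mem_range_pow.1 (hf d' i) d' j (by simp; omega)
  have h2 := mt (h1 a ha) h0
  refine ⟨C.co c (C.m c - 1) (b (C.u c)) / C.co c (C.m c - 1) (a (C.u c)), sub_eq_zero.1
    (h1 _ (Submodule.sub_mem _ hb (Submodule.smul_mem _ _ ha)) ?_)⟩
  rw [LinearMap.sub_apply, LinearMap.smul_apply, map_sub, map_smul, smul_eq_mul,
    div_mul_cancel₀ _ h2, sub_self]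

theorem eq_zero_of_trace [FiniteDimensional k V] (h : ∀ b, LinearMap.trace k V (b * a) = 0) :
    a = 0 := LinearMap.ext fun y => (forall_dual_apply_eq_zero_iff k _).1 fun φ => by
  have := h (φ.smulRight y)
  rwa [show φ.smulRight y * a = (φ ∘ₗ a).smulRight y from rfl, LinearMap.trace_smulRight] at this

theorem finrank_le_inf_ker_add {U : Type w'} [AddCommGroup U] [Module k U] [FiniteDimensional k V]
    [FiniteDimensional k U] {g : V →ₗ[k] U} {A : Submodule k V} {B : Submodule k U}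
    (h : ∀ y ∈ A, g y ∈ B) :
    finrank k A ≤ finrank k (A ⊓ LinearMap.ker g : Submodule k V) + finrank k B := by
  have e1 := LinearMap.finrank_range_add_finrank_ker (g.domRestrict A)
  have e2 : finrank k (LinearMap.range (g.domRestrict A)) ≤ finrank k B :=
    Submodule.finrank_mono (by rintro _ ⟨y, rfl⟩; exact h y y.2)
  have e3 : finrank k (LinearMap.ker (g.domRestrict A)) ≤
      finrank k (A ⊓ LinearMap.ker g : Submodule k V) :=
    LinearMap.finrank_le_finrank_of_injective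
      (f := (A.subtype.domRestrict _).codRestrict _ fun y => ⟨y.1.2, y.2⟩) fun y y' h =>
      Subtype.ext (Subtype.ext (congrArg (fun z => (z.1 : V)) h))
  omega

theorem two_mul_finrank_le {H : Type w'} [AddCommGroup H] [Module k H] [FiniteDimensional k V]
    {ι : H →ₗ[k] V} (hι : Function.Injective ι) (β : H →ₗ[k] Dual k V)
    (hβ : Function.Injective β) (h : ∀ f f', β f (ι f') = 0) : 2 * finrank k H ≤ finrank k V := by
  have e1 := Subspace.finrank_add_finrank_dualAnnihilator_eq (LinearMap.range ι)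
  have e2 : finrank k H ≤ finrank k (LinearMap.range ι).dualAnnihilator :=
    LinearMap.finrank_le_finrank_of_injective (f := β.codRestrict _ fun f =>
      (Submodule.mem_dualAnnihilator _).2 (by rintro _ ⟨f', rfl⟩; exact h f f')) fun y y' e =>
      hβ (congrArg Subtype.val e)
  rw [LinearMap.finrank_range_of_inj hι] at e1
  omega

theorem mul_finrank_map_le [FiniteDimensional k V] {T : End k V} {p : ℕ} (h : T ^ (p + 1) = 0)
    {S : Submodule k V} (hS : ∀ y ∈ S, T y ∈ S) :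
    (p + 1) * finrank k (S.map (T ^ p)) ≤ finrank k S := by
  have h1 : ∀ (j : ℕ) (y : S), ((T.restrict hS ^ j) y : V) = (T ^ j) y := fun j y => by
    rw [Module.End.pow_restrict]; rfl
  refine le_trans (Nat.mul_le_mul_left _ ?_) (mul_finrank_range_le (T := T.restrict hS)
    (LinearMap.ext fun y => Subtype.ext (by rw [h1, h]; rfl)))
  refine le_trans (Submodule.finrank_mono ?_) (Submodule.finrank_map_le S.subtype _)
  rintro _ ⟨y, hy, rfl⟩
  exact ⟨_, ⟨⟨y, hy⟩, rfl⟩, h1 p _⟩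

theorem adj_mul (D a b : End k V) : adj D (a * b) = adj D a * b + a * adj D b := by
  simp only [adj_apply]
  noncomm_ring

theorem trace_eq_sum_of_diag {c : C.ι} (hc : ∀ d, d = c) {s : ℕ → k}
    (h : ∀ i, a ((D ^ i) (C.u c)) = s i • (D ^ i) (C.u c)) :
    LinearMap.trace k V a = ∑ i ∈ range (C.m c), s i := by
  rw [C.trace_eq, sum_eq_single c (fun d _ hd => absurd (hc d) hd) (by simp)]
  exact sum_congr rfl fun i hi => by
    rw [h, map_smul, C.co_pow_self (mem_range.1 hi), smul_eq_mul, mul_one]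

theorem exists_sl2 {c : C.ι} (hc : ∀ d, d = c) : ∃ F ∈ Fil C D 0 (-1),
    (adj D ^ 2) F = (-2 : k) • D ∧ (adj D ^ 4) (F * F) = (24 : k) • (D * D) ∧
    6 * LinearMap.trace k V (D * F) = (C.m c - 1) * C.m c * (C.m c + 1) ∧
    30 * LinearMap.trace k V (D * D * (F * F)) =
      (C.m c - 2) * (C.m c - 1) * C.m c * (C.m c + 1) * (C.m c + 2) := by
  have h1 := C.lift_apply' (f := fun _ i => ((i : k) * (C.m c - i)) • (D ^ (i - 1)) (C.u c))
    fun d i hi => by
      rw [hc d] at hi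
      rcases hi.eq_or_lt with e | e
      · rw [e, sub_self, mul_zero, zero_smul]
      · rw [C.pow_u_eq_zero (by omega), smul_zero]
  generalize C.lift (fun _ i => ((i : k) * (C.m c - i)) • (D ^ (i - 1)) (C.u c)) = F at h1
  have h0 : ∀ i, D ((D ^ i) (C.u c)) = (D ^ (i + 1)) (C.u c) := fun i => by
    rw [pow_succ', End.mul_apply]
  have h2 : ∀ i : ℕ, D (F ((D ^ i) (C.u c))) = ((i : k) * (C.m c - i)) • (D ^ i) (C.u c) := by
    rintro (_ | i)
    · rw [h1]; simp
    · rw [h1, map_smul, h0, Nat.add_sub_cancel]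
  have h3 : ∀ i : ℕ, adj D F ((D ^ i) (C.u c)) = ((2 * i + 1 : k) - C.m c) • (D ^ i) (C.u c) :=
    fun i => by
      rw [adj_apply, LinearMap.sub_apply, End.mul_apply D, End.mul_apply F, h2, h0, h1,
        Nat.add_sub_cancel, ← sub_smul]
      congr 1
      push_cast
      ring
  have h4 : adj D (adj D F) = (-2 : k) • D := C.hom_ext fun d i _ => by
    rw [hc d, adj_apply, LinearMap.sub_apply, End.mul_apply D, End.mul_apply _ D, h0, h3, h3,
      map_smul, LinearMap.smul_apply, h0, ← sub_smul]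
    congr 1
    push_cast
    ring
  have h5 : adj D D = 0 := sub_self _
  refine ⟨F, fun d i => ?_, h4, ?_, ?_, ?_⟩
  · rw [hc d, h1]
    exact Submodule.smul_mem _ _ (mem_range_pow_mono ⟨_, rfl⟩ (by simp; omega))
  · simp only [pow_succ', pow_zero, mul_one, End.mul_apply, adj_mul, map_add, map_smul, h4, h5,
      smul_mul_assoc, mul_smul_comm, zero_mul, mul_zero, add_zero, zero_add]
    module
  · rw [trace_eq_sum_of_diag hc h2]
    have : ∀ (n : k) (m : ℕ), 6 * ∑ i ∈ range m, (i : k) * (n - i) =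
        3 * n * m * (m - 1) - (m - 1) * m * (2 * m - 1) := fun n m => by
      induction m with
      | zero => simp
      | succ m ih => rw [sum_range_succ, mul_add, ih]; push_cast; ring
    rw [this]
    ring
  · rw [trace_eq_sum_of_diag hc (s := fun i => (i : k) * (C.m c - i) * ((i - 1) * (C.m c - i + 1)))
      ?_]
    · have : ∀ (n : k) (m : ℕ), 30 * ∑ i ∈ range m, (i : k) * (n - i) * ((i - 1) * (n - i + 1)) =
          m * (m - 1) * (m - 2) * (6 * (m - 3) * (m - 4) - 15 * (n - 2) * (m - 3) +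
            10 * (n - 1) * (n - 2)) := fun n m => by
        induction m with
        | zero => simp
        | succ m ih => rw [sum_range_succ, mul_add, ih]; push_cast; ring
      rw [this]
      ring
    · rintro (_ | i)
      · simp only [End.mul_apply]
        rw [h1]
        simp
      · simp only [End.mul_apply]
        rw [h1, map_smul, map_smul, Nat.add_sub_cancel, h2, map_smul, map_smul, h0, smul_smul]
        congr 1
        push_cast
        ring

end Lin

variable {G : Type u} [Group G] [Finite G] {p : ℕ} [hp : Fact p.Prime] {k : Type v} [Field k]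
  [CharP k p] {W : Type w} [AddCommGroup W] [Module k W] {V : Type w'} [AddCommGroup V] [Module k V]
  {x : G} {L : Subgroup G} {α : Wt L k} {q q' : k[X]}
  {ρ : Representation k G V} {τ : Representation k G W}

theorem T_pow_comm {f : W →ₗ[k] V} (hf : ∀ y, f (τ x y) = ρ x (f y)) (j : ℕ) (y : W) :
    f (((τ x - 1) ^ j) y) = ((ρ x - 1) ^ j) (f y) := by
  simpa using comp_aeval (A := τ x - 1) (B := ρ x - 1) (fun y => by simp [hf]) (X ^ j) y

theorem trace_linHom [FiniteDimensional k V] (g : G) (a b : End k V) :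
    LinearMap.trace k V (ρ.linHom ρ g a * b) = LinearMap.trace k V (a * ρ.linHom ρ g⁻¹ b) := by
  simp only [Representation.linHom_apply, ← End.mul_eq_comp, inv_inv, mul_assoc]
  rw [LinearMap.trace_mul_comm]
  simp only [mul_assoc]

theorem trace_linHom_self [FiniteDimensional k V] (g : G) (a b : End k V) :
    LinearMap.trace k V (ρ.linHom ρ g a * ρ.linHom ρ g b) = LinearMap.trace k V (a * b) := by
  rw [trace_linHom, ← End.mul_apply, ← map_mul, inv_mul_cancel, map_one, End.one_apply]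

theorem trace_T_pow [FiniteDimensional k V] {j : ℕ} : ∀ {b : End k V},
    ((ρ.linHom ρ x - 1) ^ j) b = 0 → ∀ a,
    LinearMap.trace k V (((ρ.linHom ρ x - 1) ^ j) a * b) = 0 := by
  induction j with
  | zero =>
    intro b hb a
    obtain rfl : b = 0 := hb
    simp
  | succ j ih =>
    intro b hb a
    rw [pow_succ', End.mul_apply, LinearMap.sub_apply, sub_mul, map_sub, trace_linHom, ← map_sub,
      End.one_apply, ← mul_sub]
    refine ih ?_ a
    have h1 : ρ.linHom ρ x⁻¹ b - b = -(ρ.linHom ρ x - 1) (ρ.linHom ρ x⁻¹ b) := by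
      rw [LinearMap.sub_apply, ← End.mul_apply, ← map_mul, mul_inv_cancel, map_one]
      simp
    rw [h1, map_neg, ← End.mul_apply, ← pow_succ, ← End.mul_apply,
      ((commute_sub_one _ x).pow_left _).eq, End.mul_apply, hb, map_zero, neg_zero]

theorem trace_eq_zero_of_wt [FiniteDimensional k V] {a b : End k V} {ν μ : Wt L k}
    (ha : a ∈ wsp (sig (ρ.linHom ρ) L) ν) (hb : b ∈ wsp (sig (ρ.linHom ρ) L) μ) (h : ν * μ ≠ 1) :
    LinearMap.trace k V (a * b) = 0 := by
  by_contra h0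
  refine h (Wt.ext fun l => Units.ext ?_)
  have := trace_linHom_self (ρ := ρ) l a b
  erw [ha l, hb l] at this
  rw [smul_mul_smul_comm, map_smul, smul_eq_mul] at this
  exact (mul_eq_right₀ h0).1 this

/-- The space of homomorphisms. -/
def homG (τ : Representation k G W) (ρ : Representation k G V) : Submodule k (W →ₗ[k] V) where
  carrier := {f | ∀ g y, f (τ g y) = ρ g (f y)}
  add_mem' := fun {_ _} ha hb g y => by simp [ha g y, hb g y]
  zero_mem' := fun g y => by simp
  smul_mem' := fun a _ hf g y => by simp [hf g y]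

theorem homG.injective (hτ : τ.IsIrreducible) {f : W →ₗ[k] V} (hf : f ∈ homG τ ρ) {y : W}
    (hy : y ≠ 0) (h : f y = 0) : f = 0 := by
  rcases ((rep_isIrreducible_iff τ).1 hτ).2 (LinearMap.ker f) (fun g z hz => by
    rw [LinearMap.mem_ker, hf, LinearMap.mem_ker.1 hz, map_zero]) with e | e
  · exact absurd ((Submodule.mem_bot k).1 (e ▸ h)) hy
  · exact LinearMap.ker_eq_top.1 e

theorem T_pow_sub {S : Submodule k V} (hS : ∀ g, S ≤ S.comap (ρ g)) (j : ℕ) (y : S) :
    (((ρ.subrepresentation S hS x - 1) ^ j) y : V) = ((ρ x - 1) ^ j) y :=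
  T_pow_comm (f := S.subtype) (fun _ => rfl) j y

theorem exists_of_not_indec [FiniteDimensional k V] (h : ¬ Indec ρ) :
    ∃ S S' : Submodule k V, (∀ g, S ≤ S.comap (ρ g)) ∧ (∀ g, S' ≤ S'.comap (ρ g)) ∧ IsCompl S S' ∧
      finrank k S < finrank k V ∧ finrank k S' < finrank k V := by
  unfold Indec at h
  push Not at h
  obtain ⟨S, S', hS, hS', hc, e, e'⟩ := h
  exact ⟨S, S', hS, hS', hc, Submodule.finrank_lt fun h => e' (by simpa [h] using hc.inf_eq_bot),
    Submodule.finrank_lt fun h => e (by simpa [h] using hc.inf_eq_bot)⟩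

/-- A Jordan block of size `m + 1`. -/
def Block (ρ : Representation k G V) (x : G) (m : ℕ) : Prop :=
  ∃ (y : V) (φ : V →ₗ[k] k), ((ρ x - 1) ^ (m + 1)) y = 0 ∧ (∀ z, φ (((ρ x - 1) ^ (m + 1)) z) = 0) ∧
    φ (((ρ x - 1) ^ m) y) ≠ 0

theorem Block.or {m : ℕ} (h : Block ρ x m) {S S' : Submodule k V} (hS : ∀ g, S ≤ S.comap (ρ g))
    (hS' : ∀ g, S' ≤ S'.comap (ρ g)) (hc : IsCompl S S') :
    Block (ρ.subrepresentation S hS) x m ∨ Block (ρ.subrepresentation S' hS') x m := by
  obtain ⟨y, φ, h1, h2, h3⟩ := h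
  obtain ⟨z, z', rfl, -⟩ := Submodule.existsUnique_add_of_isCompl hc y
  rw [map_add, ← T_pow_sub hS, ← T_pow_sub hS'] at h1 h3
  have h4 := Submodule.disjoint_def.1 hc.disjoint _ (Submodule.coe_mem _)
    (eq_neg_of_add_eq_zero_left h1 ▸ S'.neg_mem (Submodule.coe_mem _))
  rw [h4, zero_add] at h1
  by_cases h5 : φ (((ρ.subrepresentation S hS x - 1) ^ m) z) = 0
  · rw [map_add, h5, zero_add] at h3
    exact Or.inr ⟨z', φ ∘ₗ S'.subtype, Subtype.ext h1,
      fun v => (congrArg φ (T_pow_sub hS' _ v)).trans (h2 v), h3⟩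
  · exact Or.inl ⟨z, φ ∘ₗ S.subtype, Subtype.ext h4,
      fun v => (congrArg φ (T_pow_sub hS _ v)).trans (h2 v), h5⟩

namespace Loc

variable (h : Loc p x L α q q')
include h

theorem alpha_pow : α ^ (p - 1) = 1 := Wt.ext fun l => Units.ext (by
  obtain ⟨a, -, ha⟩ := h.conj l
  have h1 : (α l : k) ^ p = α l := by rw [ha]; exact map_natCast (frobenius k p) a
  rw [← Nat.sub_add_cancel hp.out.one_le, pow_succ] at h1
  simpa using (mul_eq_right₀ (α l).ne_zero).1 h1)

theorem T_pow_pred (ρ : Representation k G V) : (ρ x - 1) ^ (p - 1) = dop ρ x q ^ (p - 1) := by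
  obtain ⟨r, hr⟩ : ∃ r : k[X], (1 + X * q') ^ (p - 1) = 1 + X * r := by
    induction p - 1 with
    | zero => exact ⟨0, by simp⟩
    | succ j ih =>
      obtain ⟨r, hr⟩ := ih
      exact ⟨r + (1 + X * r) * q', by rw [pow_succ, hr]; ring⟩
  rw [h.T_eq, aeval_pow_eq, hr, map_add, map_one, map_mul, aeval_X, mul_add, ← mul_assoc,
    ← pow_succ, Nat.sub_add_cancel hp.out.one_le, h.D_pow, zero_mul, add_zero, mul_one]

theorem nrm_eq' [Fintype L] (ρ : Representation k G V) :
    nrm ρ p x L = (ρ x - 1) ^ (p - 1) * ∑ l : L, ρ l := by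
  rw [nrm_eq, h.T_pow_pred]
  exact (Commute.sum_right _ _ _ fun l _ => (h.shifts ρ).commute h.alpha_pow l).eq.symm

theorem nrm_apply_of_mem [Fintype L] {y : V} (hy : y ∈ wsp (sig ρ L) 1) :
    nrm ρ p x L y = (Fintype.card L : k) • (dop ρ x q ^ (p - 1)) y := by
  rw [h.nrm_eq', h.T_pow_pred, End.mul_apply, LinearMap.sum_apply,
    sum_congr rfl (g := fun _ => y) fun l _ => by simpa using hy l, sum_const, card_univ,
    ← Nat.cast_smul_eq_nsmul k, map_smul]

theorem trace_nrm [Fintype L] [FiniteDimensional k V] (a b : End k V) :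
    LinearMap.trace k V (nrm (ρ.linHom ρ) p x L a * b) =
      LinearMap.trace k V (a * nrm (ρ.linHom ρ) p x L b) := by
  have h1 : ∀ a b, LinearMap.trace k V ((∑ l : L, ρ.linHom ρ l) a * b) =
      LinearMap.trace k V (a * (∑ l : L, ρ.linHom ρ l) b) := fun a b => by
    simp only [LinearMap.sum_apply, sum_mul, mul_sum, map_sum, trace_linHom]
    exact Fintype.sum_equiv (Equiv.inv L) _ _ fun l => rfl
  have h2 : ∑ i ∈ range p, ρ.linHom ρ (x ^ i)⁻¹ = ∑ i ∈ range p, ρ.linHom ρ x ^ i := by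
    rw [← sub_eq_zero.1 (show ρ.linHom ρ x * ∑ i ∈ range p, ρ.linHom ρ x ^ i -
      ∑ i ∈ range p, ρ.linHom ρ x ^ i = 0 by
        rw [← sub_one_mul, mul_geom_sum, ← map_pow, h.pow_p, map_one, sub_self]),
      ← sum_range_reflect (fun i => ρ.linHom ρ x ^ i), mul_sum]
    refine sum_congr rfl fun i hi => ?_
    rw [← map_pow, ← map_mul, ← pow_succ']
    congr 1
    rw [inv_eq_iff_mul_eq_one, ← pow_add, show i + (p - 1 - i + 1) = p by
      have := mem_range.1 hi; omega, h.pow_p]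
  conv_lhs => rw [h.nrm_eq' _, ← sum_pow_eq_sub_one_pow (k := k), End.mul_apply, ← h2]
  conv_rhs => rw [nrm, End.mul_apply, ← h1]
  simp only [LinearMap.sum_apply (range p), sum_mul, mul_sum, map_sum, trace_linHom, inv_inv,
    map_pow]

theorem exists_of_block [FiniteDimensional k V] (C : Chains (dop ρ x q) (sig ρ L)) {m : ℕ}
    (hb : Block ρ x m) : ∃ c, C.m c = m + 1 := by
  obtain ⟨y, φ, h1, h2, h3⟩ := hb
  rw [h.T_eq, aeval_pow_eq] at h3
  refine C.exists_eq_of_block ?_ (fun z => ?_) h3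
  · have := comp_aeval (f := dop ρ x q ^ (m + 1)) (A := dop ρ x q) (B := dop ρ x q)
      (fun y => by rw [← End.mul_apply, ← pow_succ, pow_succ', End.mul_apply]) ((1 + X * q') ^ m) y
    rw [this, h.pow_apply_eq_zero.2 h1, map_zero]
  · obtain ⟨z', hz⟩ := (h.range_pow ρ (m + 1)).le ⟨z, rfl⟩
    rw [← hz, h2]

section Block

variable {Q : Prop} [IsAlgClosed k] (hQ : ∀ (U : Type w') [AddCommGroup U] [Module k U]
  [FiniteDimensional k U] (σ : Representation k G U), σ x ≠ 1 → (σ x - 1) ^ 5 = 0 → Q)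
include hQ

theorem of_block {m : ℕ} (h0 : 0 < m) (hm : m < 5) (n : ℕ) : ∀ {U : Type w'} [AddCommGroup U]
    [Module k U] [FiniteDimensional k U] (σ : Representation k G U), finrank k U = n →
    Block σ x m → (σ x - 1) ^ (p - 1) = 0 → Q := by
  induction n using Nat.strong_induction_on with
  | _ n ih =>
  intro U _ _ _ σ hn hb hT
  by_cases hσ : Indec σ
  · obtain ⟨C⟩ := h.nonempty_chains σ
    obtain ⟨c, hc⟩ := h.exists_of_block C hb
    have h1 : ∀ c, C.m c < p := fun c =>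
      (C.le_of_pow_eq_zero (h.pow_eq_zero.2 hT) c).trans_lt (by have := hp.out.pos; omega)
    refine hQ U σ (fun e => ?_) (h.pow_eq_zero.1 (C.pow_eq_zero fun d => by
      rw [h.eq_of_indec hσ C (h1 d) (h1 c)]; omega))
    have := C.le_of_pow_eq_zero (j := 1) (h.pow_eq_zero.2 (by simp [e])) c
    omega
  obtain ⟨S, S', hS, hS', hc, e, e'⟩ := exists_of_not_indec hσ
  have h1 : ∀ {S : Submodule k U} (hS : ∀ g, S ≤ S.comap (σ g)),
      (σ.subrepresentation S hS x - 1) ^ (p - 1) = 0 := fun hS =>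
    LinearMap.ext fun y => Subtype.ext (by rw [T_pow_sub, hT]; rfl)
  rcases hb.or hS hS' hc with h2 | h2
  exacts [ih _ (hn ▸ e) _ rfl h2 (h1 hS), ih _ (hn ▸ e') _ rfl h2 (h1 hS')]

theorem of_block_block (hp7 : 7 ≤ p) (n : ℕ) : ∀ {U : Type w'} [AddCommGroup U]
    [Module k U] [FiniteDimensional k U] (σ : Representation k G U), finrank k U = n →
    Block σ x 2 → Block σ x 4 → (∀ z z', ((σ x - 1) ^ (p - 1)) z ≠ 0 →
      ∃ r : k, ((σ x - 1) ^ (p - 1)) z' = r • ((σ x - 1) ^ (p - 1)) z) → Q := by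
  induction n using Nat.strong_induction_on with
  | _ n ih =>
  intro U _ _ _ σ hn h2 h4 hT
  by_cases hσ : Indec σ
  · obtain ⟨C⟩ := h.nonempty_chains σ
    obtain ⟨c, hc⟩ := h.exists_of_block C h2
    obtain ⟨c', hc'⟩ := h.exists_of_block C h4
    obtain rfl := h.eq_of_indec hσ C (c := c) (c' := c') (by omega) (by omega)
    omega
  have h1 : ∀ {S S' : Submodule k U} (hS : ∀ g, S ≤ S.comap (σ g)) (hS' : ∀ g, S' ≤ S'.comap (σ g)),
      IsCompl S S' → finrank k S < n → (σ.subrepresentation S' hS' x - 1) ^ (p - 1) = 0 → Q :=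
    fun hS hS' hc e h1 => by
      rcases h2.or hS hS' hc with h3 | h3
      swap
      · exact h.of_block hQ two_pos (by omega) _ _ rfl h3 h1
      rcases h4.or hS hS' hc with h5 | h5
      swap
      · exact h.of_block hQ four_pos (by omega) _ _ rfl h5 h1
      refine ih _ e _ rfl h3 h5 fun z z' hz => ?_
      obtain ⟨r, hr⟩ := hT z z' fun e => hz (Subtype.ext (by rw [T_pow_sub, e]; rfl))
      exact ⟨r, Subtype.ext (by rw [T_pow_sub, hr, ← T_pow_sub]; rfl)⟩
  obtain ⟨S, S', hS, hS', hc, e, e'⟩ := exists_of_not_indec hσ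
  by_cases h3 : (σ.subrepresentation S hS x - 1) ^ (p - 1) = 0
  · exact h1 hS' hS hc.symm (hn ▸ e') h3
  obtain ⟨z, hz⟩ := DFunLike.ne_iff.1 h3
  refine h1 hS hS' hc (hn ▸ e) (LinearMap.ext fun z' => Subtype.ext ?_)
  obtain ⟨r, hr⟩ := hT z z' fun e => hz (Subtype.ext (by rw [T_pow_sub, e]; rfl))
  refine Submodule.disjoint_def.1 hc.disjoint _ ?_ (Submodule.coe_mem _)
  rw [T_pow_sub, hr, ← T_pow_sub hS]
  exact S.smul_mem _ (Submodule.coe_mem _)

end Block

section Uni

variable {C : Chains (dop ρ x q) (sig ρ L)} {c : C.ι} {s : ℤ} {a : End k V}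

theorem T_pow_of_adj {j : ℕ} : ∀ {a : End k V}, (adj (dop ρ x q) ^ j) a = 0 →
    ((ρ.linHom ρ x - 1) ^ j) a = 0 := by
  induction j with
  | zero => exact id
  | succ j ih =>
    intro a ha
    obtain ⟨r, hr⟩ := h.x_inv_eq ρ
    rw [pow_succ, End.mul_apply]
    refine ih ?_
    rw [linHom_sub_one', hr, h.T_eq]
    exact adj_pow_mul_aeval (adj_pow_comm_aeval ha _) _

theorem fil_lead_pow (ha : a ∈ Fil C (dop ρ x q) 0 s) (j : ℕ) :
    ((ρ.linHom ρ x - 1) ^ j) a - (adj (dop ρ x q) ^ j) a ∈ Fil C (dop ρ x q) 0 (s + j + 1) := by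
  induction j with
  | zero => simp
  | succ j ih =>
    have := Submodule.add_mem _ (h.fil_T ih) (Fil.mono (h.fil_lead (Fil.adj_pow ha j)) (by omega))
    rw [map_sub, sub_add_sub_cancel] at this
    rw [pow_succ', pow_succ', Nat.cast_succ, ← add_assoc]
    exact this

theorem fil_of_T_pow (hc : ∀ d, d = c) {j : ℕ} : ∀ {a : End k V},
    ((ρ.linHom ρ x - 1) ^ j) a = 0 → a ∈ Fil C (dop ρ x q) 0 (1 - j) := by
  induction j with
  | zero =>
    intro a ha
    obtain rfl : a = 0 := ha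
    exact Submodule.zero_mem _
  | succ j ih =>
    intro a ha
    rw [pow_succ, End.mul_apply] at ha
    refine Fil.up hc fun s hs h1 => Fil.succ_of_neg h1 hc (by omega) ?_
    have := Submodule.sub_mem _ (Fil.mono (ih ha) (by omega : s + 2 ≤ _)) (h.fil_lead h1)
    rwa [sub_sub_cancel] at this

theorem fil_one_of_wt (hc : ∀ d, d = c) {m : ℕ} (he : orderOf α = m + 1)
    (h1 : (dop (ρ.linHom ρ) x q ^ m) a = 0) (h2 : a ∈ wsp (sig (ρ.linHom ρ) L) α) :
    a ∈ Fil C (dop ρ x q) 0 1 := by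
  have h3 := h.fil_of_T_pow hc (h.pow_apply_eq_zero.1 h1)
  refine Fil.up hc fun s hs h4 => ?_
  by_cases h5 : s < 1 - m
  · exact Fil.mono h3 (by omega)
  refine Fil.succ h4 hc fun i j hj => C.co_eq_zero_of_wt (h.shifts ρ)
    (apply_mem_wsp h2 (C.pow_u_mem (h.shifts ρ) c i)) fun e => ?_
  rw [mul_left_comm, mul_right_inj, ← pow_succ', pow_eq_pow_iff_modEq, he] at e
  have := Nat.le_of_dvd (by omega) ((Nat.modEq_iff_dvd' (by omega)).1 e.symm)
  omega

theorem mem_wsp_of_Hm (hc : ∀ d, d = c) {r : ℕ} (ha : a ∈ Hm C c r) :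
    a ∈ wsp (sig (ρ.linHom ρ) L) (α ^ r) := mem_wsp_linHom.2 fun l y => by
  refine congrArg (fun g : End k V => g y) (C.hom_ext (f := ρ l ∘ₗ a)
    (g := ((α ^ r) l : k) • a ∘ₗ ρ l) fun d i _ => ?_)
  obtain rfl := hc d
  obtain ⟨s, hs⟩ := Submodule.mem_span_singleton.1 (ha i)
  rw [LinearMap.comp_apply, LinearMap.smul_apply, LinearMap.comp_apply]
  erw [C.pow_u_mem (h.shifts ρ) d i l]
  rw [map_smul, ← hs, map_smul]
  erw [C.pow_u_mem (h.shifts ρ) d _ l]
  simp only [smul_smul, pow_add, Wt.mul_apply, Units.val_mul]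
  congr 1
  ring

theorem fil_of_mem_range (hc : ∀ d, d = c) {j : ℕ}
    (ha : a ∈ LinearMap.range (dop (ρ.linHom ρ) x q ^ j)) :
    a ∈ Fil C (dop ρ x q) 0 (1 - C.m c + j) := by
  obtain ⟨b, rfl⟩ := ha
  exact h.fil_D_pow (mem_fil_bot hc b) j

theorem le_finrank_homG [FiniteDimensional k V] [FiniteDimensional k W] (hc : ∀ d, d = c) {m : ℕ}
    (hn : C.m c + (m + 1) = p) (hm : m + 1 ≤ C.m c) (C' : Chains (dop τ x q) (sig τ L))
    {c' : C'.ι} (h1 : C'.m c' = m) (h2 : C'.w c' = α) : m ≤ finrank k (homG τ (ρ.linHom ρ)) := by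
  letI := Fintype.ofFinite L
  have e1 := finrank_le_inf_ker_add (g := adj (dop ρ x q) ^ m) (A := Hm C c 1)
    fun a ha => Hm.adj_pow ha m
  rw [finrank_Hm hc, finrank_Hm hc, ← finrank_map_coefs hc inf_le_left] at e1
  have e2 : (Hm C c 1 ⊓ LinearMap.ker (adj (dop ρ x q) ^ m)).map (coefs C c 1) ≤ LinearMap.range
      (coefs C c 1 ∘ₗ LinearMap.applyₗ (C'.u c') ∘ₗ (homG τ (ρ.linHom ρ)).subtype) := by
    rintro _ ⟨a, ⟨ha, ha'⟩, rfl⟩
    obtain ⟨f, h3, h4, h5⟩ := h.exists_hom (τ := ρ.linHom ρ) C' (fun d => if d = c' then a else 0)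
      (fun d => by
        split_ifs with e
        · rw [e, h2]
          simpa using h.mem_wsp_of_Hm hc ha
        · exact Submodule.zero_mem _)
      fun d => by
        split_ifs with e
        · rw [e, h1]
          exact h.pow_apply_eq_zero.2 (h.T_pow_of_adj ha')
        · exact map_zero _
    obtain ⟨γ, h6, h7⟩ := h.exists_approx h4 h5
    have h8 := Fil.coefs_eq_zero (c := c) (r := 1) (Fil.mono (h.fil_of_mem_range hc
      (h7 _ _ (C'.top c'))) (by omega))
    have h9 := h3 c' 0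
    rw [pow_zero, pow_zero, if_pos rfl, End.one_apply, End.one_apply] at h9
    rw [h9, map_sub, sub_eq_zero, map_smul] at h8
    refine ⟨(Fintype.card L : k)⁻¹ • ⟨γ, h6⟩, ?_⟩
    rw [map_smul]
    erw [h8]
    rw [smul_smul, inv_mul_cancel₀ h.card_ne_zero, one_smul]
  have e3 := (Submodule.finrank_mono e2).trans (LinearMap.finrank_range_le _)
  omega

theorem trace_homG [FiniteDimensional k V] (hc : ∀ d, d = c) {m : ℕ} (he : orderOf α = m + 2)
    (hτ : τ.IsIrreducible) (C' : Chains (dop τ x q) (sig τ L))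
    {c' : C'.ι} (h1 : C'.m c' = m + 1) (h2 : C'.w c' = α) (h3 : ∀ d, d ≠ c' → C'.w d = 1)
    {f f' : W →ₗ[k] End k V} (hf : f ∈ homG τ (ρ.linHom ρ)) (hf' : f' ∈ homG τ (ρ.linHom ρ))
    (y y' : W) : LinearMap.trace k V (f y * f' y') = 0 := by
  let β : W →ₗ[k] W →ₗ[k] k := ((LinearMap.mul k (End k V)).compr₂ (LinearMap.trace k V)).compl₁₂ f f'
  have hβ : ∀ y y', β y y' = LinearMap.trace k V (f y * f' y') := fun _ _ => rfl
  have h4 : ∀ {g : W →ₗ[k] End k V}, g ∈ homG τ (ρ.linHom ρ) → ∀ {ν z}, z ∈ wsp (sig τ L) ν →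
      g z ∈ wsp (sig (ρ.linHom ρ) L) ν := fun {g} hg ν z hz l => by
    rw [sig_apply, ← hg, ← sig_apply, hz l, map_smul]
  have h5 : ∀ {g : W →ₗ[k] End k V}, g ∈ homG τ (ρ.linHom ρ) →
      g (C'.u c') ∈ Fil C (dop ρ x q) 0 1 := fun {g} hg =>
    h.fil_one_of_wt hc he (by rw [← dop_pow_comm (hg x), ← h1, C'.top, map_zero])
      (h4 hg (h2 ▸ C'.wt c'))
  rcases ((rep_isIrreducible_iff τ).1 hτ).2 (LinearMap.ker β) (fun g z hz =>
    LinearMap.ext fun z' => by
      rw [hβ, hf, trace_linHom, ← hf', ← hβ, LinearMap.mem_ker.1 hz]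
      rfl) with e | e
  swap
  · rw [← hβ, LinearMap.ker_eq_top.1 e]
    rfl
  refine absurd ((Submodule.mem_bot k).1 (e ▸ ?_)) (C'.pow_u_ne_zero (c := c') (i := m) (by omega))
  refine C'.hom_ext fun d i _ => ?_
  rw [hβ, LinearMap.zero_apply]
  rcases i with _ | i
  · rw [pow_zero, End.one_apply]
    by_cases e : d = c'
    · rw [e, dop_pow_comm (hf x)]
      exact Fil.trace_eq_zero (Fil.mono (Fil.mul (h.fil_D_pow (h5 hf) m) (h5 hf')) (by omega))
    · refine trace_eq_zero_of_wt (h4 hf (C'.pow_u_mem (h.shifts τ) c' m)) (h4 hf' (C'.wt d)) ?_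
      rw [h2, h3 d e, mul_one, ← pow_succ']
      exact pow_ne_one_of_lt_orderOf (by omega) (by omega)
  · obtain ⟨b, hb⟩ : f' ((dop τ x q ^ (i + 1)) (C'.u d)) ∈
        LinearMap.range ((ρ.linHom ρ x - 1) ^ 1) := by
      rw [dop_pow_comm (hf' x), ← h.range_pow]
      exact mem_range_pow_mono ⟨_, rfl⟩ (by omega)
    rw [← hb, LinearMap.trace_mul_comm]
    refine trace_T_pow (h.pow_apply_eq_zero.1 ?_) b
    rw [← dop_pow_comm (hf x), ← End.mul_apply, ← pow_add, C'.pow_u_eq_zero (by omega), map_zero]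

theorem two_mul_le_finrank [Fintype L] [FiniteDimensional k V] [FiniteDimensional k W]
    (hc : ∀ d, d = c) {m : ℕ} (he : orderOf α = m + 2) (hn : C.m c + (m + 2) = p)
    (hm : m + 2 ≤ C.m c) (hτ : τ.IsIrreducible) (C' : Chains (dop τ x q) (sig τ L))
    {c' c₁ : C'.ι} (h1 : C'.m c' = m + 1) (h2 : C'.w c' = α) (h3 : ∀ d, d ≠ c' → C'.w d = 1)
    (h4 : C'.m c₁ = p) :
    2 * (m + 1) ≤ finrank k (LinearMap.range (nrm (ρ.linHom ρ) p x L)) := by
  have h5 : C'.u c₁ ∈ wsp (sig τ L) 1 := h3 c₁ (by rintro rfl; omega) ▸ C'.wt c₁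
  have h6 : ∀ f ∈ homG τ (ρ.linHom ρ), nrm (ρ.linHom ρ) p x L (f (C'.u c₁)) =
      f ((Fintype.card L : k) • (dop τ x q ^ (p - 1)) (C'.u c₁)) := fun f hf => by
    rw [map_smul, dop_pow_comm (hf x), h.nrm_apply_of_mem fun l => ?_]
    rw [sig_apply, ← hf, ← sig_apply, h5 l, map_smul]
  have h7 : (Fintype.card L : k) • (dop τ x q ^ (p - 1)) (C'.u c₁) ≠ 0 :=
    smul_ne_zero h.card_ne_zero (C'.pow_u_ne_zero (by have := hp.out.pos; omega))
  refine (Nat.mul_le_mul_left 2 (h.le_finrank_homG hc hn hm C' h1 h2)).trans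
    (two_mul_finrank_le (ι := (LinearMap.applyₗ ((Fintype.card L : k) • (dop τ x q ^ (p - 1))
      (C'.u c₁)) ∘ₗ (homG τ (ρ.linHom ρ)).subtype).codRestrict (LinearMap.range _)
        fun f => ⟨_, h6 f f.2⟩)
      ((injective_iff_map_eq_zero _).2 fun f hf =>
        Subtype.ext (homG.injective hτ f.2 h7 (congrArg Subtype.val hf)))
      (((LinearMap.mul k (End k V)).compr₂ (LinearMap.trace k V)).flip.compl₁₂
        (LinearMap.applyₗ (C'.u c₁) ∘ₗ (homG τ (ρ.linHom ρ)).subtype) (Submodule.subtype _))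
      ((injective_iff_map_eq_zero _).2 fun f hf => Subtype.ext (homG.injective hτ f.2 h7 ?_))
      fun f f' => h.trace_homG hc he hτ C' h1 h2 h3 f'.2 f.2 _ _)
  rw [← h6 f f.2]
  refine eq_zero_of_trace fun b => ?_
  rw [← h.trace_nrm]
  exact congrArg (fun φ : Dual k _ => φ ⟨_, b, rfl⟩) hf

theorem le_finrank_range_T [FiniteDimensional k V] (hc : ∀ d, d = c) :
    2 * C.m c ≤ finrank k (LinearMap.range ((ρ.linHom ρ x - 1) ^ (p - 1))) + p := by
  have h0 : ∀ g : ℕ → G, (∀ j, ∃ i < p, g i = x ^ j) →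
      ∀ φ : Dual k V, (∀ i < p, φ (ρ (g i) (C.u c)) = 0) → φ = 0 := fun g hg φ hφ => by
    have h1 : ∀ j, φ ((ρ x ^ j) (C.u c)) = 0 := fun j => by
      obtain ⟨i, hi, e⟩ := hg j
      rw [← map_pow, ← e]
      exact hφ i hi
    have h2 : ∀ r : k[X], φ (aeval (ρ x) r (C.u c)) = 0 := fun r => by
      rw [aeval_eq_sum_range, LinearMap.sum_apply, map_sum]
      exact sum_eq_zero fun i _ => by rw [LinearMap.smul_apply, map_smul, h1, smul_zero]
    refine C.hom_ext fun d i _ => ?_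
    have := h2 (((X + X ^ 2 * q) ^ i).comp (X - 1))
    rwa [aeval_comp, map_sub, aeval_X, map_one, map_pow, ← hc d] at this
  let Ψ₁ : Dual k V →ₗ[k] Fin p → k :=
    LinearMap.pi fun i => LinearMap.applyₗ (ρ (x ^ (i : ℕ))⁻¹ (C.u c))
  let Ψ₂ : (Fin p → k) →ₗ[k] V := Fintype.linearCombination k fun i => ρ (x ^ (i : ℕ)) (C.u c)
  have h1 : Function.Injective Ψ₁ := (injective_iff_map_eq_zero _).2 fun φ hφ =>
    h0 (fun i => (x ^ i)⁻¹) (fun j => ⟨(p - 1) * j % p, Nat.mod_lt _ hp.out.pos, by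
      rw [← h.ord, pow_mod_orderOf, h.ord, inv_eq_iff_mul_eq_one, ← pow_add, ← Nat.succ_mul,
        Nat.succ_eq_add_one, Nat.sub_add_cancel hp.out.one_le, pow_mul, h.pow_p, one_pow]⟩) φ
      fun i hi => congrFun hφ ⟨i, hi⟩
  have h2 : LinearMap.range Ψ₂ = ⊤ := by
    by_contra e
    obtain ⟨φ, h3, h4⟩ := Submodule.exists_le_ker_of_lt_top _ (lt_top_iff_ne_top.2 e)
    refine h3 (h0 (fun i => x ^ i) (fun j => ⟨j % p, Nat.mod_lt _ hp.out.pos, by
      rw [← h.ord, pow_mod_orderOf]⟩) φ fun i hi => h4 ⟨Pi.single ⟨i, hi⟩ 1, by simp [Ψ₂]⟩)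
  have h3 : (LinearMap.range Ψ₁).map Ψ₂ ≤ (LinearMap.range ((ρ.linHom ρ x - 1) ^ (p - 1))).map
      (LinearMap.applyₗ (C.u c)) := by
    rintro _ ⟨_, ⟨φ, rfl⟩, rfl⟩
    refine ⟨_, ⟨φ.smulRight (C.u c), rfl⟩, ?_⟩
    rw [← sum_pow_eq_sub_one_pow (k := k), LinearMap.sum_apply, map_sum, Finset.sum_range]
    simp only [Ψ₂, Fintype.linearCombination_apply, ← map_pow]
    exact sum_congr rfl fun i _ => map_smul (ρ (x ^ (i : ℕ))) _ _
  have e1 := finrank_le_inf_ker_add (g := Ψ₂) (A := LinearMap.range Ψ₁)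
    fun y hy => Submodule.mem_map_of_mem hy
  have e2 := LinearMap.finrank_range_add_finrank_ker Ψ₂
  have e3 := (Submodule.finrank_mono h3).trans (Submodule.finrank_map_le _ _)
  have e4 := Submodule.finrank_mono (inf_le_right (a := LinearMap.range Ψ₁) (b := LinearMap.ker Ψ₂))
  have e5 : finrank k V = C.m c := by
    rw [C.finrank_eq, sum_eq_single c (fun d _ hd => absurd (hc d) hd) (by simp)]
  rw [h2, finrank_top, finrank_fin_fun] at e2
  rw [LinearMap.finrank_range_of_inj h1, Subspace.dual_finrank_eq] at e1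
  omega

theorem exists_ranks [Fintype L] [FiniteDimensional k V] (hc : ∀ d, d = c) (hn : C.m c < p)
    {K : Submodule k (End k V)} (hK : ∀ g, ∀ y ∈ K, ρ.linHom ρ g y ∈ K)
    (h1 : ∀ U : Submodule k (End k V), (∀ g, ∀ y ∈ U, ρ.linHom ρ g y ∈ U) → K ≤ U →
      (∀ y, nrm (ρ.linHom ρ) p x L y ∈ U) → U = ⊤)
    (h2 : ∀ y ∈ K, nrm (ρ.linHom ρ) p x L y = 0) : ∃ r r', 2 * C.m c ≤ r + r' + p ∧
      p * r + 1 ≤ finrank k K ∧ p * r' + finrank k K ≤ C.m c ^ 2 := by
  let B : LinearMap.BilinForm k (End k V) := (LinearMap.mul k _).compr₂ (LinearMap.trace k V)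
  have hB : B.Nondegenerate := ⟨fun a ha => eq_zero_of_trace fun b =>
    (LinearMap.trace_mul_comm k b a).trans (ha b), fun a ha => eq_zero_of_trace ha⟩
  have hK' : ∀ g, ∀ y ∈ B.orthogonal K, ρ.linHom ρ g y ∈ B.orthogonal K := fun g y hy z hz => by
    have := hy _ (hK g⁻¹ z hz)
    rwa [← inv_inv g, ← show LinearMap.trace k V _ = B _ _ from trace_linHom g⁻¹ z y]
  have h3 : ∀ y ∈ B.orthogonal K, (∀ g, nrm (ρ.linHom ρ) p x L (ρ.linHom ρ g y) = 0) → y = 0 :=
    fun y hy h0 => by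
      have := h1 (⨅ g, LinearMap.ker (B.flip (ρ.linHom ρ g y)))
        (fun g z hz => (Submodule.mem_iInf _).2 fun g' => by
          have := (Submodule.mem_iInf _).1 hz (g⁻¹ * g')
          rw [map_mul] at this
          exact (trace_linHom g z _).trans this)
        (le_iInf fun g z hz => hK' g y hy z hz) fun z => (Submodule.mem_iInf _).2 fun g =>
          (h.trace_nrm z _).trans (by rw [h0, mul_zero, map_zero])
      refine eq_zero_of_trace fun b => ?_
      have h4 := (Submodule.mem_iInf _).1 (this ▸ Submodule.mem_top (x := b)) 1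
      rw [map_one] at h4
      exact h4
  have h4 : Disjoint K (B.orthogonal K) :=
    Submodule.disjoint_def.2 fun y hy hy' => h3 y hy' fun g => h2 _ (hK g y hy)
  have e5 : finrank k V = C.m c := by
    rw [C.finrank_eq, sum_eq_single c (fun d _ hd => absurd (hc d) hd) (by simp)]
  have e6 : finrank k K + finrank k (B.orthogonal K) = finrank k (End k V) := by
    rw [LinearMap.BilinForm.finrank_orthogonal hB, Nat.add_sub_cancel' (Submodule.finrank_le _)]
  have h5 := Submodule.eq_top_of_disjoint _ _ e6.ge h4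
  have h6 : ∀ g, ρ.linHom ρ g 1 = 1 := fun g => linHom_eq_iff.2 fun _ => rfl
  have h7 : ∀ y, ρ.linHom ρ x y = y → ((ρ.linHom ρ x - 1) ^ (p - 1)) y = 0 := fun y hy =>
    pow_apply_eq_zero_of_le (m := 1) (by simp [hy]) (by have := hp.out.two_le; omega)
  have h8 : (1 : End k V) ∈ K := by
    obtain ⟨y, hy, z, hz, e⟩ := Submodule.mem_sup.1 (h5 ▸ Submodule.mem_top (x := 1))
    have h8 : ∀ g, ρ.linHom ρ g z = z := fun g => sub_eq_zero.1 (Submodule.disjoint_def.1 h4 _
      (by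
        rw [eq_sub_of_add_eq' e, map_sub, h6, sub_sub_sub_cancel_left]
        exact K.sub_mem hy (hK g y hy)) (Submodule.sub_mem _ (hK' g z hz) hz))
    rw [← e, h3 z hz fun g => by rw [h8, nrm_eq, End.mul_apply, h7 z (h8 x), map_zero], add_zero]
    exact hy
  have h9 : LinearMap.trace k V 1 ≠ 0 := by
    rw [LinearMap.trace_one, e5, Ne, CharP.cast_eq_zero_iff k p]
    exact Nat.not_dvd_of_pos_of_lt (C.pos c) hn
  have hT := h.T_pow (ρ.linHom ρ)
  rw [← Nat.sub_add_cancel hp.out.one_le] at hT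
  have e1 := mul_finrank_map_le hT (S := K ⊓ LinearMap.ker (LinearMap.trace k V)) fun y hy =>
    ⟨K.sub_mem (hK x y hy.1) hy.1, by
      have := trace_linHom (ρ := ρ) x y 1
      rw [h6, mul_one, mul_one] at this
      exact (map_sub _ _ _).trans (sub_eq_zero.2 this)⟩
  have e2 := mul_finrank_map_le hT (S := B.orthogonal K) fun y hy =>
    Submodule.sub_mem _ (hK' x y hy) hy
  rw [Nat.sub_add_cancel hp.out.one_le] at e1 e2
  have e3 : finrank k (K ⊓ LinearMap.ker (LinearMap.trace k V) : Submodule k _) < finrank k K :=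
    Submodule.finrank_lt_finrank_of_lt (inf_le_left.lt_of_ne fun e => h9 (e.ge h8).2)
  rw [finrank_linearMap, e5, ← sq] at e6
  refine ⟨_, _, (h.le_finrank_range_T hc).trans (Nat.add_le_add_right ((Submodule.finrank_mono
    ?_).trans (Submodule.finrank_add_le_finrank_add_finrank _ _)) _), e1.trans_lt e3,
    (Nat.add_le_add_right e2 _).trans ((add_comm _ _).trans e6).le⟩
  rintro _ ⟨a, rfl⟩
  obtain ⟨y, hy, z, hz, rfl⟩ := Submodule.mem_sup.1 (h5 ▸ Submodule.mem_top (x := a))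
  rw [map_add]
  refine Submodule.add_mem_sup ⟨y - (LinearMap.trace k V y / LinearMap.trace k V 1) • 1,
    ⟨K.sub_mem hy (K.smul_mem _ h8), ?_⟩, ?_⟩ ⟨z, hz, rfl⟩
  · change LinearMap.trace k V _ = 0
    rw [map_sub, map_smul, smul_eq_mul, div_mul_cancel₀ _ h9, sub_self]
  · rw [map_sub, map_smul, h7 1 (h6 x), smul_zero, sub_zero]

theorem block_of_adj [FiniteDimensional k V] {m : ℕ} (ha : a ∈ Fil C (dop ρ x q) 0 (-m))
    (h1 : (adj (dop ρ x q) ^ (2 * m + 1)) a = 0)
    (h2 : LinearMap.trace k V ((adj (dop ρ x q) ^ (2 * m)) a * a) ≠ 0) :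
    Block (ρ.linHom ρ) x (2 * m) := by
  refine ⟨a, ((LinearMap.mul k _).compr₂ (LinearMap.trace k V)).flip a, h.T_pow_of_adj h1,
    trace_T_pow (h.T_pow_of_adj h1), fun e => h2 ?_⟩
  have := Fil.trace_eq_zero (Fil.mono (Fil.mul (h.fil_lead_pow ha (2 * m)) ha) (by omega))
  rw [sub_mul, map_sub, sub_eq_zero] at this
  exact this ▸ e

theorem of_half {Q : Prop} [IsAlgClosed k] [FiniteDimensional k V] (hc : ∀ d, d = c) (hp7 : 7 ≤ p)
    (hn : 2 * C.m c = p + 1) (hQ : ∀ (U : Type w') [AddCommGroup U] [Module k U]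
      [FiniteDimensional k U] (σ : Representation k G U), σ x ≠ 1 → (σ x - 1) ^ 5 = 0 → Q) : Q := by
  obtain ⟨F, h1, h2, h3, h4, h5⟩ := exists_sl2 hc
  have h0 : ∀ i : ℕ, 0 < i → i < p → (i : k) ≠ 0 := fun i h1 h2 e =>
    Nat.not_dvd_of_pos_of_lt h1 h2 ((CharP.cast_eq_zero_iff k p i).1 e)
  obtain ⟨n, hn'⟩ : ∃ n, C.m c = n + 2 := ⟨C.m c - 2, by omega⟩
  have h6 := h0 n (by omega) (by omega)
  have h7 := h0 (n + 1) (by omega) (by omega)
  have h8 := h0 (n + 2) (by omega) (by omega)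
  have h9 := h0 (n + 3) (by omega) (by omega)
  have h10 := h0 (n + 4) (by omega) (by omega)
  have h11 := h0 2 (by omega) (by omega)
  have h12 := h0 3 (by omega) (by omega)
  rw [hn'] at h4 h5
  push_cast at h4 h5 h7 h8 h9 h10 h11 h12
  have h13 : Block (ρ.linHom ρ) x (2 * 1) := by
    refine h.block_of_adj (C := C) (a := F) (by simpa using h1) ?_ fun e => ?_
    · rw [pow_succ', End.mul_apply, mul_one, h2, map_smul, adj_apply, sub_self, smul_zero]
    · rw [mul_one, h2, smul_mul_assoc, map_smul, smul_eq_zero, neg_eq_zero] at e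
      rw [e.resolve_left h11] at h4
      exact mul_ne_zero (mul_ne_zero h7 h8) h9 (by linear_combination -h4)
  have h14 : Block (ρ.linHom ρ) x (2 * 2) := by
    refine h.block_of_adj (C := C) (a := F * F) (Fil.mono (Fil.mul h1 h1) (by simp)) ?_ fun e => ?_
    · rw [pow_succ', End.mul_apply, show 2 * 2 = 4 from rfl, h3, map_smul, adj_apply, mul_assoc,
        sub_self, smul_zero]
    · rw [show 2 * 2 = 4 from rfl, h3, smul_mul_assoc, map_smul, smul_eq_zero] at e
      rw [e.resolve_left fun e => mul_ne_zero (pow_ne_zero 3 h11) h12 (by linear_combination e)]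
        at h5
      exact mul_ne_zero (mul_ne_zero (mul_ne_zero (mul_ne_zero h6 h7) h8) h9) h10
        (by linear_combination -h5)
  have h15 : ∀ z, ((ρ.linHom ρ x - 1) ^ (p - 1)) z ∈ Fil C (dop ρ x q) 0 (C.m c - 1) := fun z =>
    Fil.mono (h.fil_T_pow (mem_fil_bot hc z) _) (by omega)
  exact h.of_block_block hQ hp7 _ (ρ.linHom ρ) rfl h13 h14 fun z z' hz =>
    Fil.exists_smul hc (h15 z) (h15 z') hz

end Uni

end Loc

end Cfsg.PM

set_option linter.all false in
theorem Cfsg.Rz.Mod_PrimeEnd_0 : True := by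
  have := @_root_.Cfsg.PM.homG.eq_def.{0, 0, 0, 0}
  have := @_root_.Cfsg.PM.homG.eq_1.{0, 0, 0, 0}
  have := @_root_.Cfsg.PM.homG.fun_cases
  have := @_root_.Cfsg.PM.coefs.eq_def.{0, 0, 0}
  have := @_root_.Cfsg.PM.coefs.eq_1.{0, 0, 0}
  have := @_root_.Cfsg.PM.coefs.fun_cases
  have := @_root_.Cfsg.PM.adj.eq_def.{0, 0}
  have := @_root_.Cfsg.PM.adj.eq_1.{0, 0}
  have := @_root_.Cfsg.PM.adj.fun_cases
  have := @_root_.Cfsg.PM.Block.eq_def.{0, 0, 0}
  have := @_root_.Cfsg.PM.Block.eq_1.{0, 0, 0}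
  have := @_root_.Cfsg.PM.Block.fun_cases
  have := @_root_.Cfsg.PM.Hm.eq_def.{0, 0, 0}
  have := @_root_.Cfsg.PM.Hm.eq_1.{0, 0, 0}
  have := @_root_.Cfsg.PM.Hm.fun_cases
  trivial
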