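import Cfsg.Agent.Mod.PrimeMod

/-!
# Homomorphism modules for groups with a Sylow subgroup of order `p`
-/

set_option autoImplicit false
set_option linter.unusedSectionVars false
set_option linter.style.haveILetI false

namespace Cfsg.PM

open Module Finset Subgroup Polynomial

universe u v w w'

variable {G : Type u} [Group G] [Finite G] {p : ℕ} [hp : Fact p.Prime] {k : Type v} [Field k]
  [CharP k p] {W : Type w} [AddCommGroup W] [Module k W] {V : Type w'} [AddCommGroup V] [Module k V]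
  {x : G} {L : Subgroup G} {α : Wt L k} {q q' : k[X]}
  {ρ : Representation k G W} {τ : Representation k G V}

theorem linHom_sub_one' (ρ : Representation k G W) (τ : Representation k G V) (x : G)
    (f : W →ₗ[k] V) :
    (ρ.linHom τ x - 1) f = ((τ x - 1) ∘ₗ f - f ∘ₗ (ρ x - 1)) ∘ₗ ρ x⁻¹ :=
  LinearMap.ext fun y => linHom_sub_one ρ τ x f y

theorem mem_wsp_linHom {f : W →ₗ[k] V} {ν : Wt L k} : f ∈ wsp (sig (ρ.linHom τ) L) ν ↔
    ∀ (l : L) y, τ l (f y) = (ν l : k) • f (ρ l y) := by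
  refine forall_congr' fun l => ⟨fun h y => ?_, fun h => LinearMap.ext fun y => ?_⟩
  · have := congrArg (fun g : W →ₗ[k] V => g (ρ l y)) h
    simpa [Representation.linHom_apply] using this
  · simp [Representation.linHom_apply, h]

theorem apply_mem_wsp {f : W →ₗ[k] V} {ν μ : Wt L k} (hf : f ∈ wsp (sig (ρ.linHom τ) L) ν)
    {y : W} (hy : y ∈ wsp (sig ρ L) μ) : f y ∈ wsp (sig τ L) (ν * μ) := fun l => by
  rw [sig_apply, mem_wsp_linHom.1 hf, ← sig_apply, hy l, map_smul, smul_smul]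
  rfl

namespace Loc

variable (h : Loc p x L α q q')
include h

section Fil

variable {C : Chains (dop ρ x q) (sig ρ L)} {r : C.ι → ℤ} {s : ℤ} {f : W →ₗ[k] V}

theorem T_eq' (ρ : Representation k G W) :
    ρ x - 1 = dop ρ x q + dop ρ x q * (dop ρ x q * aeval (dop ρ x q) q') := by
  conv_lhs => rw [h.T_eq]
  simp [sq, mul_assoc]

theorem T_eq'' (ρ : Representation k G W) :
    ρ x - 1 = dop ρ x q + aeval (dop ρ x q) q' * dop ρ x q * dop ρ x q := by
  conv_lhs => rw [h.T_eq, mul_comm (X ^ 2)]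
  simp [sq, mul_assoc]

theorem fil_lead (hf : f ∈ Fil C (dop τ x q) r s) : (ρ.linHom τ x - 1) f -
    (dop τ x q ∘ₗ f - f ∘ₗ dop ρ x q) ∈ Fil C (dop τ x q) r (s + 2) := by
  obtain ⟨r', hr'⟩ := h.x_inv_eq ρ
  have h1 : (τ x - 1) ∘ₗ f - f ∘ₗ (ρ x - 1) - (dop τ x q ∘ₗ f - f ∘ₗ dop ρ x q) ∈
      Fil C (dop τ x q) r (s + 1 + 1) := by
    rw [h.T_eq' τ, h.T_eq'' ρ, LinearMap.add_comp, LinearMap.comp_add, add_sub_add_comm,
      add_sub_cancel_left]
    exact Submodule.sub_mem _ (Fil.left (Fil.left (Fil.left_aeval hf q')))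
      (Fil.right (Fil.right (Fil.right_aeval hf q')))
  have h2 : (τ x - 1) ∘ₗ f - f ∘ₗ (ρ x - 1) ∈ Fil C (dop τ x q) r (s + 1) := by
    simpa using Submodule.add_mem _ (Fil.mono h1 (by omega : s + 1 ≤ _))
      (Submodule.sub_mem _ (Fil.left hf) (Fil.right hf))
  rw [linHom_sub_one', hr', mul_comm X, map_add, map_one, map_mul, aeval_X, LinearMap.comp_add,
    add_sub_right_comm, show s + 2 = s + 1 + 1 by omega]
  exact Submodule.add_mem _ h1 (Fil.right (Fil.right_aeval h2 r'))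

theorem fil_T (hf : f ∈ Fil C (dop τ x q) r s) :
    (ρ.linHom τ x - 1) f ∈ Fil C (dop τ x q) r (s + 1) := by
  simpa using Submodule.add_mem _ (Fil.mono (h.fil_lead hf) (by omega : s + 1 ≤ _))
    (Submodule.sub_mem _ (Fil.left hf) (Fil.right hf))

theorem fil_T_pow (hf : f ∈ Fil C (dop τ x q) r s) (j : ℕ) :
    ((ρ.linHom τ x - 1) ^ j) f ∈ Fil C (dop τ x q) r (s + j) := by
  induction j with
  | zero => simpa using hf
  | succ j ih =>
    rw [pow_succ', End.mul_apply, Nat.cast_succ, ← add_assoc]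
    exact h.fil_T ih

theorem fil_D_pow (hf : f ∈ Fil C (dop τ x q) r s) (j : ℕ) :
    (dop (ρ.linHom τ) x q ^ j) f ∈ Fil C (dop τ x q) r (s + j) := by
  rw [dop.eq_1 (ρ.linHom τ), aeval_pow_eq, End.mul_apply]
  exact h.fil_T_pow (aeval_mem (fun _ hg => Fil.mono (h.fil_T hg) (by omega)) _ hf) j

end Fil

theorem x_mul_nrm [Fintype L] {R : Type*} [CommRing R] {U : Type*} [AddCommGroup U] [Module R U]
    (σ : Representation R G U) : σ x * nrm σ p x L = nrm σ p x L := by
  have h1 : σ x * ∑ i ∈ range p, σ x ^ i = ∑ i ∈ range p, σ x ^ i := by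
    rw [← sub_eq_zero, ← sub_one_mul, mul_geom_sum, ← map_pow, h.pow_p, map_one, sub_self]
  have h2 : ∀ a : ℕ, σ x ^ a * ∑ i ∈ range p, σ x ^ i = ∑ i ∈ range p, σ x ^ i := fun a => by
    induction a with
    | zero => simp
    | succ a ih => rw [pow_succ, mul_assoc, h1, ih]
  rw [nrm, sum_mul, mul_sum]
  refine sum_congr rfl fun l _ => ?_
  obtain ⟨a, ha, -⟩ := h.conj l⁻¹
  conv_rhs => rw [← h2 a, ← map_pow, ← ha, ← mul_assoc, ← map_mul]
  rw [← mul_assoc, ← map_mul]
  simp [mul_assoc]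

omit h in
theorem _root_.Cfsg.PM.l_mul_nrm [Fintype L] {R : Type*} [CommRing R] {U : Type*} [AddCommGroup U]
    [Module R U] (σ : Representation R G U) (l : L) : σ l * nrm σ p x L = nrm σ p x L := by
  rw [nrm, ← mul_assoc]
  congr 1
  rw [mul_sum]
  exact Fintype.sum_equiv (Equiv.mulLeft l) _ _ fun l' => by simp

omit h in
theorem _root_.Cfsg.PM.nrm_eq [Fintype L] (ρ : Representation k G W) :
    nrm ρ p x L = (∑ l : L, ρ l) * (ρ x - 1) ^ (p - 1) := by
  rw [nrm, sum_pow_eq_sub_one_pow (k := k)]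

/-- Projective homomorphisms from a uniserial module. -/
theorem finrank_range_nrm_le [Fintype L] [FiniteDimensional k V]
    (C : Chains (dop ρ x q) (sig ρ L)) {c : C.ι} (hc : ∀ d, d = c) {e : ℕ} (he : α ^ e = 1)
    (hn : C.m c + e = p) : finrank k (LinearMap.range (nrm (ρ.linHom τ) p x L)) ≤
      finrank k ((wsp (sig τ L) (C.w c)).map (dop τ x q ^ e)) := by
  refine LinearMap.finrank_le_finrank_of_injective (f := ((LinearMap.applyₗ (C.u c)).domRestrict
    _).codRestrict _ ?_) ((injective_iff_map_eq_zero _).2 ?_)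
  · rintro ⟨_, w, rfl⟩
    obtain ⟨z, hz⟩ : ((ρ.linHom τ x - 1) ^ (p - 1)) w (C.u c) ∈
        LinearMap.range (dop τ x q ^ e) := by
      have := linHom_pow_apply_mem ρ τ x w (p - 1) _ _ (h.pow_apply_eq_zero.1 (C.top c))
      rwa [← h.range_pow, show p - 1 + 1 - C.m c = e by have := hp.out.pos; omega] at this
    refine ⟨(Fintype.card L : k) • wpr (sig τ L) (C.w c) z,
      Submodule.smul_mem _ _ (wpr_mem _ _ _), ?_⟩
    rw [map_smul, ← End.mul_apply, (commute_wpr _ ((h.shifts τ).commute he)).eq, End.mul_apply, hz,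
      wpr_apply, smul_smul, mul_inv_cancel₀ h.card_ne_zero, one_smul]
    change _ = nrm (ρ.linHom τ) p x L w (C.u c)
    rw [nrm_eq, End.mul_apply, LinearMap.sum_apply, LinearMap.sum_apply]
    refine sum_congr rfl fun l _ => ?_
    rw [Representation.linHom_apply, LinearMap.comp_apply, LinearMap.comp_apply]
    erw [C.wt c l⁻¹]
    rw [map_smul, map_smul]
    rfl
  · rintro ⟨_, w, rfl⟩ h0
    have h1 : nrm (ρ.linHom τ) p x L w (C.u c) = 0 := congrArg Subtype.val h0
    have h2 := linHom_eq_iff.1 (congrArg (fun g => g w) (h.x_mul_nrm (ρ.linHom τ)))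
    refine Subtype.ext (C.hom_ext fun d i _ => ?_)
    rw [hc d]
    erw [dop_pow_comm h2]
    rw [h1, map_zero]
    rfl

/-- A lower bound for the kernel of `D ^ e` on a weight space of `Hom(W, V)`. -/
theorem finrank_map_add_le' [FiniteDimensional k W] [FiniteDimensional k V]
    (C : Chains (dop ρ x q) (sig ρ L)) (C' : Chains (dop τ x q) (sig τ L)) (c' : C'.ι)
    {e : ℕ} (h0 : 0 < e) (he : α ^ e = 1) {ν : Wt L k} (r : C.ι → ℤ)
    (hr : ∀ c, C'.w c' * α ^ r c = ν * C.w c) :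
    finrank k ((wsp (sig (ρ.linHom τ) L) ν).map (dop (ρ.linHom τ) x q ^ e)) +
      ∑ c, (min (C.m c) (C'.m c' - r c).toNat - (-r c).toNat) ≤
      finrank k (wsp (sig (ρ.linHom τ) L) ν) := by
  classical
  let K := {y : Σ c, Fin (C.m c) // 0 ≤ (y.2 : ℤ) + r y.1 ∧ (y.2 : ℤ) + r y.1 < C'.m c'}
  have hK : Fintype.card K = ∑ c, (min (C.m c) (C'.m c' - r c).toNat - (-r c).toNat) := by
    rw [Fintype.card_subtype, card_filter, Fintype.sum_sigma]
    refine sum_congr rfl fun c _ => ?_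
    rw [Fin.sum_univ_eq_sum_range fun i => if 0 ≤ (i : ℤ) + r c ∧ (i : ℤ) + r c < C'.m c' then 1
      else 0, ← card_filter, ← Nat.card_Ico]
    congr 1
    ext i
    simp only [mem_filter, mem_range, mem_Ico]
    omega
  rw [← hK]
  refine finrank_map_add_le (A := Fil C (dop τ x q) r 0 ⊓ wsp _ ν)
    (A' := Fil C (dop τ x q) r e ⊓ wsp _ ν) inf_le_right
    (inf_le_inf_right _ fun f hf => Fil.mono hf (by omega)) (fun f hf => ⟨?_, ?_⟩)
    (LinearMap.pi fun y : K => C'.co c' (y.1.2 + r y.1.1).toNat ∘ₗ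
      LinearMap.applyₗ ((dop ρ x q ^ (y.1.2 : ℕ)) (C.u y.1.1))) (fun s => ?_) fun f hf => ?_
  · simpa using h.fil_D_pow hf.1 e
  · simpa [he] using (h.shifts _).pow_mem e hf.2
  · let s' : C.ι → ℕ → k := fun c i =>
      if hi : i < C.m c ∧ 0 ≤ (i : ℤ) + r c ∧ (i : ℤ) + r c < C'.m c' then
        s ⟨⟨c, ⟨i, hi.1⟩⟩, hi.2⟩ else 0
    have h1 := C.lift_apply' (f := fun c i => s' c i • (dop τ x q ^ (i + r c).toNat) (C'.u c'))
      fun c i hi => by simp only [s', dif_neg fun h' : i < C.m c ∧ _ => hi.not_gt h'.1, zero_smul]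
    generalize C.lift (fun c i => s' c i • (dop τ x q ^ (i + r c).toNat) (C'.u c')) = f at h1
    refine ⟨f, ⟨fun c i => ?_, mem_wsp_linHom.2 fun l y => ?_⟩, funext fun y => ?_⟩
    · rw [h1, add_zero]
      exact Submodule.smul_mem _ _ ⟨_, rfl⟩
    · refine congrArg (fun g : W →ₗ[k] V => g y) (C.hom_ext (f := τ l ∘ₗ f)
        (g := (ν l : k) • f ∘ₗ ρ l) fun c i _ => ?_)
      rw [LinearMap.comp_apply, LinearMap.smul_apply, LinearMap.comp_apply]
      erw [C.pow_u_mem (h.shifts ρ) c i l]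
      rw [map_smul, h1, map_smul]
      erw [C'.pow_u_mem (h.shifts τ) c' _ l]
      by_cases hi : 0 ≤ (i : ℤ) + r c
      · have h2 : C'.w c' * α ^ (i + r c).toNat = ν * (C.w c * α ^ i) := by
          rw [← mul_assoc, ← hr, ← zpow_natCast, Int.toNat_of_nonneg hi, zpow_add, zpow_natCast,
            mul_assoc, mul_comm (α ^ i)]
        rw [h2, smul_smul, smul_smul, smul_smul, mul_comm]
        rfl
      · simp only [s', dif_neg fun h' : i < C.m c ∧ _ ∧ _ => hi h'.2.1, zero_smul, smul_zero]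
    · obtain ⟨⟨c, i⟩, hi⟩ := y
      change C'.co c' _ (f _) = _
      rw [h1, map_smul, C'.co_pow_self (by simp only at hi ⊢; omega), smul_eq_mul, mul_one]
      exact dif_pos ⟨i.2, hi⟩
  · funext y
    obtain ⟨⟨c, i⟩, hi⟩ := y
    exact C'.mem_range_pow.1 (hf.1 c i) c' _ (by simp only at hi ⊢; omega)

end Loc

end Cfsg.PM
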