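import Cfsg.Agent.Mod.PrimeEnd
import Cfsg.Agent.Mod.Proj
import Cfsg.Agent.Blk.PrimeRed

/-!
# Reductions of lattices
-/

set_option autoImplicit false
set_option linter.unusedSectionVars false
set_option linter.style.haveILetI false

namespace Cfsg.PM

open Module Finset Subgroup Polynomial Matrix IsLocalRing
open scoped Kronecker ComplexConjugate

universe u v w w'

variable {G : Type u} [Group G] [Finite G] {p : ℕ} [hp : Fact p.Prime] {M : Ideal AlgInt}

section Fact

variable {n : Type} [Fintype n] [DecidableEq n]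

theorem exists_fact {U : Type w} [AddCommGroup U] [Module ℂ U] (π : (n → ℂ) →ₗ[ℂ] U) :
    ∃ (r : ℕ) (B : (Fin r → ℂ) →ₗ[ℂ] U) (Q : Matrix (Fin r) n (locO M))
      (S : Matrix n (Fin r) (locO M)), Function.Injective B ∧ Q * S = 1 ∧
      ∀ v, π v = B (Q.map (locO M).subtype *ᵥ v) := by
  obtain ⟨r, b, h1, h2⟩ := exists_linearIndependent_span_eq (M := M)
    (Submodule.span (locO M) (Set.range fun j => π (Pi.single j 1)))
    (Submodule.fg_span (Set.finite_range _))
  choose Q hQ using fun j => (Submodule.mem_span_range_iff_exists_fun (locO M)).1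
    (h2.ge (Submodule.subset_span ⟨j, rfl⟩))
  choose S hS using fun i => (Submodule.mem_span_range_iff_exists_fun (locO M)).1
    (h2.le (Submodule.subset_span ⟨i, rfl⟩))
  beta_reduce at hQ
  have h3 := h1.fintypeLinearCombination_injective
  have h4 : ∀ v, π v = Fintype.linearCombination ℂ b ((of fun i j => Q j i).map
      (locO M).subtype *ᵥ v) := fun v => by
    rw [LinearMap.pi_apply_eq_sum_univ π, Fintype.linearCombination_apply]
    simp only [mulVec, dotProduct, map_apply, of_apply, Finset.sum_smul]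
    rw [sum_comm]
    refine sum_congr rfl fun j _ => ?_
    rw [show (fun i => if j = i then (1 : ℂ) else 0) = Pi.single j 1 by
      ext i; simp [Pi.single_apply, eq_comm], ← hQ j, Finset.smul_sum]
    exact sum_congr rfl fun i _ => by rw [mul_comm, mul_smul]; rfl
  refine ⟨r, _, of fun i j => Q j i, of fun j i => S i j, h3, ?_, h4⟩
  refine Matrix.map_injective (f := (locO M).subtype) Subtype.val_injective ?_
  refine Matrix.toLin'.injective (LinearMap.pi_ext' fun i => LinearMap.ext_ring (h3 ?_))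
  simp only [LinearMap.comp_apply, LinearMap.coe_single, toLin'_apply]
  rw [Matrix.map_mul, ← mulVec_mulVec, ← h4, Matrix.map_one _ (map_zero _) (map_one _), one_mulVec,
    Fintype.linearCombination_apply_single, one_smul, ← hS i, mulVec_single_one,
    LinearMap.pi_apply_eq_sum_univ π]
  refine sum_congr rfl fun j _ => ?_
  rw [show (fun i => if j = i then (1 : ℂ) else 0) = Pi.single j 1 by
    ext i; simp [Pi.single_apply, eq_comm]]
  rfl

theorem surjective_of_mul {r : ℕ} {Q : Matrix (Fin r) n (locO M)} {S : Matrix n (Fin r) (locO M)}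
    (h : Q * S = 1) {K : Type} [Field K] (f : locO M →+* K) :
    Function.Surjective (toLin' (Q.map f)) := fun w => ⟨S.map f *ᵥ w, by
  rw [toLin'_apply, mulVec_mulVec, ← Matrix.map_mul, h, Matrix.map_one _ (map_zero _) (map_one _),
    one_mulVec]⟩

theorem finrank_ker_add {r : ℕ} {Q : Matrix (Fin r) n (locO M)} {S : Matrix n (Fin r) (locO M)}
    (h : Q * S = 1) {K : Type} [Field K] (f : locO M →+* K) :
    r + finrank K (LinearMap.ker (toLin' (Q.map f))) = Fintype.card n := by
  have := LinearMap.finrank_range_add_finrank_ker (toLin' (Q.map f))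
  rwa [LinearMap.range_eq_top.2 (surjective_of_mul h f), finrank_top, finrank_fin_fun,
    finrank_fintype_fun_eq_card] at this

theorem exists_red_subspace (U : Submodule ℂ (n → ℂ)) : ∃ S : Submodule (ResK M) (n → ResK M),
    finrank (ResK M) S = finrank ℂ U ∧
    (∀ v : n → locO M, (locO M).subtype ∘ v ∈ U → residue (locO M) ∘ v ∈ S) ∧
    ∀ w ∈ S, ∃ v : n → locO M, (locO M).subtype ∘ v ∈ U ∧ residue (locO M) ∘ v = w := by
  obtain ⟨r, B, Q, S, h1, h2, h3⟩ := exists_fact (M := M) U.mkQ
  have h4 : U = LinearMap.ker (toLin' (Q.map (locO M).subtype)) := Submodule.ext fun v => by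
    rw [← Submodule.Quotient.mk_eq_zero, ← Submodule.mkQ_apply, h3, map_eq_zero_iff _ h1]
    rfl
  have h5 : ∀ {K : Type} [Field K] (f : locO M →+* K) (v : n → locO M),
      toLin' (Q.map f) (f ∘ v) = f ∘ (Q *ᵥ v) := fun f v =>
    funext fun i => (RingHom.map_mulVec f Q v i).symm
  have h6 : ∀ v : n → locO M, (locO M).subtype ∘ v ∈ U ↔ Q *ᵥ v = 0 := fun v => by
    rw [h4, LinearMap.mem_ker, h5]
    exact ⟨fun h => funext fun i => Subtype.ext (congrFun h i), fun h => by rw [h]; rfl⟩
  refine ⟨LinearMap.ker (toLin' (Q.map (residue (locO M)))), ?_, fun v hv => ?_, fun w hw => ?_⟩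
  · rw [h4]
    exact Nat.add_left_cancel ((finrank_ker_add h2 (residue (locO M))).trans
      (finrank_ker_add h2 (locO M).subtype).symm)
  · rw [LinearMap.mem_ker, h5, (h6 v).1 hv]
    exact funext fun i => map_zero _
  · choose v hv using fun i => residue_surjective (w i)
    obtain rfl : residue (locO M) ∘ v = w := funext hv
    refine ⟨v - S *ᵥ (Q *ᵥ v), (h6 _).2 ?_, funext fun i => ?_⟩
    · rw [mulVec_sub, mulVec_mulVec, h2, one_mulVec, sub_self]
    · rw [LinearMap.mem_ker, h5] at hw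
      rw [Function.comp_apply, Pi.sub_apply, map_sub, RingHom.map_mulVec, hw, mulVec_zero]
      simp

end Fact

section Hom

variable {m n : Type} [Fintype m] [DecidableEq m] [Fintype n] [DecidableEq n] {O : Type}
  [CommRing O]

/-- The lattice of homomorphisms. -/
def homRep (R : G →* Matrix n n O) (S : G →* Matrix m m O) : G →* Matrix (m × n) (m × n) O where
  toFun g := S g ⊗ₖ (R g⁻¹)ᵀ
  map_one' := by simp
  map_mul' g h := by rw [← mul_kronecker_mul, _root_.mul_inv_rev, map_mul, map_mul, transpose_mul]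

theorem exists_homRep_equiv (R : G →* Matrix n n O) (S : G →* Matrix m m O) {K : Type} [Field K]
    (f : O →+* K) : ∃ e : ((n → K) →ₗ[K] (m → K)) ≃ₗ[K] (m × n → K), ∀ g y,
      e ((matRep (matMap R f)).linHom (matRep (matMap S f)) g y) =
        matRep (matMap (homRep R S) f) g (e y) := by
  refine ⟨LinearMap.toMatrix' ≪≫ₗ (Matrix.ofLinearEquiv K).symm ≪≫ₗ (LinearEquiv.curry K K m n).symm,
    fun g y => funext fun ⟨i, j⟩ => ?_⟩
  change LinearMap.toMatrix' (toLin' ((S g).map f) ∘ₗ y ∘ₗ toLin' ((R g⁻¹).map f)) i j =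
    ∑ a : m × n, f (S g i a.1 * R g⁻¹ a.2 j) * LinearMap.toMatrix' y a.1 a.2
  rw [LinearMap.toMatrix'_comp, LinearMap.toMatrix'_comp, LinearMap.toMatrix'_toLin',
    LinearMap.toMatrix'_toLin', Fintype.sum_prod_type]
  simp only [mul_apply, map_apply, mul_sum, map_mul]
  exact sum_congr rfl fun a _ => sum_congr rfl fun b _ => by ring

end Hom

variable {W : Type w} [AddCommGroup W] [Module (ResK M) W] {V : Type w'} [AddCommGroup V]
  [Module (ResK M) V]

/-- `σ` is the reduction of a lattice with character `F`. -/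
def Red (F : G → ℂ) (σ : Representation (ResK M) G W) : Prop :=
  ∃ (n : Type) (_ : Fintype n) (_ : DecidableEq n) (R : G →* Matrix n n (locO M))
    (e : W ≃ₗ[ResK M] (n → ResK M)), (latC R).character = F ∧ ∀ g y, e (σ g y) = latK R g (e y)

variable {F F' : G → ℂ} {σ : Representation (ResK M) G W} {τ : Representation (ResK M) G V}

theorem red_latK {n : Type} [Fintype n] [DecidableEq n] (R : G →* Matrix n n (locO M)) :
    Red (latC R).character (latK R) := ⟨n, _, _, R, .refl _ _, rfl, fun _ _ => rfl⟩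

namespace Red

theorem isCharacter (h : Red F σ) : IsCharacter G F := by
  obtain ⟨n, _, _, R, e, rfl, -⟩ := h
  exact isCharacter_of_rep _

theorem finiteDimensional (h : Red F σ) : FiniteDimensional (ResK M) W := by
  obtain ⟨n, _, _, R, e, -⟩ := h
  exact e.symm.finiteDimensional

theorem congr (h : Red F σ) (e : σ.Equiv τ) : Red F τ := by
  obtain ⟨n, _, _, R, e', h1, h2⟩ := h
  exact ⟨n, _, _, R, e.symm.toLinearEquiv ≪≫ₗ e', h1, fun g y =>
    (congrArg e' (e.symm.toIntertwiningMap.isIntertwining _ _ g y)).trans (h2 g _)⟩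

theorem brauerChar_eq [FiniteDimensional (ResK M) W] (hM : IsPModular p M) (h : Red F σ) :
    brauerChar p M σ = pRegularPart p F := by
  obtain ⟨n, _, _, R, e, rfl, h2⟩ := h
  rw [← brauerChar_latK hM]
  exact brauerChar_congr (.mk e fun g => LinearMap.ext (h2 g))

theorem finrank_eq (hM : IsPModular p M) (h : Red F σ) : F 1 = finrank (ResK M) W := by
  haveI := h.finiteDimensional
  rw [← brauerChar_one hM σ, h.brauerChar_eq hM, pRegularPart_of_reg isPRegular_one]

theorem linHom (h : Red F σ) (h' : Red F' τ) : Red (star F * F') (σ.linHom τ) := by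
  obtain ⟨n, _, _, R, e, rfl, h2⟩ := h
  obtain ⟨m, _, _, S, e', rfl, h2'⟩ := h'
  obtain ⟨E, hE⟩ := exists_homRep_equiv R S (residue (locO M))
  obtain ⟨E', hE'⟩ := exists_homRep_equiv R S (locO M).subtype
  refine ⟨_, _, _, homRep R S, e.arrowCongr e' ≪≫ₗ E, ?_, fun g y => ?_⟩
  · rw [← Representation.char_iso (.mk E' fun g => LinearMap.ext (hE' g))]
    funext g
    rw [Representation.char_linHom, (isCharacter_of_rep _).apply_inv]
    rfl
  · rw [LinearEquiv.trans_apply, LinearEquiv.trans_apply, ← hE]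
    congr 1
    refine LinearMap.ext fun v => ?_
    simp only [LinearEquiv.arrowCongr_apply, Representation.linHom_apply, LinearMap.comp_apply, h2']
    congr 3
    rw [LinearEquiv.eq_symm_apply, h2, LinearEquiv.apply_symm_apply]

theorem exists_quot (h : Red F σ) (Y : Finset (IrrCharacter G)) :
    ∃ (r : ℕ) (σ' : Representation (ResK M) G (Fin r → ResK M)) (Q : W →ₗ[ResK M] Fin r → ResK M),
      Red (∑ η ∈ Y, ip F η.1 • η.1) σ' ∧ Function.Surjective Q ∧ ∀ g y, Q (σ g y) = σ' g (Q y) := by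
  classical
  obtain ⟨n, _, _, R, e, rfl, h2⟩ := h
  have hz : ∑ η ∈ Y, charIdem η.1 ∈ GA.Zalg ℂ (⊤ : Subgroup G) ⊤ := sum_mem fun η _ => charIdem_mem η
  have hω : ∀ χ : IrrCharacter G, omega χ.1 (∑ η ∈ Y, charIdem η.1) = if χ ∈ Y then 1 else 0 :=
    fun χ => by
      rw [omega_sum, ← sum_ite_eq Y χ fun _ => (1 : ℂ)]
      refine sum_congr rfl fun η _ => ?_
      split_ifs with e
      exacts [e ▸ omega_charIdem_self χ, omega_charIdem_of_ne e]
  have hzz : (∑ η ∈ Y, charIdem η.1) * ∑ η ∈ Y, charIdem η.1 = ∑ η ∈ Y, charIdem η.1 := by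
    rw [mul_sum]
    exact sum_congr rfl fun η hη => by rw [central_mul_charIdem hz, hω, if_pos hη, one_smul]
  generalize ∑ η ∈ Y, charIdem η.1 = z at hz hω hzz
  have hπ : ∀ g, (latC R).asAlgebraHom z * latC R g = latC R g * (latC R).asAlgebraHom z :=
    fun g => by
      rw [← Representation.asAlgebraHom_of, ← map_mul, ← map_mul,
        Subalgebra.mem_center_iff.1 (GA.mem_Zalg_top_top_iff.1 hz)]
  obtain ⟨r, B, Q, S, h3, h4, h5⟩ := exists_fact (M := M) ((latC R).asAlgebraHom z)
  have h6 : ∀ v, Q.map (locO M).subtype *ᵥ (S.map (locO M).subtype *ᵥ v) = v := fun v => by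
    rw [mulVec_mulVec, ← Matrix.map_mul, h4, Matrix.map_one _ (map_zero _) (map_one _), one_mulVec]
  have h7 : ∀ g v, Q.map (locO M).subtype *ᵥ latC R g (S.map (locO M).subtype *ᵥ
      (Q.map (locO M).subtype *ᵥ v)) = Q.map (locO M).subtype *ᵥ latC R g v := fun g v => h3 (by
    rw [← h5, ← h5, ← End.mul_apply, hπ, End.mul_apply, h5, h6, ← h5, ← End.mul_apply, ← hπ,
      End.mul_apply])
  have h8 : ∀ g, Q * R g * S * Q = Q * R g := fun g =>
    Matrix.map_injective (f := (locO M).subtype) Subtype.val_injective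
      (Matrix.toLin'.injective (LinearMap.ext fun v => by
        simp only [toLin'_apply, Matrix.map_mul, ← mulVec_mulVec]
        exact h7 g v))
  let R' : G →* Matrix (Fin r) (Fin r) (locO M) :=
    { toFun := fun g => Q * R g * S
      map_one' := by rw [map_one, Matrix.mul_one, h4]
      map_mul' := fun g g' => by
        rw [← Matrix.mul_assoc, ← Matrix.mul_assoc, h8, map_mul, ← Matrix.mul_assoc] }
  refine ⟨r, latK R', toLin' (Q.map (residue (locO M))) ∘ₗ e.toLinearMap, ?_,
    (surjective_of_mul h4 _).comp e.surjective, fun g y => ?_⟩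
  · convert red_latK R' using 1
    funext g
    have h9 : ∀ v, Q.map (locO M).subtype *ᵥ B v = v := fun v => h3 (by
      rw [← h5, ← h6 v, ← h5, ← End.mul_apply, ← map_mul, hzz])
    have h10 : latC R' g = toLin' (Q.map (locO M).subtype) ∘ₗ latC R g ∘ₗ B :=
      LinearMap.ext fun v => by
        have := h7 g (B v)
        rw [h9] at this
        refine Eq.trans ?_ this
        change (Q * R g * S).map (locO M).subtype *ᵥ v = _
        simp only [Matrix.map_mul, ← mulVec_mulVec]
        rfl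
    have h11 : (latC R).asAlgebraHom (z * MonoidAlgebra.of ℂ G g) =
        (latC R g ∘ₗ B) ∘ₗ toLin' (Q.map (locO M).subtype) := LinearMap.ext fun v => by
      rw [map_mul, Representation.asAlgebraHom_of, hπ, End.mul_apply, h5]
      rfl
    rw [Representation.character, h10, LinearMap.trace_comp_comm', ← h11, ← charExt_character,
      (isCharacter_of_rep (latC R)).isClassFunction.eq_sum, charExt_sum_left,
      ← (isCharacter_of_rep (latC R)).isClassFunction.eq_sum]
    simp only [charExt_smul_left, charExt_central_mul _ hz, hω, charExt_of, ite_mul, one_mul,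
      zero_mul, mul_ite, mul_zero, sum_ite_mem, univ_inter, Finset.sum_apply, Pi.smul_apply,
      smul_eq_mul]
  · simp only [LinearMap.comp_apply, LinearEquiv.coe_coe, h2, toLin'_apply, matRep_apply,
      matMap_apply, mulVec_mulVec, ← Matrix.map_mul]
    exact congrArg (fun A : Matrix _ _ _ => A.map (residue (locO M)) *ᵥ e y) (h8 g).symm

end Red

theorem exists_irreducible_quot {K : Type v} [Field K] {U : Type w} [AddCommGroup U] [Module K U]
    [FiniteDimensional K U] [Nontrivial U] (ρ : Representation K G U) :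
    ∃ (S : Submodule K U) (hS : ∀ g, S ≤ S.comap (ρ g)), (ρ.quotient S hS).IsIrreducible := by
  obtain ⟨S, ⟨h1, h2⟩, h3⟩ := (wellFounded_gt (α := Submodule K U)).has_min
    {S | (∀ g, S ≤ S.comap (ρ g)) ∧ S ≠ ⊤} ⟨⊥, fun _ => bot_le, bot_ne_top⟩
  refine ⟨S, h1, (rep_isIrreducible_iff _).2 ⟨Submodule.Quotient.nontrivial_iff.2 h2,
    fun T hT => ?_⟩⟩
  by_cases h4 : T.comap S.mkQ = ⊤
  · exact Or.inr (by
      rw [← Submodule.map_comap_eq_of_surjective S.mkQ_surjective T, h4, Submodule.map_top,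
        S.range_mkQ])
  · refine Or.inl ?_
    rw [← Submodule.map_comap_eq_of_surjective S.mkQ_surjective T,
      ← (S.le_comap_mkQ T).eq_of_not_lt (h3 _ ⟨fun g y hy => hT g _ hy, h4⟩), S.mkQ_map_self]

theorem exists_hom_ibr (hM : IsPModular p M) [FiniteDimensional (ResK M) W] [Nontrivial W]
    (σ : Representation (ResK M) G W) :
    ∃ (ψ : IBr p M G) (f : W →ₗ[ResK M] _), f ∈ homG σ ψ.rep ∧ f ≠ 0 := by
  obtain ⟨S, hS, h⟩ := exists_irreducible_quot σ
  let ψ : IBr p M G := ⟨_, isIBr_of_rep _ h⟩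
  obtain ⟨e⟩ := nonempty_equiv_of_brauerChar_eq hM h ψ.rep_isIrreducible ψ.brauerChar_rep.symm
  refine ⟨ψ, e.toLinearMap ∘ₗ S.mkQ, fun g y =>
    e.toIntertwiningMap.isIntertwining _ _ g (S.mkQ y), fun h0 => ?_⟩
  obtain ⟨y, hy⟩ := exists_ne (0 : Fin ψ.deg → ResK M)
  obtain ⟨z, rfl⟩ := (e.toLinearEquiv.surjective.comp S.mkQ_surjective) y
  exact hy (congrArg (fun f : W →ₗ[ResK M] _ => f z) h0)

theorem indec_of_gen (hM : IsPModular p M) [FiniteDimensional (ResK M) W] {φ : IBr p M G}
    {a : MonoidAlgebra (ResK M) G} (h1 : φ.rk a = 1)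
    (h2 : ∀ ψ : IBr p M G, ψ ≠ φ → ψ.rep.asAlgebraHom a = 0) {v : W} (hv : σ.asAlgebraHom a v = v)
    (h3 : Submodule.span (ResK M) (Set.range fun g => σ g v) = ⊤) : Indec σ := by
  have h4 : ∀ {ψ : IBr p M G}, ∀ f ∈ homG σ ψ.rep, f v = 0 → f = 0 := fun f hf h =>
    LinearMap.ext_on_range h3 fun g => by rw [hf, h, map_zero, LinearMap.zero_apply]
  have h5 : ∀ {U U' : Submodule (ResK M) W}, (∀ g, U ≤ U.comap (σ g)) → (∀ g, U' ≤ U'.comap (σ g)) →
      IsCompl U U' → U ≠ ⊥ → ∃ f ∈ homG σ φ.rep, f ≠ 0 ∧ ∀ y ∈ U', f y = 0 := by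
    intro U U' hU hU' hc h0
    haveI : Nontrivial (W ⧸ U') := Submodule.Quotient.nontrivial_iff.2 fun e =>
      h0 (by simpa [e] using hc.inf_eq_bot)
    obtain ⟨ψ, f, h6, h7⟩ := exists_hom_ibr hM (σ.quotient U' hU')
    have h8 : f ∘ₗ U'.mkQ ∈ homG σ ψ.rep := fun g y => h6 g (U'.mkQ y)
    have h9 : f ∘ₗ U'.mkQ ≠ 0 := fun e => h7 ((LinearMap.cancel_right U'.mkQ_surjective).1 e)
    obtain rfl : ψ = φ := by_contra fun e => h9 (h4 _ h8 (by
      rw [← hv, asAlgebraHom_comm_of_comm _ h8, h2 ψ e, LinearMap.zero_apply]))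
    exact ⟨_, h8, h9, fun y hy => by
      rw [LinearMap.comp_apply, U'.mkQ_apply, (Submodule.Quotient.mk_eq_zero _).2 hy, map_zero]⟩
  intro U U' hU hU' hc
  by_contra h0
  push Not at h0
  obtain ⟨f, h6, h7, h8⟩ := h5 hU hU' hc h0.1
  obtain ⟨f', h6', h7', h8'⟩ := h5 hU' hU hc.symm h0.2
  have h9 : ∀ f ∈ homG σ φ.rep, f v ∈ LinearMap.range (φ.rep.asAlgebraHom a) := fun f hf =>
    ⟨f v, by rw [← asAlgebraHom_comm_of_comm _ hf, hv]⟩
  obtain ⟨c, hc'⟩ := (finrank_eq_one_iff_of_nonzero' (⟨_, h9 f h6⟩ : LinearMap.range _)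
    fun e => h7 (h4 f h6 (congrArg Subtype.val e))).1 h1 ⟨_, h9 f' h6'⟩
  have h10 := h4 (c • f - f') (Submodule.sub_mem _ (Submodule.smul_mem _ c h6) h6')
    (sub_eq_zero.2 (congrArg Subtype.val hc'))
  refine h7' (LinearMap.ext fun y => ?_)
  obtain ⟨z, z', rfl, -⟩ := Submodule.existsUnique_add_of_isCompl hc y
  rw [map_add, h8' z z.2, ← sub_eq_zero.1 h10, LinearMap.smul_apply, h8 z' z'.2]
  simp

theorem exists_red_indec (hM : IsPModular p M) (θ : IrrCharacter G) :
    ∃ (n : ℕ) (σ : Representation (ResK M) G (Fin n → ResK M)), Red θ.1 σ ∧ Indec σ := by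
  classical
  letI := Fintype.ofFinite G
  obtain ⟨φ, hφ⟩ := θ.exists_decNum_ne_zero hM
  obtain ⟨e, he, hee, h1, h2⟩ := φ.exists_idem_rk
  obtain ⟨m, ρ, hρ, h3⟩ := θ.2
  have h4 : ρ.asAlgebraHom e ≠ 0 := fun h0 => by
    have := θ.isCharacter.charExt_idem hM he hee
    rw [sum_eq_single φ (fun ψ _ hψ => by simp [IBr.rk, h2 ψ hψ]) (by simp), h1, ← h3,
      charExt_character, h0, map_zero, h3] at this
    exact hφ (by simpa using this.symm)
  obtain ⟨v, hv, hv0⟩ : ∃ v, ρ.asAlgebraHom e v = v ∧ v ≠ 0 := by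
    obtain ⟨y, hy⟩ := DFunLike.ne_iff.1 h4
    exact ⟨_, by rw [← End.mul_apply, ← map_mul, hee], hy⟩
  have hinv : ∀ {K : Type} [CommRing K] [Algebra K ℂ] (g : G),
      ∀ y ∈ Submodule.span K (Set.range fun g => ρ g v),
      ρ g y ∈ Submodule.span K (Set.range fun g => ρ g v) := by
    intro K _ _ g y hy
    induction hy using Submodule.span_induction with
    | mem y hy =>
      obtain ⟨h, rfl⟩ := hy
      exact Submodule.subset_span ⟨g * h, by simp⟩
    | zero => simp
    | add x y _ _ hx hy => rw [map_add]; exact Submodule.add_mem _ hx hy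
    | smul a y _ hy =>
      rw [LinearMap.map_smul_of_tower]
      exact Submodule.smul_mem _ a hy
  obtain ⟨n, b, hb⟩ := exists_basis_of_lattice (M := M)
    (Submodule.span (locO M) (Set.range fun g => ρ g v)) (Submodule.fg_span (Set.finite_range _))
    (by
      rw [Submodule.span_span_of_tower]
      exact (((rep_isIrreducible_iff ρ).1 hρ).2 _ hinv).resolve_left fun e =>
        hv0 ((Submodule.mem_bot ℂ).1 (e ▸ Submodule.subset_span ⟨1, by simp⟩)))
  have hmem : ∀ g, LinearMap.toMatrix b b (ρ g) ∈ matO M (Fin n) := fun g =>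
    toMatrix_mem_matO b (by rw [hb]; exact hinv g)
  let R₀ : G → Matrix (Fin n) (Fin n) (locO M) := fun g =>
    Matrix.of fun i j => ⟨LinearMap.toMatrix b b (ρ g) i j, hmem g i j⟩
  have hR₀ : ∀ g, (locO M).subtype.mapMatrix (R₀ g) = LinearMap.toMatrix b b (ρ g) := fun g => rfl
  have hinj : Function.Injective ((locO M).subtype.mapMatrix (m := Fin n)) :=
    Matrix.map_injective Subtype.val_injective
  let R : G →* Matrix (Fin n) (Fin n) (locO M) :=
    { toFun := R₀
      map_one' := hinj (by rw [hR₀, map_one, LinearMap.toMatrix_one, map_one])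
      map_mul' := fun g h => hinj (by rw [map_mul, hR₀, hR₀, hR₀, map_mul, LinearMap.toMatrix_mul]) }
  have h5 : ∀ g y, b.equivFun (ρ g y) = latC R g (b.equivFun y) := fun g y =>
    (LinearMap.toMatrix_mulVec_repr b b (ρ g) y).symm
  let c : Fin n → locO M := fun i => ⟨b.repr v i, (mem_span_basis_iff b v).1
    (hb.ge (Submodule.subset_span ⟨1, by simp⟩)) i⟩
  have hc : b.equivFun v = (locO M).subtype ∘ c := rfl
  have h6 : ∀ {K : Type} [Field K] (f : locO M →+* K) (a : MonoidAlgebra (locO M) G),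
      (matRep (matMap R f)).asAlgebraHom (MonoidAlgebra.mapRingHom G f a) (f ∘ c) =
        f ∘ (latHom R a *ᵥ c) := fun f a => by
    rw [matRep_matMap_asAlgebraHom]
    exact funext fun i => (RingHom.map_mulVec f _ c i).symm
  have h7 : ∀ a : MonoidAlgebra (locO M) G, (locO M).subtype ∘ (latHom R a *ᵥ c) =
      b.equivFun (ρ.asAlgebraHom (toC G M a) v) := fun a => by
    rw [← h6]
    exact (asAlgebraHom_comm_of_comm b.equivFun.toLinearMap h5 _ v).symm
  refine ⟨n, latK R, ?_, ?_⟩
  · rw [← h3, Representation.char_iso (σ := latC R) (.mk b.equivFun fun g => LinearMap.ext (h5 g))]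
    exact red_latK R
  obtain ⟨e, rfl⟩ := exists_toC_eq he
  refine indec_of_gen hM h1 h2 (v := residue (locO M) ∘ c) ?_ (eq_top_iff.2 ?_)
  · rw [redGA_toC, h6]
    congr 1
    refine funext fun i => Subtype.ext ?_
    exact congrFun ((h7 e).trans (congrArg _ hv)) i
  · rw [← (Pi.basisFun (ResK M) (Fin n)).span_eq, Submodule.span_le]
    rintro _ ⟨i, rfl⟩
    obtain ⟨a, ha⟩ := (Submodule.mem_span_range_iff_exists_fun (locO M)).1
      (hb.le (Submodule.subset_span ⟨i, rfl⟩))
    have h8 : ∑ g, a g • R g *ᵥ c = Pi.single i 1 := funext fun j => Subtype.ext (by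
      have := congrFun (congrArg b.equivFun ha) j
      rw [map_sum, Finset.sum_apply, Basis.equivFun_self] at this
      rw [Finset.sum_apply, AddSubmonoidClass.coe_finsetSum]
      refine (sum_congr rfl fun g _ => ?_).trans (this.trans ?_)
      · rw [show a g • ρ g v = (a g : ℂ) • ρ g v from rfl, map_smul, h5, hc]
        exact congrArg (((a g : ℂ)) * ·) (RingHom.map_mulVec (locO M).subtype _ c j)
      · by_cases e : i = j <;> simp [e, eq_comm])
    refine (Submodule.mem_span_range_iff_exists_fun _).2 ⟨fun g => residue _ (a g),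
      funext fun j => ?_⟩
    have := congrArg (residue (locO M)) (congrFun h8 j)
    rw [Finset.sum_apply, map_sum] at this
    rw [Finset.sum_apply]
    refine (sum_congr rfl fun g _ => ?_).trans (this.trans ?_)
    · rw [Pi.smul_apply, Pi.smul_apply, smul_eq_mul, smul_eq_mul, map_mul, RingHom.map_mulVec]
      rfl
    · by_cases e : i = j <;> simp [e, eq_comm]

theorem finrank_range_add_le {K : Type v} [Field K] {U : Type w} [AddCommGroup U] [Module K U]
    [FiniteDimensional K U] {a : End K U} {S : Submodule K U} (hS : S ≤ S.comap a) :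
    finrank K (LinearMap.range (a.restrict hS)) + finrank K (LinearMap.range (S.mapQ S a hS)) ≤
      finrank K (LinearMap.range a) := by
  have e1 := LinearMap.finrank_range_add_finrank_ker (S.mkQ.domRestrict (LinearMap.range a))
  have e2 : finrank K (LinearMap.range (S.mapQ S a hS)) ≤
      finrank K (LinearMap.range (S.mkQ.domRestrict (LinearMap.range a))) :=
    Submodule.finrank_mono (by
      rintro _ ⟨y, rfl⟩
      obtain ⟨y, rfl⟩ := S.mkQ_surjective y
      exact ⟨⟨_, y, rfl⟩, rfl⟩)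
  have e3 : finrank K (LinearMap.range (a.restrict hS)) ≤
      finrank K (LinearMap.ker (S.mkQ.domRestrict (LinearMap.range a))) :=
    LinearMap.finrank_le_finrank_of_injective
      (f := ((S.subtype.domRestrict _).codRestrict _ (by
        rintro ⟨_, y, rfl⟩; exact ⟨y, rfl⟩)).codRestrict _ fun y =>
          (Submodule.Quotient.mk_eq_zero _).2 y.1.2) fun y y' h =>
      Subtype.ext (Subtype.ext (congrArg (fun z => (z.1 : U)) h))
  omega

theorem pure_of_add (hM : IsPModular p M) {φ : IBr p M G} {j : ℕ} {β β' : G → ℂ}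
    (hβ : IsBrauerChar G p M β) (hβ' : IsBrauerChar G p M β') (h : β + β' = (j : ℂ) • φ.1) :
    ∃ i i' : ℕ, β = (i : ℂ) • φ.1 ∧ β' = (i' : ℂ) • φ.1 ∧ i + i' = j := by
  classical
  have h1 := IBr.eq_of_sum_eq hM (a := fun ψ => (decNum β ψ + decNum β' ψ : ℕ))
    (b := Pi.single φ j) (by
      simp only [Nat.cast_add, add_smul, sum_add_distrib, ← hβ.eq_sum_decNum, ← hβ'.eq_sum_decNum,
        h]
      rw [sum_eq_single φ (fun ψ _ e => by simp [e]) (by simp), Pi.single_eq_same])
  have h2 : ∀ ψ, ψ ≠ φ → decNum β ψ + decNum β' ψ = 0 := fun ψ e => by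
    have := congrFun h1 ψ
    rwa [Pi.single_eq_of_ne e, Nat.cast_eq_zero] at this
  refine ⟨decNum β φ, decNum β' φ, ?_, ?_, by simpa [-Nat.cast_add] using congrFun h1 φ⟩
  · conv_lhs => rw [hβ.eq_sum_decNum]
    exact sum_eq_single φ (fun ψ _ e => by simp [(Nat.add_eq_zero_iff.1 (h2 ψ e)).1]) (by simp)
  · conv_lhs => rw [hβ'.eq_sum_decNum]
    exact sum_eq_single φ (fun ψ _ e => by simp [(Nat.add_eq_zero_iff.1 (h2 ψ e)).2]) (by simp)

theorem le_finrank_of_pure (hM : IsPModular p M) {φ : IBr p M G} {a : MonoidAlgebra (ResK M) G}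
    (ha : φ.rep.asAlgebraHom a ≠ 0) (j : ℕ) : ∀ {W : Type w} [AddCommGroup W] [Module (ResK M) W]
    [FiniteDimensional (ResK M) W] (σ : Representation (ResK M) G W),
    brauerChar p M σ = (j : ℂ) • φ.1 →
      j ≤ finrank (ResK M) (LinearMap.range (σ.asAlgebraHom a)) := by
  induction j with
  | zero => exact fun _ _ => Nat.zero_le _
  | succ j ih =>
    intro W _ _ _ σ h
    classical
    have h0 : ∀ {U : Type w} [AddCommGroup U] [Module (ResK M) U] [FiniteDimensional (ResK M) U]
        (τ : Representation (ResK M) G U) {i : ℕ}, brauerChar p M τ = (i : ℂ) • φ.1 →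
        finrank (ResK M) U = i * φ.deg := fun τ i h => by
      have := congrFun h 1
      rw [brauerChar_one hM, Pi.smul_apply, φ.apply_one hM, smul_eq_mul] at this
      exact_mod_cast this
    haveI : Nontrivial W := finrank_pos_iff.1 (h0 σ h ▸ Nat.mul_pos j.succ_pos φ.deg_pos)
    obtain ⟨U, hU, h1⟩ := exists_irreducible_subrep σ
    obtain ⟨i, i', h2, h3, h4⟩ := pure_of_add hM (isBrauerChar_of_rep _) (isBrauerChar_of_rep _)
      ((brauerChar_eq_add_of_invt σ hU).symm.trans h)
    have h5 : decNum (brauerChar p M (σ.subrepresentation U hU)) =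
        (Pi.single φ i : IBr p M G → ℕ) := by
      refine funext (decNum_eq_of_eq_sum hM ?_)
      rw [pRegularPart_brauerChar, h2, sum_eq_single φ (fun ψ _ e => by simp [e]) (by simp),
        Pi.single_eq_same]
    haveI := ((rep_isIrreducible_iff _).1 h1).1
    have h6 : 0 < i := Nat.pos_of_mul_pos_right (h0 _ h2 ▸ finrank_pos)
    have h7 : i ≤ 1 := by
      have := decNum_ibr hM ⟨_, isIBr_of_rep _ h1⟩ φ
      simp only [h5, Pi.single_eq_same] at this
      split_ifs at this <;> omega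
    have h8 := ih _ (h3.trans (by rw [show i' = j by omega]))
    have h9 : 0 < finrank (ResK M) (LinearMap.range ((σ.subrepresentation U hU).asAlgebraHom a)) :=
      Nat.pos_of_ne_zero fun e => ha (IBr.asAlgebraHom_eq_zero_of_decNum hM _
        (by rw [h5, Pi.single_eq_same]; omega)
        (LinearMap.range_eq_bot.1 (Submodule.finrank_eq_zero.1 e)))
    rw [asAlgebraHom_subrepresentation] at h9
    rw [asAlgebraHom_quotient] at h8
    have := finrank_range_add_le (asAlgebraHom_mem_of_invt σ hU a)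
    omega

theorem eq_top_of_pure (hM : IsPModular p M) [FiniteDimensional (ResK M) W] {φ : IBr p M G}
    {a : MonoidAlgebra (ResK M) G} (ha : φ.rep.asAlgebraHom a ≠ 0) {j : ℕ}
    (h : brauerChar p M σ = (j : ℂ) • φ.1) {U : Submodule (ResK M) W} (hU : ∀ g, U ≤ U.comap (σ g))
    (h1 : ∀ y, σ.asAlgebraHom a y ∈ U) : U = ⊤ := by
  obtain ⟨i, i', -, h3, -⟩ := pure_of_add hM (isBrauerChar_of_rep _) (isBrauerChar_of_rep _)
    ((brauerChar_eq_add_of_invt σ hU).symm.trans h)
  have h4 := le_finrank_of_pure hM ha _ _ h3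
  rw [asAlgebraHom_quotient, LinearMap.range_eq_bot.2 (U.linearMap_qext (LinearMap.ext fun y =>
    (Submodule.Quotient.mk_eq_zero _).2 (h1 y))), finrank_bot, Nat.le_zero] at h4
  have h5 := congrFun h3 1
  rw [brauerChar_one hM, h4, Nat.cast_zero, zero_smul, Pi.zero_apply, Nat.cast_eq_zero,
    finrank_zero_iff] at h5
  exact Submodule.Quotient.subsingleton_iff.1 h5

theorem _root_.Cfsg.SmallDeg.exists_ibr {P : Sylow p G} {χ : IrrCharacter G} (h : SmallDeg p P χ)
    (hM : IsPModular p M) [FiniteDimensional (ResK M) W] {x : G} (hx : x ∈ (P : Subgroup G))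
    (hx1 : x ≠ 1) (hσ : σ x ≠ 1) :
    ∃ φ : IBr p M G, decNum (brauerChar p M σ) φ ≠ 0 ∧ φ.rep x ≠ 1 := by
  haveI := hM.charP
  by_contra h0
  push Not at h0
  have h1 := h.le_center σ.ker fun e => by
    obtain ⟨y, hy⟩ := exists_prime_orderOf_dvd_card' p e
    rw [← Subgroup.orderOf_coe] at hy
    obtain ⟨t, ht⟩ := IsPElt.exists_conj_mem ⟨1, hy.trans (pow_one p).symm⟩ P
    refine hσ ((zpowers_le.2 (Normal.conj_mem inferInstance _ y.2 t)) ((h.zpowers_eq ht ?_).ge hx))
    rw [Ne, conj_eq_one_iff, ← orderOf_eq_one_iff, hy]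
    exact hp.out.ne_one
  have ho := h.orderOf_eq hx hx1
  have hxL : x ∈ normalClosure ({x} : Set G) := subset_normalClosure rfl
  have h2 : IsPGroup p ((normalClosure ({x} : Set G)).map (QuotientGroup.mk' σ.ker)) := by
    refine isPGroup_iff_forall_isPElt.2 ?_
    rintro _ ⟨g, hg, rfl⟩
    rw [← pPrimePart_eq_one_iff, ← map_pPrimePart]
    refine (QuotientGroup.eq_one_iff _).2 ?_
    have h3 := charpoly_eq_prod_ibr hM σ (MonoidAlgebra.of _ G (pPrimePart p g) - 1)
    rw [prod_congr rfl (g := fun φ => X ^ (φ.deg * decNum (brauerChar p M σ) φ)) fun φ _ => by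
      by_cases hφ : decNum (brauerChar p M σ) φ = 0
      · simp [hφ]
      have h2 : normalClosure ({x} : Set G) ≤ φ.rep.ker :=
        normalClosure_le_normal (by rintro _ rfl; exact h0 φ hφ)
      rw [map_sub, map_one, Representation.asAlgebraHom_of,
        show φ.rep _ = 1 from h2 (pPrimePart_mem p hg), sub_self, LinearMap.charpoly_zero, pow_mul,
        finrank_fin_fun], prod_pow_eq_pow_sum, map_sub, map_one,
      Representation.asAlgebraHom_of] at h3
    have h4 := LinearMap.aeval_self_charpoly (σ (pPrimePart p g) - 1)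
    rw [h3, map_pow, aeval_X] at h4
    generalize ∑ φ : IBr p M G, φ.deg * decNum (brauerChar p M σ) φ = N at h4
    rcases subsingleton_or_nontrivial W with h5 | h5
    · exact Subsingleton.elim _ _
    haveI : CharP (End (ResK M) W) p := charP_of_injective_algebraMap
      (FaithfulSMul.algebraMap_injective (ResK M) _) p
    have h6 := pow_eq_zero_of_le (Nat.lt_pow_self hp.out.one_lt).le h4
    rw [sub_pow_char_pow_of_commute _ _ (Commute.one_right _), one_pow, sub_eq_zero] at h6
    exact (pow_eq_one_iff_of_coprime ((isPRegular_iff_coprime.1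
      (isPRegular_pPrimePart p g)).pow_right N)).1 ⟨by rw [← map_pow, pow_orderOf_eq_one, map_one], h6⟩
  obtain ⟨n, hn⟩ := h2.exists_card_eq
  have hn1 : n ≤ 1 := by
    by_contra e
    exact h.not_sq_dvd ((((pow_dvd_pow p (by omega)).trans hn.symm.dvd).trans
      (card_subgroup_dvd_card _)).trans (card_quotient_dvd_card _))
  have h3 : orderOf (x : G ⧸ σ.ker) = p :=
    ((Nat.dvd_prime hp.out).1 (ho ▸ orderOf_map_dvd (QuotientGroup.mk' _) x)).resolve_left
      fun e => hσ ((QuotientGroup.eq_one_iff x).1 (orderOf_eq_one_iff.1 e))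
  have h4 := eq_of_le_of_card_ge (zpowers_le.2 (mem_map_of_mem (QuotientGroup.mk' σ.ker) hxL)) (by
    rw [hn, Nat.card_zpowers]
    exact ((Nat.pow_le_pow_right hp.out.pos hn1).trans (pow_one p).le).trans h3.ge)
  refine h.nn (h.zpowers_eq hx hx1 ▸ normal_zpowers_of_le_normalizer ho h.not_sq_dvd hxL
    fun g hg => ?_)
  obtain ⟨i, hi⟩ := mem_zpowers_iff.1 (h4.ge (mem_map_of_mem _ hg))
  rw [← map_zpow] at hi
  rw [← mul_inv_cancel_left (x ^ i) g]
  exact mul_mem (le_normalizer (zpow_mem (mem_zpowers x) i))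
    (center_le_normalizer _ (h1 (QuotientGroup.eq.1 hi)))

theorem _root_.Cfsg.SmallDeg.dickson_of_small {P : Sylow p G} {χ : IrrCharacter G}
    (h : SmallDeg p P χ) (hM : IsPModular p M) [FiniteDimensional (ResK M) W] {x : G}
    (hx : x ∈ (P : Subgroup G)) (hx1 : x ≠ 1) (hσ : σ x ≠ 1) {j : ℕ} (hj : (σ x - 1) ^ j = 0)
    (hjp : 2 * j + 1 ≤ p) : DicksonData p x := by
  haveI := hM.charP
  obtain ⟨φ, h1, h2⟩ := h.exists_ibr hM hx hx1 hσ
  refine (dickson_of_nilp (h.orderOf_eq hx hx1) h.not_sq_dvd φ.rep φ.rep_isIrreducible ?_ hjp h2).2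
  have := IBr.asAlgebraHom_eq_zero_of_decNum hM σ h1
    (a := (MonoidAlgebra.of _ G x - 1) ^ j) (by simpa using hj)
  simpa using this

end Cfsg.PM

set_option linter.all false in
theorem Cfsg.Rz.Mod_PrimeLat_0 : True := by
  have := @_root_.Cfsg.PM.Red.eq_def.{0, 0}
  have := @_root_.Cfsg.PM.Red.eq_1.{0, 0}
  have := @_root_.Cfsg.PM.Red.fun_cases
  have := @_root_.Cfsg.PM.homRep.eq_def.{0}
  have := @_root_.Cfsg.PM.homRep.eq_1.{0}
  have := @_root_.Cfsg.PM.homRep.fun_cases
  trivial
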