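import Cfsg.Agent.Mod.SmallDimA
import Cfsg.Agent.Char.BasicA
import Mathlib.RingTheory.Artinian.Module
import Mathlib.LinearAlgebra.Eigenspace.Zero

/-!
# Modules of dimension less than `p / 2` for groups with a Sylow subgroup of order `p`
-/

set_option autoImplicit false

namespace Cfsg

open Subgroup Module Finset

universe u v w

variable {G : Type u} [Group G] [Finite G] {p : ℕ} [hp : Fact p.Prime]
  {k : Type v} [Field k] [IsAlgClosed k] [CharP k p]

theorem dickson_of_orth (hp5 : 5 ≤ p) {x : G} (hx : orderOf x = p) (hsq : ¬ p ^ 2 ∣ Nat.card G)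
    {L : Subgroup G} (hLp : ¬ p ∣ Nat.card L)
    (hL : L ⊔ zpowers x = normalizer ((zpowers x : Subgroup G) : Set G))
    {A : Type w} [AddCommGroup A] [Module k A] [FiniteDimensional k A] (τ : Representation k G A)
    {B : LinearMap.BilinForm k A} (hs : ∀ v w, B v w = B w v) (hn : ∀ v, (∀ w, B v w = 0) → v = 0)
    (hτ : ∀ g v w, B (τ g v) (τ g w) = B v w) (hnil : (τ x - 1) ^ (p - 1) = 0) {f h s : A}
    (hf : τ x f = f + h) (hh : τ x h = h + s) (hxs : τ x s = s) (hsf : B s f ≠ 0)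
    (hLs : ∀ l ∈ L, ∃ c : k, c ≠ 0 ∧ τ l f = c⁻¹ • f ∧ τ l s = c • s)
    (hmov : ∃ g, τ g s ∉ k ∙ s) :
    ∃ (K : Subgroup G) (_ : K.Normal), SelfCent p (x : G ⧸ K) ∧
      (normalizer ((zpowers (x : G ⧸ K) : Subgroup (G ⧸ K)) : Set (G ⧸ K))).index = p + 1 ∧
      p - 1 ≤ 2 * (zpowers (x : G ⧸ K)).relIndex
        (normalizer ((zpowers (x : G ⧸ K) : Subgroup (G ⧸ K)) : Set (G ⧸ K))) := by
  classical
  letI : Fintype L := Fintype.ofFinite _
  have h2 : (2 : k) ≠ 0 := by
    intro h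
    have : p ∣ 2 := (CharP.cast_eq_zero_iff k p 2).mp (by exact_mod_cast h)
    exact absurd (Nat.le_of_dvd two_pos this) (by omega)
  have hinv : ∀ g v, τ g⁻¹ (τ g v) = v := fun g v => by simp
  have hinv' : ∀ g v, τ g (τ g⁻¹ v) = v := fun g v => by simp
  have hadj : ∀ g v w, B (τ g v) w = B v (τ g⁻¹ w) := fun g v w => by
    rw [← hτ g v, hinv']
  have hadj' : ∀ g v w, B (τ g⁻¹ v) w = B v (τ g w) := fun g v w => by rw [hadj, inv_inv]
  have hs' : τ x⁻¹ s = s := by conv_lhs => rw [← hxs, hinv]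
  have hh' : τ x⁻¹ h = h - s := by
    have := hinv x h
    rw [hh, map_add, hs'] at this
    exact eq_sub_of_add_eq this
  have hf' : τ x⁻¹ f = f - h + s := by
    have := hinv x f
    rw [hf, map_add, hh'] at this
    rw [eq_sub_of_add_eq this]; abel
  -- the self-adjoint invariant operator
  let ε : Module.End k A := (B f).smulRight s + (B s).smulRight f - (B h).smulRight h +
    (2 : k)⁻¹ • ((B h).smulRight s + (B s).smulRight h)
  have hε : ∀ a, ε a = B f a • s + B s a • f - B h a • h +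
      (2 : k)⁻¹ • (B h a • s + B s a • h) := fun a => rfl
  let T := τ.linHom τ
  have hT : ∀ g (e : Module.End k A) a, T g e a = τ g (e (τ g⁻¹ a)) := fun _ _ _ => rfl
  have hεx : T x ε = ε := by
    refine LinearMap.ext fun a => ?_
    rw [hT, hε, hε]
    simp only [← hadj, map_add, map_sub, map_smul, hf, hh, hxs, LinearMap.add_apply]
    match_scalars <;> field_simp <;> ring
  obtain ⟨γ, w, hγT, hγs, hγ⟩ := exists_trace_prime T hx L hLp hL hεx
  have hγc : ∀ g a, γ (τ g a) = τ g (γ a) := fun g a => by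
    conv_lhs => rw [← hγT g, hT, hinv]
  have hγa : ∀ a b, B (γ a) b = B a (γ b) := by
    refine Submodule.span_induction (p := fun γ _ => ∀ a b, B (γ a) b = B a (γ b)) ?_ ?_ ?_ ?_ hγs
    · rintro _ ⟨g, rfl⟩ a b
      simp only [hT]
      rw [hadj, ← hadj' g a, hε, hε]
      generalize τ g⁻¹ a = a'
      generalize τ g⁻¹ b = b'
      simp only [map_add, map_sub, map_smul, LinearMap.add_apply, LinearMap.sub_apply,
        LinearMap.smul_apply, smul_eq_mul, hs a']
      ring
    · simp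
    · intro a b _ _ ha hb c d
      simp [ha, hb]
    · intro c a _ ha d e
      simp [ha]
  have hLN : L ≤ normalizer ((zpowers x : Subgroup G) : Set G) := hL ▸ le_sup_left
  have hfixh : ∀ a, τ x a = a → B h a = 0 ∧ B s a = 0 := fun a ha => by
    have ha' : τ x⁻¹ a = a := by conv_lhs => rw [← ha, hinv]
    have h3 := hadj x f a
    have h4 := hadj x h a
    rw [hf, ha', map_add, LinearMap.add_apply] at h3
    rw [hh, ha', map_add, LinearMap.add_apply] at h4
    exact ⟨by linear_combination h3, by linear_combination h4⟩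
  have hγfix : ∀ a, τ x a = a → γ a = ((Fintype.card L : k) * B f a) • s := by
    intro a ha
    have hP : ∀ y ∈ zpowers x, τ y a = a := by
      intro y hy
      obtain ⟨i, rfl⟩ := (mem_powers_iff_mem_zpowers.mpr hy)
      rw [map_pow]
      exact end_pow_apply_of_apply_eq ha i
    rw [hγ, LinearMap.add_apply, LinearMap.sum_apply, LinearMap.sum_apply]
    have h3 : ∀ l : L, T l ε a = B f a • s := by
      intro l
      obtain ⟨c, hc0, hc1, hc2⟩ := hLs l l.2
      have h4 : τ x (τ (l : G)⁻¹ a) = τ (l : G)⁻¹ a := by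
        have h5 := hP _ ((mem_normalizer_iff.mp (hLN l.2) x).mp (mem_zpowers x))
        conv_rhs => rw [← h5]
        simp only [map_mul, Module.End.mul_apply, hinv]
      rw [hT, hε, (hfixh _ h4).1, (hfixh _ h4).2, ← hadj, hc1]
      simp [hc2, smul_smul, mul_right_comm, hc0]
    have h4 : ∀ i, (T x ^ i) w a = (τ x ^ i) (w a) := fun i => by
      rw [← map_pow, hT, hP _ (inv_mem (pow_mem (mem_zpowers x) i)), map_pow]
    simp only [h3, h4]
    rw [← LinearMap.sum_apply, sum_pow_eq_sub_one_pow (k := k), hnil]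
    simp [← Nat.cast_smul_eq_nsmul k, smul_smul]
  have hL0 : (Fintype.card L : k) ≠ 0 := fun h =>
    hLp (Nat.card_eq_fintype_card (α := L) ▸ (CharP.cast_eq_zero_iff k p _).mp h)
  set lam : k := (Fintype.card L : k) * B f s with hlam
  have hlam0 : lam ≠ 0 := mul_ne_zero hL0 (by rwa [hs])
  have hγs' : γ s = lam • s := hγfix s hxs
  have hs0 : s ≠ 0 := fun h => hsf (by rw [h]; simp)
  -- the Fitting component
  have hcompl := LinearMap.isCompl_iSup_ker_pow_iInf_range_pow γ
  set W : Submodule k A := ⨅ n, LinearMap.range (γ ^ n) with hW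
  set W0 : Submodule k A := ⨆ n, LinearMap.ker (γ ^ n) with hW0
  have hγn : ∀ n g a, (γ ^ n) (τ g a) = τ g ((γ ^ n) a) := fun n g a => by
    induction n with
    | zero => rfl
    | succ n ih => rw [pow_succ', Module.End.mul_apply, Module.End.mul_apply, ih, hγc]
  have hγn' : ∀ n a b, B ((γ ^ n) a) b = B a ((γ ^ n) b) := fun n => by
    induction n with
    | zero => exact fun _ _ => rfl
    | succ n ih =>
      intro a b
      conv_lhs => rw [pow_succ']
      rw [pow_succ, Module.End.mul_apply, Module.End.mul_apply, hγa, ih]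
  have hWinv : ∀ g, W ≤ W.comap (τ g) := fun g a ha => by
    simp only [hW, Submodule.mem_comap, Submodule.mem_iInf] at ha ⊢
    intro n
    obtain ⟨b, rfl⟩ := ha n
    exact ⟨τ g b, hγn n g b⟩
  have hsW : s ∈ W := by
    simp only [hW, Submodule.mem_iInf]
    intro n
    refine ⟨(lam ^ n)⁻¹ • s, ?_⟩
    have : (γ ^ n) s = lam ^ n • s := by
      induction n with
      | zero => simp
      | succ n ih => rw [pow_succ, Module.End.mul_apply, hγs', map_smul, ih, smul_smul, pow_succ']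
    rw [map_smul, this, smul_smul, inv_mul_cancel₀ (pow_ne_zero n hlam0), one_smul]
  have horth : ∀ a ∈ W, ∀ b ∈ W0, B a b = 0 := by
    intro a ha
    have : W0 ≤ LinearMap.ker (B a) := iSup_le fun n b hb => by
      obtain ⟨c, rfl⟩ := (Submodule.mem_iInf _).mp ha n
      rw [LinearMap.mem_ker, hγn', LinearMap.mem_ker.mp hb, map_zero]
    exact fun b hb => this hb
  have hWfix : ∀ a ∈ W, τ x a = a → a ∈ k ∙ s := by
    intro a ha hxa
    have h3 : a - (lam⁻¹ * ((Fintype.card L : k) * B f a)) • s ∈ W0 := by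
      refine Submodule.mem_iSup_of_mem 1 ?_
      rw [pow_one, LinearMap.mem_ker, map_sub, map_smul, hγfix a hxa, hγs', smul_smul,
        mul_right_comm, inv_mul_cancel₀ hlam0, one_mul, sub_self]
    have h4 := (Submodule.disjoint_def.mp hcompl.disjoint) _ h3 (W.sub_mem ha (W.smul_mem _ hsW))
    exact Submodule.mem_span_singleton.mpr ⟨_, (sub_eq_zero.mp h4).symm⟩
  set δ := τ x - 1 with hδ
  have hδW : ∀ j, ∀ a ∈ W, (δ ^ j) a ∈ W := fun j a ha => by
    induction j with
    | zero => exact ha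
    | succ j ih =>
      rw [pow_succ', Module.End.mul_apply]
      exact W.sub_mem (hWinv x ih) ih
  have htop : ∀ a ∈ W, a ≠ 0 → ∃ j, B ((δ ^ j) a) f ≠ 0 ∧ (δ ^ (j + 1)) a = 0 := by
    intro a ha ha0
    have hex : ∃ j, (δ ^ j) a = 0 := ⟨p - 1, by rw [hnil]; rfl⟩
    obtain ⟨j, hj⟩ : ∃ j, Nat.find hex = j + 1 :=
      Nat.exists_eq_succ_of_ne_zero fun h => ha0 (by simpa [h] using Nat.find_spec hex)
    have h3 : (δ ^ (j + 1)) a = 0 := hj ▸ Nat.find_spec hex
    have h4 : (δ ^ j) a ≠ 0 := Nat.find_min hex (by omega)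
    refine ⟨j, ?_, h3⟩
    rw [pow_succ', Module.End.mul_apply, hδ, LinearMap.sub_apply, sub_eq_zero] at h3
    obtain ⟨c, hc⟩ := Submodule.mem_span_singleton.mp (hWfix _ (hδW j a ha) h3)
    rw [← hc] at h4 ⊢
    rw [map_smul, LinearMap.smul_apply, smul_eq_mul]
    exact mul_ne_zero (fun h => h4 (by rw [h, zero_smul])) hsf
  have hδ3 : ∀ a, B ((δ ^ 3) a) f = 0 := fun a => by
    have h3 : ∀ a b, B (δ a) b = B a (τ x⁻¹ b - b) := fun a b => by
      simp only [hδ, LinearMap.sub_apply, Module.End.one_apply, map_sub, hadj]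
    simp only [pow_three, Module.End.mul_apply, h3, map_sub, map_add, hf', hh', hs']
    ring
  have htop' : ∀ a ∈ W, a ≠ 0 → ∃ j ≤ 2, B ((δ ^ j) a) f ≠ 0 ∧ (δ ^ (j + 1)) a = 0 := by
    intro a ha ha0
    obtain ⟨j, h3, h4⟩ := htop a ha ha0
    refine ⟨j, ?_, h3, h4⟩
    by_contra h5
    obtain ⟨i, rfl⟩ : ∃ i, j = 3 + i := ⟨j - 3, by omega⟩
    rw [pow_add, Module.End.mul_apply] at h3
    exact h3 (hδ3 _)
  have hdim : finrank k W ≤ 3 := by
    let Φ : W →ₗ[k] (Fin 3 → k) := LinearMap.pi fun j => B f ∘ₗ (δ ^ (j : ℕ)) ∘ₗ W.subtype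
    have hΦ : Function.Injective Φ := by
      rw [← LinearMap.ker_eq_bot, LinearMap.ker_eq_bot']
      intro a ha
      by_contra ha0
      obtain ⟨j, hj, h3, -⟩ := htop' a a.2 fun h => ha0 (Subtype.ext h)
      exact h3 (by rw [hs]; exact congrFun ha ⟨j, by omega⟩)
    simpa using LinearMap.finrank_le_finrank_of_injective hΦ
  refine orth3_dickson hp5 hx hsq (τ.subrepresentation W hWinv) (B := B.restrict W)
    (fun v w => hs v w) (fun v hv => ?_) hdim (fun g v w => hτ g v w) (s := ⟨s, hsW⟩)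
    (fun h => hs0 (congrArg Subtype.val h)) (hfixh s hxs).2 (fun v => ⟨fun hv => ?_, fun hv => ?_⟩)
    ?_ ?_
  · refine Subtype.ext (hn _ fun b => ?_)
    obtain ⟨b0, hb0, b1, hb1, rfl⟩ := Submodule.mem_sup.mp (hcompl.sup_eq_top ▸ Submodule.mem_top (x := b))
    rw [map_add, horth _ v.2 _ hb0, zero_add]
    exact hv ⟨b1, hb1⟩
  · obtain ⟨c, hc⟩ := Submodule.mem_span_singleton.mp (hWfix _ v.2 (congrArg Subtype.val hv))
    exact Submodule.mem_span_singleton.mpr ⟨c, Subtype.ext hc⟩
  · obtain ⟨c, rfl⟩ := Submodule.mem_span_singleton.mp hv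
    rw [map_smul]
    exact congrArg _ (Subtype.ext hxs)
  · refine LinearMap.ext fun a => Subtype.ext ?_
    change δ (δ (δ a)) = 0
    by_cases ha0 : (a : A) = 0
    · simp [ha0]
    obtain ⟨j, hj, -, h3⟩ := htop' a a.2 ha0
    have h4 : (δ ^ 3) a = 0 := by
      rw [show 3 = (2 - j) + (j + 1) by omega, pow_add, Module.End.mul_apply, h3, map_zero]
    simpa only [pow_three, Module.End.mul_apply] using h4
  · obtain ⟨g, hg⟩ := hmov
    refine ⟨g, fun h => hg ?_⟩
    obtain ⟨c, hc⟩ := Submodule.mem_span_singleton.mp h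
    exact Submodule.mem_span_singleton.mpr ⟨c, congrArg Subtype.val hc⟩

theorem dickson_of_nilp {x : G} (hx : orderOf x = p) (hsq : ¬ p ^ 2 ∣ Nat.card G)
    {V : Type w} [AddCommGroup V] [Module k V] [FiniteDimensional k V] (ρ : Representation k G V)
    (hρ : ρ.IsIrreducible) {n : ℕ} (hyn : (ρ x - 1) ^ n = 0) (hdim : 2 * n + 1 ≤ p)
    (hx1 : ρ x ≠ 1) :
    5 ≤ p ∧ ∃ (K : Subgroup G) (_ : K.Normal), SelfCent p (x : G ⧸ K) ∧
      (normalizer ((zpowers (x : G ⧸ K) : Subgroup (G ⧸ K)) : Set (G ⧸ K))).index = p + 1 ∧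
      p - 1 ≤ 2 * (zpowers (x : G ⧸ K)).relIndex
        (normalizer ((zpowers (x : G ⧸ K) : Subgroup (G ⧸ K)) : Set (G ⧸ K))) := by
  classical
  obtain ⟨hV, hirr⟩ := (rep_isIrreducible_iff ρ).mp hρ
  haveI : CharP (Module.End k V) p := charP_of_injective_algebraMap
    (FaithfulSMul.algebraMap_injective k _) p
  set X := ρ x with hX
  set y := X - 1 with hy
  have hXy : X = 1 + y := by rw [hy]; abel
  have hyp : y ^ p = 0 := by
    rw [hy, sub_pow_char_of_commute p (Commute.one_right X), hX, ← map_pow, ← hx,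
      pow_orderOf_eq_one, map_one, one_pow, sub_self]
  have hex : ∃ j, y ^ j = 0 := ⟨_, hyn⟩
  obtain ⟨m, hm⟩ : ∃ m, Nat.find hex = m + 2 := by
    refine ⟨Nat.find hex - 2, ?_⟩
    have h0 : Nat.find hex ≠ 0 := fun h => by simpa [h] using Nat.find_spec hex
    have h1 : Nat.find hex ≠ 1 := fun h => hx1 (by simpa [h, hy, sub_eq_zero] using Nat.find_spec hex)
    omega
  have hy0 : y ^ (m + 2) = 0 := hm ▸ Nat.find_spec hex
  have hy1 : y ^ (m + 1) ≠ 0 := Nat.find_min hex (by omega)
  have hmn : m + 2 ≤ n := hm ▸ Nat.find_min' hex hyn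
  have hp5 : 5 ≤ p := by omega
  refine ⟨hp5, ?_⟩
  have hne : ∀ n : ℕ, 0 < n → n < p → (n : k) ≠ 0 := fun n h0 h1 h =>
    absurd (Nat.le_of_dvd h0 ((CharP.cast_eq_zero_iff k p n).mp h)) (by omega)
  have h2 : (2 : k) ≠ 0 := by exact_mod_cast hne 2 (by omega) (by omega)
  have h6 : (6 : k) ≠ 0 := by
    have h3 : (3 : k) ≠ 0 := by exact_mod_cast hne 3 (by omega) (by omega)
    rw [show (6 : k) = 2 * 3 by norm_num]
    exact mul_ne_zero h2 h3
  obtain ⟨π, f0, hπ, hπt, hf0, hf0t, hf0z⟩ := exists_sl2_pair y m hy0 hy1 h6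
  -- the complement
  have hPg : IsPGroup p (zpowers x) :=
    IsPGroup.of_card (by rw [Nat.card_zpowers, hx]; exact (pow_one p).symm)
  have hPi : ¬ p ∣ (zpowers x).index := fun h => hsq (by
    rw [← (zpowers x).card_mul_index, Nat.card_zpowers, hx, sq]
    exact Nat.mul_dvd_mul_left p h)
  obtain ⟨L, hLp, hLN, hL⟩ := exists_complement_sylow_normalizer (hPg.toSylow hPi)
  change L ≤ normalizer ((zpowers x : Subgroup G) : Set G) at hLN
  change L ⊔ zpowers x = normalizer ((zpowers x : Subgroup G) : Set G) at hL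
  letI : Fintype L := Fintype.ofFinite _
  have hL0 : (Fintype.card L : k) ≠ 0 := fun h =>
    hLp (Nat.card_eq_fintype_card (α := L) ▸ (CharP.cast_eq_zero_iff k p _).mp h)
  have ha : ∀ l : L, ∃ a : ℕ, (l : G) * x * (l : G)⁻¹ = x ^ a := fun l => by
    obtain ⟨a, ha⟩ := mem_powers_iff_mem_zpowers.mpr
      ((mem_normalizer_iff.mp (hLN l.2) x).mp (mem_zpowers x))
    exact ⟨a, ha.symm⟩
  choose a ha using ha
  have hcast : ∀ i j : ℕ, x ^ i = x ^ j → (i : k) = j := fun i j h => by
    rw [pow_eq_pow_iff_modEq, hx] at h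
    exact (CharP.natCast_eq_natCast k p).mpr h
  have hamul : ∀ l l' : L, (a (l * l') : k) = a l * a l' := fun l l' => by
    rw [← Nat.cast_mul]
    refine hcast _ _ ?_
    rw [← ha, pow_mul, ← ha l, conj_pow, ← ha l', Subgroup.coe_mul]
    group
  have hainv : ∀ l : L, (a l : k) * a l⁻¹ = 1 := fun l => by
    rw [← hamul, mul_inv_cancel, ← Nat.cast_one]
    exact hcast _ _ (by rw [← ha]; simp)
  have ha0 : ∀ l : L, (a l : k) ≠ 0 := fun l => left_ne_zero_of_mul_eq_one (hainv l)
  -- the adjoint representation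
  let τ := ρ.linHom ρ
  have hτ : ∀ g (e : Module.End k V), τ g e = ρ g * e * ρ g⁻¹ := fun _ _ => rfl
  have hρi : ∀ g, ρ g⁻¹ * ρ g = 1 := fun g => by rw [← map_mul, inv_mul_cancel, map_one]
  have hρi' : ∀ g, ρ g * ρ g⁻¹ = 1 := fun g => by rw [← map_mul, mul_inv_cancel, map_one]
  have hτmul : ∀ g (e e' : Module.End k V), τ g (e * e') = τ g e * τ g e' := fun g e e' => by
    simp only [hτ, mul_assoc]
    rw [← mul_assoc (ρ g⁻¹), hρi, one_mul]
  have hτρ : ∀ g h, τ g (ρ h) = ρ (g * h * g⁻¹) := fun g h => by rw [hτ, map_mul, map_mul]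
  have hτ1 : ∀ g, τ g 1 = 1 := fun g => by rw [hτ, mul_one, hρi']
  have hτtr : ∀ g e, LinearMap.trace k V (τ g e) = LinearMap.trace k V e := fun g e => by
    rw [hτ, LinearMap.trace_mul_comm, ← mul_assoc, hρi, one_mul]
  let B : LinearMap.BilinForm k (Module.End k V) :=
    (LinearMap.mul k (Module.End k V)).compr₂ (LinearMap.trace k V)
  have hB : ∀ e e', B e e' = LinearMap.trace k V (e * e') := fun _ _ => rfl
  have hBτ : ∀ g e e', B (τ g e) (τ g e') = B e e' := fun g e e' => by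
    rw [hB, hB, ← hτmul, hτtr]
  set X' := ρ x⁻¹ with hX'
  have hX'p : X' = X ^ (p - 1) := by
    rw [hX', hX, ← map_pow]
    congr 1
    rw [inv_eq_iff_mul_eq_one, ← pow_succ', Nat.sub_add_cancel hp.out.one_le, ← hx,
      pow_orderOf_eq_one]
  have hXc : Commute X y := by rw [hXy]; exact (Commute.one_left y).add_left (Commute.refl y)
  have hX'c : Commute X' y := hX'p ▸ hXc.pow_left _
  have hcX : ∀ {e : Module.End k V}, Commute e y ↔ τ x e = e := fun {e} => by
    rw [hτ]
    constructor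
    · intro h
      have : Commute e X := by rw [hXy]; exact (Commute.one_right e).add_right h
      rw [← hX, ← this.eq, mul_assoc, hρi', mul_one]
    · intro h
      have : Commute e X := by
        have h1 := congrArg (· * ρ x) h
        simp only [mul_assoc, hρi, mul_one] at h1
        exact h1.symm
      exact this.sub_right (Commute.one_right e)
  set δ := τ x - 1 with hδ
  have hδa : ∀ e, δ e = (y * e - e * y) * X' := fun e => by
    have h1 : X * X' = 1 := hρi' x
    rw [hδ, LinearMap.sub_apply, hτ, ← hX, ← hX', Module.End.one_apply, hy]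
    simp only [sub_mul, mul_sub, mul_assoc, h1, one_mul, mul_one]
    abel
  have hnil : δ ^ (p - 1) = 0 := by
    have h1 : δ = (LinearMap.mulLeft k y + LinearMap.mulRight k (-y)) * LinearMap.mulRight k X' :=
      LinearMap.ext fun e => by simp [hδa, sub_eq_add_neg, add_mul, mul_assoc, hX'c.eq]
    have h3 : Commute (LinearMap.mulLeft k y) (LinearMap.mulRight k (-y)) :=
      LinearMap.commute_mulLeft_right y (-y)
    have h4 : Commute (LinearMap.mulLeft k y + LinearMap.mulRight k (-y))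
        (LinearMap.mulRight k X') :=
      (LinearMap.commute_mulLeft_right y X').add_left (LinearMap.ext fun e => by
        simp [mul_assoc, hX'c.eq])
    rw [h1, h4.mul_pow, h3.add_pow_eq_zero_of_add_le_succ_of_pow_eq_zero (m := m + 2) (n := m + 2)
      (by rw [LinearMap.pow_mulLeft, hy0, LinearMap.mulLeft_zero_eq_zero])
      (by rw [LinearMap.pow_mulRight, neg_pow, hy0, mul_zero, LinearMap.mulRight_zero_eq_zero])
      (by omega), zero_mul]
  set s0 := (-2 : k) • (y * π * X' * X') with hs0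
  have hδf0 : δ (δ f0) = s0 := by
    rw [hδa, hδa, hs0, ← smul_mul_assoc, ← smul_mul_assoc, ← hf0]
    simp only [sub_mul, mul_sub, mul_assoc, hX'c.eq]
  have hs0x : τ x s0 = s0 :=
    hcX.mp (((((Commute.refl y).mul_left hπ).mul_left hX'c).mul_left hX'c).smul_left _)
  have hconj : ∀ (l : L) e, τ l (τ x e) = (τ x ^ a l) (τ l e) := fun l e => by
    rw [← map_pow, ← ha, ← Module.End.mul_apply, ← Module.End.mul_apply, ← map_mul, ← map_mul,
      inv_mul_cancel_right]
  have hconj' : ∀ (l : L) e, τ x (τ l e) = τ l ((τ x ^ a l⁻¹) e) := fun l e => by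
    rw [← map_pow, ← ha, ← Module.End.mul_apply, ← Module.End.mul_apply, ← map_mul, ← map_mul]
    congr 2
    simp [mul_assoc]
  have hfixL : ∀ (l : L) e, τ x e = e → τ x (τ l e) = τ l e := fun l e he => by
    rw [hconj', end_pow_apply_of_apply_eq he]
  set f := ∑ l : L, (a l : k) • τ l f0 with hf
  have hfl : ∀ l : L, τ l f = (a l : k)⁻¹ • f := fun l => by
    rw [hf, map_sum, Finset.smul_sum]
    refine Fintype.sum_equiv (Equiv.mulLeft l) _ _ fun l' => ?_
    rw [Equiv.coe_mulLeft, hamul, map_smul, smul_smul, inv_mul_cancel_left₀ (ha0 l), Subgroup.coe_mul,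
      map_mul, Module.End.mul_apply]
  set s := δ (δ f) with hs
  have hsl : s = ∑ l : L, (a l⁻¹ : k) • τ l s0 := by
    rw [hs, hf, map_sum, map_sum]
    refine sum_congr rfl fun l _ => ?_
    have h1 : ∀ e, δ (τ l e) = τ l ((τ x ^ a l⁻¹ - 1) e) := fun e => by
      rw [hδ, LinearMap.sub_apply, LinearMap.sub_apply, map_sub, hconj']; rfl
    rw [map_smul, map_smul, h1, h1, pow_sub_one_sq_apply _ (by rw [← hδ, hδf0, hs0x]), ← hδ, hδf0,
      map_smul, smul_smul, sq, ← mul_assoc, hainv, one_mul]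
  have hxs : τ x s = s := by
    rw [hsl, map_sum]
    exact sum_congr rfl fun l _ => by rw [map_smul, hfixL l _ hs0x]
  have hsl' : ∀ l : L, τ l s = (a l : k) • s := fun l => by
    have h1 : ∀ e, τ l (δ e) = (τ x ^ a l - 1) (τ l e) := fun e => by
      rw [hδ, LinearMap.sub_apply, LinearMap.sub_apply, map_sub, hconj]; rfl
    rw [hs, h1, h1, hfl, map_smul, map_smul, pow_sub_one_sq_apply _ (by rw [← hδ, ← hs, hxs]),
      smul_smul, sq, inv_mul_cancel_left₀ (ha0 l)]
  -- the trace of `π` is a non-zero scalar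
  obtain ⟨c, hc0, hc⟩ : ∃ c : k, c ≠ 0 ∧ ∑ l : L, τ l π = c • 1 := by
    obtain ⟨Γ, w, hΓ, -, hΓ'⟩ := exists_trace_prime τ hx L hLp hL (hcX.mp hπ)
    rw [← LinearMap.sum_apply (range p), sum_pow_eq_sub_one_pow (k := k), ← hδ, hnil,
      LinearMap.zero_apply, add_zero] at hΓ'
    obtain ⟨c, hc⟩ := rep_exists_smul_of_commute hρ Γ fun g => by
      conv_lhs => rw [← hΓ g, hτ, mul_assoc, hρi, mul_one]
    refine ⟨c, fun h => ?_, hΓ' ▸ hc⟩
    have h1 := congrArg (LinearMap.trace k V) (hΓ'.symm.trans hc)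
    rw [h, zero_smul, map_zero, map_sum] at h1
    simp only [hτtr, hπt, sum_const, card_univ, nsmul_eq_mul] at h1
    exact mul_ne_zero hL0 (by exact_mod_cast hne (m + 2) (by omega) (by omega)) h1
  have hterm : ∀ l : L, τ l s0 = (-2 : k) • (y * ((∑ i ∈ range (a l), X ^ i) * τ l π *
      X ^ ((p - 1) * a l) * X ^ ((p - 1) * a l))) := fun l => by
    have h1 : τ l X = X ^ a l := by rw [hX, hτρ, ha, map_pow]
    have h3 : τ l X' = X ^ ((p - 1) * a l) := by
      rw [hX', hτρ, show (l : G) * x⁻¹ * (l : G)⁻¹ = ((l : G) * x * (l : G)⁻¹)⁻¹ by group, ha,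
        ← inv_pow, map_pow, ← hX', hX'p, pow_mul]
    rw [hs0, map_smul, hτmul, hτmul, hτmul, h3, hy, map_sub, h1, hτ1, ← mul_geom_sum]
    simp only [mul_assoc]
  have hsf0 : B s f0 ≠ 0 := by
    have h1 : ∀ z, Commute z y → ∀ j, LinearMap.trace k V (y * (z * X ^ j) * f0) =
        LinearMap.trace k V (y * z * f0) := by
      intro z hz j
      induction j with
      | zero => simp
      | succ j ih =>
        have h3 := hz.mul_left (hXc.pow_left j)
        have h4 : z * X ^ j * X = z * X ^ j + y * (z * X ^ j) := by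
          rw [← h3.eq, hy, mul_sub, mul_one]; abel
        rw [pow_succ, ← mul_assoc z, ← ih, h4, mul_add, add_mul, map_add,
          ← mul_assoc y y, hf0z _ h3, add_zero]
    have h3 : ∀ l : L, B (τ l s0) f0 = (-2 : k) * (a l * LinearMap.trace k V (y * τ l π * f0)) := by
      intro l
      have h4 : Commute (τ l π) y := hcX.mpr (hfixL l _ (hcX.mp hπ))
      have h5 : Commute (∑ i ∈ range (a l), X ^ i) y :=
        Commute.sum_left _ _ _ fun i _ => hXc.pow_left i
      have h7 : Commute (τ l π) X := by rw [hXy]; exact (Commute.one_right _).add_right h4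
      rw [hB, hterm, smul_mul_assoc, map_smul, h1 _ ((h5.mul_left h4).mul_left (hXc.pow_left _)),
        h1 _ (h5.mul_left h4), Finset.sum_mul, Finset.mul_sum, Finset.sum_mul, map_sum]
      simp only [← (h7.pow_right _).eq, h1 _ h4, sum_const, card_range, nsmul_eq_mul, smul_eq_mul]
    have h4 : B s f0 = (-2 : k) * (c * LinearMap.trace k V (y * f0)) := by
      rw [hsl, map_sum, LinearMap.sum_apply]
      simp only [map_smul, LinearMap.smul_apply, h3, smul_eq_mul]
      have h5 : c * LinearMap.trace k V (y * f0) = ∑ l : L, LinearMap.trace k V (y * τ l π * f0) := by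
        rw [← map_sum, ← Finset.sum_mul, ← Finset.mul_sum, hc]; simp
      rw [h5, Finset.mul_sum]
      refine sum_congr rfl fun l _ => ?_
      linear_combination (-2 * LinearMap.trace k V (y * τ l π * f0)) * hainv l
    rw [h4]
    refine mul_ne_zero (neg_ne_zero.mpr h2) (mul_ne_zero hc0 fun h => ?_)
    rw [h, mul_zero] at hf0t
    exact mul_ne_zero (mul_ne_zero (by exact_mod_cast hne (m + 1) (by omega) (by omega))
      (by exact_mod_cast hne (m + 2) (by omega) (by omega)))
      (by exact_mod_cast hne (m + 3) (by omega) (by omega)) hf0t.symm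
  have hsf : B s f ≠ 0 := by
    have h1 : ∀ l : L, B s ((a l : k) • τ l f0) = B s f0 := fun l => by
      conv_rhs => rw [← hBτ l, hsl']
      simp
    rw [hf, map_sum]
    simp only [h1, sum_const, card_univ, nsmul_eq_mul]
    exact mul_ne_zero hL0 hsf0
  refine dickson_of_orth hp5 hx hsq hLp hL τ (B := B) (fun v w => LinearMap.trace_mul_comm k v w)
    (fun v hv => trace_form_nondeg hv) hBτ hnil (f := f) (h := δ f) (s := s) (by simp [hδ])
    (by simp [hs, hδ]) hxs hsf (fun l hl => ⟨a ⟨l, hl⟩, ha0 _, hfl ⟨l, hl⟩, hsl' ⟨l, hl⟩⟩) ?_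
  by_contra hmov
  push Not at hmov
  have h1 : LinearMap.range s = ⊤ := by
    refine (hirr _ ?_).resolve_left fun h => hsf (by rw [LinearMap.range_eq_bot.mp h]; simp)
    rintro g _ ⟨v, rfl⟩
    obtain ⟨d, hd⟩ := Submodule.mem_span_singleton.mp (hmov g)
    refine ⟨d • ρ g v, ?_⟩
    rw [map_smul, ← LinearMap.smul_apply, hd, hτ]
    simp
  have h3 : Function.Surjective y := by
    intro v
    obtain ⟨u, rfl⟩ := LinearMap.range_eq_top.mp h1 v
    rw [hsl]
    simp only [hterm, smul_smul, ← mul_smul_comm, ← Finset.mul_sum]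
    exact ⟨_, rfl⟩
  have h4 : Function.Surjective (y ^ (m + 2)) := Module.End.iterate_surjective h3 _
  obtain ⟨v, hv⟩ := exists_ne (0 : V)
  obtain ⟨u, rfl⟩ := h4 v
  exact hv (by rw [hy0]; rfl)

theorem dickson_of_small_dim {x : G} (hx : orderOf x = p) (hsq : ¬ p ^ 2 ∣ Nat.card G)
    {V : Type w} [AddCommGroup V] [Module k V] [FiniteDimensional k V] (ρ : Representation k G V)
    (hρ : ρ.IsIrreducible) (hdim : 2 * finrank k V + 1 ≤ p) (hx1 : ρ x ≠ 1) :
    5 ≤ p ∧ ∃ (K : Subgroup G) (_ : K.Normal), SelfCent p (x : G ⧸ K) ∧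
      (normalizer ((zpowers (x : G ⧸ K) : Subgroup (G ⧸ K)) : Set (G ⧸ K))).index = p + 1 ∧
      p - 1 ≤ 2 * (zpowers (x : G ⧸ K)).relIndex
        (normalizer ((zpowers (x : G ⧸ K) : Subgroup (G ⧸ K)) : Set (G ⧸ K))) := by
  obtain ⟨hV, -⟩ := (rep_isIrreducible_iff ρ).mp hρ
  haveI : CharP (Module.End k V) p := charP_of_injective_algebraMap
    (FaithfulSMul.algebraMap_injective k _) p
  refine dickson_of_nilp hx hsq ρ hρ ?_ hdim hx1
  have hyp : (ρ x - 1) ^ p = 0 := by
    rw [sub_pow_char_of_commute p (Commute.one_right _), ← map_pow, ← hx,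
      pow_orderOf_eq_one, map_one, one_pow, sub_self]
  have h1 := LinearMap.aeval_self_charpoly (ρ x - 1)
  rwa [(IsNilpotent.charpoly_eq_X_pow_finrank ⟨p, hyp⟩ : (ρ x - 1).charpoly = _), map_pow,
    Polynomial.aeval_X] at h1

end Cfsg
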