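import Cfsg.Agent.Mod.Chain
import Cfsg.Agent.Mod.SmallDim

/-!
# Modules for groups with a Sylow subgroup of order `p` and abelian complement
-/

set_option autoImplicit false
set_option linter.unusedSectionVars false
set_option linter.style.haveILetI false

namespace Cfsg.PM

open Module Finset Subgroup Polynomial

universe u v w w'

section Poly

variable {k : Type v} [Field k]

theorem exists_one_add_X_pow (a : ℕ) : ∃ r : k[X], (1 + X) ^ a = 1 + C (a : k) * X + X ^ 2 * r := by
  induction a with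
  | zero => exact ⟨0, by simp⟩
  | succ a ih =>
    obtain ⟨r, hr⟩ := ih
    exact ⟨C (a : k) + r * (1 + X), by rw [pow_succ, hr, Nat.cast_succ, C_add, C_1]; ring⟩

theorem exists_comp_inv (q : k[X]) (n : ℕ) : ∀ j (f : k[X]), ∃ g : k[X],
    X ^ (j + n) ∣ X ^ j * f - (X ^ j * g).comp (X + X ^ 2 * q) := by
  induction n with
  | zero => exact fun j f => ⟨0, by simp⟩
  | succ n ih =>
    intro j f
    obtain ⟨h, hh⟩ : ∃ h : k[X], (1 + X * q) ^ j = 1 + X * h := by
      induction j with
      | zero => exact ⟨0, by simp⟩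
      | succ j ih' =>
        obtain ⟨h, hh⟩ := ih'
        exact ⟨h + q + X * h * q, by rw [pow_succ, hh]; ring⟩
    obtain ⟨g, hg⟩ := ih (j + 1) (f.divX - C (f.coeff 0) * h)
    refine ⟨C (f.coeff 0) + X * g, ?_⟩
    rw [show j + (n + 1) = j + 1 + n by omega]
    convert hg using 1
    have h1 : (X + X ^ 2 * q) ^ j = X ^ j * (1 + X * h) := by
      rw [← hh, ← mul_pow]; congr 1; ring
    simp only [mul_comp, add_comp, X_comp, C_comp, pow_comp, pow_succ _ j, h1]
    conv_lhs => rw [← divX_mul_X_add f]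
    simp only [coeff_add, coeff_C_zero, mul_coeff_zero, coeff_X_zero, mul_zero, zero_add]
    ring

variable {W : Type w} [AddCommGroup W] [Module k W]

theorem aeval_pow_eq (A : End k W) (r : k[X]) (j : ℕ) :
    aeval A (X + X ^ 2 * r) ^ j = A ^ j * aeval A ((1 + X * r) ^ j) := by
  rw [← map_pow, show X + X ^ 2 * r = X * (1 + X * r) by ring, mul_pow, map_mul, map_pow, aeval_X]

theorem aeval_pow_eq' (A : End k W) (r : k[X]) (j : ℕ) :
    aeval A (X + X ^ 2 * r) ^ j = aeval A ((1 + X * r) ^ j) * A ^ j := by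
  rw [← map_pow, show X + X ^ 2 * r = (1 + X * r) * X by ring, mul_pow, map_mul, map_pow _ X,
    aeval_X]

end Poly

variable {G : Type u} [Group G] [Finite G] {p : ℕ} [hp : Fact p.Prime] {k : Type v} [Field k]
  [CharP k p]

/-- The local data. -/
structure Loc (p : ℕ) (x : G) (L : Subgroup G) (α : Wt L k) (q q' : k[X]) : Prop where
  ord : orderOf x = p
  nsq : ¬ p ^ 2 ∣ Nat.card G
  hLp : ¬ p ∣ Nat.card L
  hL : L ⊔ zpowers x = normalizer ((zpowers x : Subgroup G) : Set G)
  comm : ∀ a b : L, a * b = b * a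
  conj : ∀ l : L, ∃ a : ℕ, (l : G) * x * (l : G)⁻¹ = x ^ a ∧ (α l : k) = a
  shift : ∀ l : L, MonoidAlgebra.of k G l * aeval (MonoidAlgebra.of k G x - 1) (X + X ^ 2 * q) =
    (α l : k) • (aeval (MonoidAlgebra.of k G x - 1) (X + X ^ 2 * q) * MonoidAlgebra.of k G l)
  inv : X ^ p ∣ X - (X + X ^ 2 * q').comp (X + X ^ 2 * q)

theorem exists_loc {x : G} (hx : orderOf x = p) (hsq : ¬ p ^ 2 ∣ Nat.card G) {L : Subgroup G}
    (hLp : ¬ p ∣ Nat.card L) (hL : L ⊔ zpowers x = normalizer ((zpowers x : Subgroup G) : Set G))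
    (hc : ∀ a b : L, a * b = b * a) : ∃ (α : Wt L k) (q q' : k[X]), Loc p x L α q q' := by
  classical
  letI : Fintype L := Fintype.ofFinite _
  have hLN : L ≤ normalizer ((zpowers x : Subgroup G) : Set G) := hL ▸ le_sup_left
  have hL0 : (Fintype.card L : k) ≠ 0 := fun h =>
    hLp (Nat.card_eq_fintype_card (α := L) ▸ (CharP.cast_eq_zero_iff k p _).mp h)
  have ha : ∀ l : L, ∃ a : ℕ, (l : G) * x * (l : G)⁻¹ = x ^ a := fun l => by
    obtain ⟨a, ha⟩ := mem_powers_iff_mem_zpowers.mpr
      ((mem_normalizer_iff.mp (hLN l.2) x).mp (mem_zpowers x))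
    exact ⟨a, ha.symm⟩
  choose a ha using ha
  have hcast : ∀ i j : ℕ, x ^ i = x ^ j → (i : k) = j := fun i j h => by
    rw [pow_eq_pow_iff_modEq, hx] at h
    exact (CharP.natCast_eq_natCast k p).mpr h
  have hamul : ∀ l l' : L, (a (l * l') : k) = a l * a l' := fun l l' => by
    rw [← Nat.cast_mul]
    refine hcast _ _ ?_
    rw [← ha, pow_mul, ← ha l, conj_pow, ← ha l', Subgroup.coe_mul]
    group
  have ha1 : (a 1 : k) = 1 := by
    rw [← Nat.cast_one]
    exact hcast _ _ (by rw [← ha]; simp)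
  let α : Wt L k := MonoidHom.toHomUnits ⟨⟨fun l => (a l : k), ha1⟩, hamul⟩
  have hα : ∀ l, (α l : k) = a l := fun l => rfl
  choose r hr using fun a => exists_one_add_X_pow (k := k) a
  set q := C (Fintype.card L : k)⁻¹ * ∑ l : L, C ((α l⁻¹ : kˣ) : k) * r (a l) with hq
  have h1 : X + X ^ 2 * q =
      C (Fintype.card L : k)⁻¹ * ∑ l : L, C ((α l⁻¹ : kˣ) : k) * ((1 + X) ^ a l - 1) := by
    rw [Finset.sum_congr rfl (g := fun l => X + X ^ 2 * (C ((α l⁻¹ : kˣ) : k) * r (a l)))
      fun l _ => by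
        have : C ((α l⁻¹ : kˣ) : k) * C (a l : k) = 1 := by
          rw [← C_mul, ← hα, ← Units.val_mul, ← map_mul, inv_mul_cancel, map_one, Units.val_one,
            C_1]
        rw [hr]
        linear_combination X * this,
      sum_add_distrib, sum_const, card_univ, nsmul_eq_mul, ← Finset.mul_sum, hq, mul_add,
      ← mul_assoc (C _), ← C_eq_natCast, ← C_mul, inv_mul_cancel₀ hL0, C_1]
    ring
  obtain ⟨q', hq'⟩ := exists_comp_inv q (p - 2) 2 (-q)
  refine ⟨α, q, q', hx, hsq, hLp, hL, hc, fun l => ⟨a l, ha l, rfl⟩, fun l => ?_, ?_⟩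
  · have h2 : aeval (MonoidAlgebra.of k G x - 1) (X + X ^ 2 * q) = (Fintype.card L : k)⁻¹ •
        ∑ l : L, ((α l⁻¹ : kˣ) : k) • (MonoidAlgebra.of k G (l * x * (l : G)⁻¹) - 1) := by
      rw [h1, map_mul, aeval_C, map_sum, ← Algebra.smul_def]
      congr 1
      refine sum_congr rfl fun l _ => ?_
      rw [map_mul, aeval_C, ← Algebra.smul_def, ha, map_sub, map_pow, map_pow]
      simp
    rw [h2, mul_smul_comm, smul_mul_assoc, smul_comm (α l : k)]
    congr 1
    rw [Finset.mul_sum, Finset.sum_mul, Finset.smul_sum]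
    refine Fintype.sum_equiv (Equiv.mulLeft l) _ _ fun l' => ?_
    rw [Equiv.coe_mulLeft, mul_smul_comm, smul_mul_assoc, smul_smul, ← Units.val_mul, mul_sub,
      sub_mul, ← map_mul, ← map_mul, mul_one, one_mul]
    congr 1
    · simp
    · congr 2
      simp [mul_assoc]
  · rw [Nat.add_sub_cancel' hp.out.two_le] at hq'
    convert hq' using 1
    simp only [add_comp, X_comp]
    ring

variable {W : Type w} [AddCommGroup W] [Module k W] {V : Type w'} [AddCommGroup V] [Module k V]

/-- The weight-homogeneous version of `x - 1`. -/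
noncomputable def dop (ρ : Representation k G W) (x : G) (q : k[X]) : End k W :=
  aeval (ρ x - 1) (X + X ^ 2 * q)

/-- The restriction to `L`. -/
def sig (ρ : Representation k G W) (L : Subgroup G) : L →* End k W := ρ.comp L.subtype

@[simp] theorem sig_apply (ρ : Representation k G W) (L : Subgroup G) (l : L) :
    sig ρ L l = ρ l := rfl

/-- Indecomposable representations. -/
def Indec (ρ : Representation k G W) : Prop :=
  ∀ U U' : Submodule k W, (∀ g, U ≤ U.comap (ρ g)) → (∀ g, U' ≤ U'.comap (ρ g)) → IsCompl U U' →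
    U = ⊥ ∨ U' = ⊥

theorem indec_of_isIrreducible {ρ : Representation k G W} (h : ρ.IsIrreducible) : Indec ρ :=
  fun U _ hU _ hc => (((rep_isIrreducible_iff ρ).1 h).2 U fun g _ hv => hU g hv).imp_right
    fun e => by simpa [e] using hc.inf_eq_bot

/-- The sum over `L ⟨x⟩`. -/
noncomputable def nrm {R : Type*} [CommRing R] {U : Type*} [AddCommGroup U] [Module R U]
    (ρ : Representation R G U) (p : ℕ) (x : G) (L : Subgroup G) [Fintype L] : End R U :=
  (∑ l : L, ρ l) * ∑ i ∈ range p, ρ x ^ i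

theorem linHom_sub_one (ρ : Representation k G W) (τ : Representation k G V) (x : G)
    (f : W →ₗ[k] V) (y : W) : (ρ.linHom τ x - 1) f y =
      (τ x - 1) (f (ρ x⁻¹ y)) - f ((ρ x - 1) (ρ x⁻¹ y)) := by
  simp [Representation.linHom_apply]

theorem linHom_eq_iff {ρ : Representation k G W} {τ : Representation k G V} {g : G}
    {f : W →ₗ[k] V} : ρ.linHom τ g f = f ↔ ∀ y, f (ρ g y) = τ g (f y) := by
  refine ⟨fun h y => ?_, fun h => LinearMap.ext fun y => ?_⟩
  · conv_lhs => rw [← h]
    simp [Representation.linHom_apply]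
  · simp [Representation.linHom_apply, ← h]

theorem commute_sub_one (ρ : Representation k G W) (x : G) : Commute (ρ x - 1) (ρ x⁻¹) :=
  Commute.sub_left ((Commute.refl x).inv_right.map ρ) (Commute.one_left _)

theorem linHom_pow_apply_mem (ρ : Representation k G W) (τ : Representation k G V) (x : G)
    (w : W →ₗ[k] V) (s : ℕ) : ∀ (b : ℕ) (y : W), ((ρ x - 1) ^ b) y = 0 →
      ((ρ.linHom τ x - 1) ^ s) w y ∈ LinearMap.range ((τ x - 1) ^ (s + 1 - b)) := by
  induction s with
  | zero =>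
    rintro (_ | b) y hy
    · obtain rfl : y = 0 := hy
      simp
    · simp
  | succ s ih =>
    rintro (_ | b) y hy
    · obtain rfl : y = 0 := hy
      simp
    have h1 : ((ρ x - 1) ^ (b + 1)) (ρ x⁻¹ y) = 0 := by
      rw [← End.mul_apply, ((commute_sub_one ρ x).pow_left _).eq, End.mul_apply, hy, map_zero]
    rw [pow_succ', End.mul_apply, linHom_sub_one]
    refine Submodule.sub_mem _ (mem_range_pow_mono (apply_mem_range_pow (ih _ _ h1)) (by omega))
      (mem_range_pow_mono (ih b _ ?_) (by omega))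
    rwa [← End.mul_apply, ← pow_succ]

namespace Loc

variable {x : G} {L : Subgroup G} {α : Wt L k} {q q' : k[X]} (h : Loc p x L α q q')
include h

theorem card_ne_zero [Fintype L] : (Fintype.card L : k) ≠ 0 := fun e =>
  h.hLp (Nat.card_eq_fintype_card (α := L) ▸ (CharP.cast_eq_zero_iff k p _).mp e)

theorem le_normalizer : L ≤ normalizer ((zpowers x : Subgroup G) : Set G) := h.hL ▸ le_sup_left

theorem pow_p : x ^ p = 1 := by rw [← h.ord, pow_orderOf_eq_one]

theorem T_pow (ρ : Representation k G W) : (ρ x - 1) ^ p = 0 := by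
  rcases subsingleton_or_nontrivial W with h0 | h0
  · exact Subsingleton.elim _ _
  haveI : CharP (End k W) p := charP_of_injective_algebraMap
    (FaithfulSMul.algebraMap_injective k _) p
  rw [sub_pow_char_of_commute p (Commute.one_right _), ← map_pow, h.pow_p, map_one, one_pow,
    sub_self]

theorem T_eq (ρ : Representation k G W) : ρ x - 1 = aeval (dop ρ x q) (X + X ^ 2 * q') := by
  obtain ⟨c, hc⟩ := h.inv
  have := congrArg (aeval (ρ x - 1)) hc
  rw [map_sub, map_mul, map_pow, aeval_X, h.T_pow, zero_mul, sub_eq_zero, aeval_comp] at this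
  exact this

theorem shifts (ρ : Representation k G W) : Shifts α (dop ρ x q) (sig ρ L) := fun l => by
  have := congrArg ρ.asAlgebraHom (h.shift l)
  simp only [map_mul, map_smul, ← aeval_algHom_apply, map_sub, map_one,
    Representation.asAlgebraHom_of] at this
  exact this

theorem range_pow (ρ : Representation k G W) (j : ℕ) :
    LinearMap.range (dop ρ x q ^ j) = LinearMap.range ((ρ x - 1) ^ j) := by
  refine le_antisymm ?_ ?_
  · rw [dop, aeval_pow_eq]
    exact LinearMap.range_comp_le_range _ _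
  · rw [h.T_eq, aeval_pow_eq]
    exact LinearMap.range_comp_le_range _ _

theorem pow_apply_eq_zero {ρ : Representation k G W} {j : ℕ} {y : W} :
    (dop ρ x q ^ j) y = 0 ↔ ((ρ x - 1) ^ j) y = 0 := by
  refine ⟨fun e => ?_, fun e => ?_⟩
  · rw [h.T_eq, aeval_pow_eq', End.mul_apply, e, map_zero]
  · rw [dop, aeval_pow_eq', End.mul_apply, e, map_zero]

theorem pow_eq_zero {ρ : Representation k G W} {j : ℕ} :
    dop ρ x q ^ j = 0 ↔ (ρ x - 1) ^ j = 0 := by
  simp only [LinearMap.ext_iff, LinearMap.zero_apply, h.pow_apply_eq_zero]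

theorem D_pow (ρ : Representation k G W) : dop ρ x q ^ p = 0 := h.pow_eq_zero.2 (h.T_pow ρ)

theorem x_eq (ρ : Representation k G W) : ρ x = aeval (dop ρ x q) (1 + (X + X ^ 2 * q')) := by
  rw [map_add, ← h.T_eq, map_one, add_sub_cancel]

theorem x_inv_eq (ρ : Representation k G W) :
    ∃ r : k[X], ρ x⁻¹ = aeval (dop ρ x q) (1 + X * r) := by
  obtain ⟨r, hr⟩ : ∃ r : k[X], (1 + (X + X ^ 2 * q')) ^ (p - 1) = 1 + X * r := by
    induction p - 1 with
    | zero => exact ⟨0, by simp⟩
    | succ j ih =>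
      obtain ⟨r, hr⟩ := ih
      exact ⟨r + (1 + X * r) * (1 + X * q'), by rw [pow_succ, hr]; ring⟩
  refine ⟨r, ?_⟩
  rw [← hr, map_pow, ← h.x_eq, ← map_pow]
  congr 1
  rw [inv_eq_iff_mul_eq_one, ← pow_succ', Nat.sub_add_cancel hp.out.one_le, h.pow_p]

omit h in
theorem _root_.Cfsg.PM.dop_comm {ρ : Representation k G W} {τ : Representation k G V}
    {f : W →ₗ[k] V} (hf : ∀ y, f (ρ x y) = τ x (f y)) (y : W) :
    f (dop ρ x q y) = dop τ x q (f y) :=
  comp_aeval (fun y => by simp [hf]) _ y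

omit h in
theorem _root_.Cfsg.PM.dop_pow_comm {ρ : Representation k G W} {τ : Representation k G V}
    {f : W →ₗ[k] V} (hf : ∀ y, f (ρ x y) = τ x (f y)) (j : ℕ) (y : W) :
    f ((dop ρ x q ^ j) y) = (dop τ x q ^ j) (f y) := by
  simpa using comp_aeval (dop_comm (q := q) hf) (X ^ j) y

theorem x_comm {ρ : Representation k G W} {τ : Representation k G V} {f : W →ₗ[k] V}
    (hf : ∀ y, f (dop ρ x q y) = dop τ x q (f y)) (y : W) : f (ρ x y) = τ x (f y) := by
  rw [h.x_eq, h.x_eq]
  exact comp_aeval hf _ y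

theorem nonempty_chains [IsAlgClosed k] [FiniteDimensional k W] (ρ : Representation k G W) :
    Nonempty (Chains (dop ρ x q) (sig ρ L)) :=
  letI := Fintype.ofFinite L
  PM.nonempty_chains h.card_ne_zero h.comm α _ _ _ rfl ⟨p, h.D_pow ρ⟩ (h.shifts ρ)

theorem m_le {ρ : Representation k G W} (C : Chains (dop ρ x q) (sig ρ L)) (c : C.ι) :
    C.m c ≤ p := C.le_of_pow_eq_zero (h.D_pow ρ) c

theorem exists_trace [Fintype L] (ρ : Representation k G W) {y : W} (hx : ρ x y = y)
    (hl : ∀ l : L, ρ l y = y) : ∃ Γ w : W, (∀ g, ρ g Γ = Γ) ∧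
      Γ = (Fintype.card L : k) • y + ((ρ x - 1) ^ (p - 1)) w := by
  obtain ⟨Γ, w, h1, -, h2⟩ := exists_trace_prime ρ h.ord L h.hLp h.hL hx
  refine ⟨Γ, w, h1, ?_⟩
  rw [h2, ← LinearMap.sum_apply (range p), sum_pow_eq_sub_one_pow (k := k),
    sum_congr rfl fun l _ => hl l, sum_const, card_univ, Nat.cast_smul_eq_nsmul]

/-- The homomorphism with prescribed values on the generators of the chains. -/
theorem exists_hom {ρ : Representation k G W} {τ : Representation k G V}
    (C : Chains (dop ρ x q) (sig ρ L)) (y : C.ι → V) (hy : ∀ c, y c ∈ wsp (sig τ L) (C.w c))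
    (h0 : ∀ c, (dop τ x q ^ C.m c) (y c) = 0) : ∃ f : W →ₗ[k] V,
      (∀ c i, f ((dop ρ x q ^ i) (C.u c)) = (dop τ x q ^ i) (y c)) ∧ ρ.linHom τ x f = f ∧
      ∀ l : L, ρ.linHom τ l f = f := by
  have h1 := C.lift_apply' (f := fun c i => (dop τ x q ^ i) (y c)) fun c i hi =>
    pow_apply_eq_zero_of_le (h0 c) hi
  generalize C.lift (fun c i => (dop τ x q ^ i) (y c)) = f at h1
  refine ⟨f, h1, linHom_eq_iff.2 (h.x_comm fun z => ?_), fun l => linHom_eq_iff.2 fun z => ?_⟩
  · refine congrArg (fun f : W →ₗ[k] V => f z) (C.hom_ext (f := f ∘ₗ dop ρ x q)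
      (g := dop τ x q ∘ₗ f) fun c i _ => ?_)
    rw [LinearMap.comp_apply, LinearMap.comp_apply, ← End.mul_apply, ← pow_succ', h1, h1, pow_succ',
      End.mul_apply]
  · refine congrArg (fun f : W →ₗ[k] V => f z) (C.hom_ext (f := f ∘ₗ ρ l)
      (g := τ l ∘ₗ f) fun c i _ => ?_)
    rw [LinearMap.comp_apply, LinearMap.comp_apply, h1]
    erw [C.pow_u_mem (h.shifts ρ) c i l, (h.shifts τ).pow_mem i (hy c) l]
    rw [map_smul, h1]

/-- A homomorphism for the normalizer is approximated by a homomorphism for the group. -/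
theorem exists_approx [Fintype L] {ρ : Representation k G W} {τ : Representation k G V}
    {f : W →ₗ[k] V} (hx : ρ.linHom τ x f = f) (hl : ∀ l : L, ρ.linHom τ l f = f) :
    ∃ Γ : W →ₗ[k] V, (∀ g y, Γ (ρ g y) = τ g (Γ y)) ∧ ∀ b y, (dop ρ x q ^ b) y = 0 →
      Γ y - (Fintype.card L : k) • f y ∈ LinearMap.range (dop τ x q ^ (p - b)) := by
  obtain ⟨Γ, w, h1, h2⟩ := h.exists_trace _ hx hl
  refine ⟨Γ, fun g => linHom_eq_iff.1 (h1 g), fun b y hy => ?_⟩
  have := linHom_pow_apply_mem ρ τ x w (p - 1) b y (h.pow_apply_eq_zero.1 hy)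
  rw [Nat.sub_add_cancel hp.out.one_le, ← h.range_pow] at this
  rwa [h2, LinearMap.add_apply, LinearMap.smul_apply, add_sub_cancel_left]

/-- An indecomposable module has at most one non-projective chain. -/
theorem eq_of_indec [FiniteDimensional k W] {ρ : Representation k G W} (hρ : Indec ρ)
    (C : Chains (dop ρ x q) (sig ρ L)) {c c' : C.ι} (hc : C.m c < p) (hc' : C.m c' < p) :
    c = c' := by
  classical
  letI := Fintype.ofFinite L
  by_contra hne
  obtain ⟨π, h1, h2, h3⟩ := h.exists_hom (τ := ρ) C (fun d => if d = c then C.u c else 0)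
    (fun d => by
      split_ifs with e
      exacts [e ▸ C.wt d, Submodule.zero_mem _])
    fun d => by
      split_ifs with e
      exacts [e ▸ C.top d, map_zero _]
  obtain ⟨γ, h4, h5⟩ := h.exists_approx h2 h3
  have h6 : ∀ d y, C.co d 0 (π y) = if d = c then C.co d 0 y else 0 := fun d y => by
    refine (congrArg (fun f : W →ₗ[k] k => f y) (C.hom_ext (f := C.co d 0 ∘ₗ π)
      (g := if d = c then C.co d 0 else 0) fun d' i _ => ?_)).trans (by split_ifs <;> rfl)
    rw [LinearMap.comp_apply, h1]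
    split_ifs with e e' e'
    · rw [e]
    · rw [C.co_pow, if_neg fun h => e' h.1.symm, LinearMap.zero_apply]
    · rw [C.co_pow, if_neg fun h => e (h.1.trans e'), map_zero, map_zero]
    · rw [map_zero, map_zero, LinearMap.zero_apply]
  have h7 : ∀ d y, (dop ρ x q ^ (p - 1)) y = 0 →
      C.co d 0 (γ y) = Fintype.card L * if d = c then C.co d 0 y else 0 := fun d y hy => by
    have := C.mem_range_pow.1 (h5 _ y hy) d 0 (by have := hp.out.pos; omega)
    rwa [map_sub, map_smul, h6, sub_eq_zero] at this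
  have h8 : ∀ n g y, (γ ^ n) (ρ g y) = ρ g ((γ ^ n) y) := fun n g y => by
    induction n with
    | zero => rfl
    | succ n ih => rw [pow_succ', End.mul_apply, End.mul_apply, ih, h4]
  obtain ⟨n, hn⟩ := Filter.eventually_atTop.1 γ.eventually_isCompl_ker_pow_range_pow
  rcases hρ _ _ (fun g y hy => by
      rw [Submodule.mem_comap, LinearMap.mem_ker, h8, LinearMap.mem_ker.1 hy, map_zero])
    (by rintro g _ ⟨y, rfl⟩; exact ⟨_, h8 _ g y⟩) (hn (n + 1) n.le_succ) with e | e
  · have h9 : Function.Injective γ := by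
      rw [← LinearMap.ker_eq_bot, eq_bot_iff, ← e]
      intro y hy
      rw [LinearMap.mem_ker, pow_succ, End.mul_apply, LinearMap.mem_ker.1 hy, map_zero]
    obtain ⟨y, hy⟩ := LinearMap.injective_iff_surjective.1 h9 (C.u c')
    have h10 := h7 c' y (h9 (by
      rw [dop_pow_comm (h4 x), hy, map_zero, C.pow_u_eq_zero (by omega)]))
    rw [if_neg (Ne.symm hne), mul_zero, hy] at h10
    exact one_ne_zero ((C.co_pow_self (C.pos c')).symm.trans h10)
  · have h9 : ∀ j, C.co c 0 ((γ ^ j) (C.u c)) = Fintype.card L ^ j := fun j => by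
      induction j with
      | zero => simpa using C.co_pow_self (C.pos c)
      | succ j ih =>
        rw [pow_succ', End.mul_apply, h7, if_pos rfl, ih, pow_succ']
        rw [← dop_pow_comm (h8 j x), C.pow_u_eq_zero (by omega), map_zero]
    have h10 : (γ ^ (n + 1)) (C.u c) = 0 := by
      rw [← Submodule.mem_bot k, ← e]
      exact ⟨_, rfl⟩
    have := h9 (n + 1)
    rw [h10, map_zero] at this
    exact pow_ne_zero _ h.card_ne_zero this.symm

/-- The shape of an indecomposable module of dimension prime to `p`. -/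
theorem exists_of_indec [FiniteDimensional k W] {ρ : Representation k G W} (hρ : Indec ρ)
    (C : Chains (dop ρ x q) (sig ρ L)) {m s : ℕ} (h0 : 0 < m) (hm : m < p)
    (hd : finrank k W = m + s * p) :
    ∃ c, C.m c = m ∧ (∀ d, d ≠ c → C.m d = p) ∧ Fintype.card C.ι = s + 1 := by
  obtain ⟨c, hc⟩ : ∃ c, C.m c < p := by
    by_contra e
    push Not at e
    rw [C.finrank_eq, sum_congr rfl fun c _ => le_antisymm (h.m_le C c) (e c), sum_const,
      smul_eq_mul] at hd
    have : p ∣ m := (Nat.dvd_add_left (Dvd.intro_left s rfl)).1 (hd ▸ Dvd.intro_left _ rfl)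
    exact absurd (Nat.le_of_dvd h0 this) (by omega)
  have h1 : ∀ d, d ≠ c → C.m d = p := fun d hd =>
    le_antisymm (h.m_le C d) (not_lt.1 fun e => hd (h.eq_of_indec hρ C e hc))
  rw [C.finrank_eq, ← add_sum_erase _ _ (mem_univ c),
    sum_congr rfl fun d hd => h1 d (ne_of_mem_erase hd), sum_const, smul_eq_mul,
    card_erase_of_mem (mem_univ c), card_univ] at hd
  have h2 := congrArg (· % p) hd
  simp only [Nat.add_mul_mod_self_right, Nat.mod_eq_of_lt hc, Nat.mod_eq_of_lt hm] at h2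
  have h3 : Fintype.card C.ι - 1 = s := Nat.eq_of_mul_eq_mul_right hp.out.pos (by omega)
  have h4 : 0 < Fintype.card C.ι := Fintype.card_pos_iff.2 ⟨c⟩
  exact ⟨c, h2, h1, by omega⟩

/-- The lengths of the chains of a simple module. -/
theorem le_or_le [IsAlgClosed k] [FiniteDimensional k W] {ρ : Representation k G W}
    (hρ : ρ.IsIrreducible) (C : Chains (dop ρ x q) (sig ρ L)) {e : ℕ} (h0 : 0 < e)
    (he : α ^ e = 1) (c : C.ι) : C.m c ≤ e ∨ p ≤ C.m c + e := by
  letI := Fintype.ofFinite L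
  by_contra hn
  push Not at hn
  obtain ⟨γ, h4, h5⟩ := h.exists_approx (ρ := ρ) (τ := ρ) (f := dop ρ x q ^ e)
    (linHom_eq_iff.2 fun y => (dop_pow_comm (f := ρ x) (fun _ => rfl) e y).symm)
    fun l => linHom_eq_iff.2 fun y =>
      congrArg (fun f : End k W => f y) ((h.shifts ρ).commute he l).eq
  obtain ⟨s, rfl⟩ := rep_exists_smul_of_commute hρ γ fun g => LinearMap.ext (h4 g)
  have h6 := C.mem_range_pow.1 (h5 _ _ (C.top c)) c
  have h7 := h6 e (by omega)
  rw [map_sub, map_smul, C.co_pow_self hn.1, LinearMap.smul_apply, map_smul, End.one_apply,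
    ← End.one_apply (R := k) (C.u c), ← pow_zero (dop ρ x q), C.co_pow,
    if_neg (by omega)] at h7
  exact h.card_ne_zero (by simpa using h7)

end Loc

end Cfsg.PM

set_option linter.all false in
theorem Cfsg.Rz.Mod_PrimeMod_0 : True := by
  have := @_root_.Cfsg.PM.Loc.mk.congr_simp.{0, 0}
  have := @_root_.Cfsg.PM.dop.eq_def.{0, 0, 0}
  have := @_root_.Cfsg.PM.dop.fun_cases
  have := @_root_.Cfsg.PM.sig.eq_def.{0, 0, 0}
  have := @_root_.Cfsg.PM.sig.eq_1.{0, 0, 0}
  have := @_root_.Cfsg.PM.sig.fun_cases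
  have := @_root_.Cfsg.PM.Indec.eq_def.{0, 0, 0}
  have := @_root_.Cfsg.PM.Indec.eq_1.{0, 0, 0}
  have := @_root_.Cfsg.PM.Indec.fun_cases
  have := @_root_.Cfsg.PM.nrm.eq_def.{0, 0, 0}
  have := @_root_.Cfsg.PM.nrm.eq_1.{0, 0, 0}
  have := @_root_.Cfsg.PM.nrm.fun_cases
  trivial
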