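import Cfsg.Agent.Mod.PrimeLat

/-!
# Weight multiplicities and the fixed points of the normalizer
-/

set_option autoImplicit false
set_option linter.unusedSectionVars false
set_option linter.style.haveILetI false

namespace Cfsg.PM

open Module Finset Subgroup Polynomial Matrix IsLocalRing
open scoped ComplexConjugate Classical

universe u v w w'

section Avg

variable {L : Type u} [Group L] [Fintype L] {β ν : Wt L ℂ} {e : ℕ}

/-- The multiplicity of a weight. -/
noncomputable def avg (ν : Wt L ℂ) : (L → ℂ) →ₗ[ℂ] ℂ :=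
  (Fintype.card L : ℂ)⁻¹ • ∑ l : L, ((ν l⁻¹ : ℂˣ) : ℂ) • LinearMap.proj l

theorem avg_apply (ν : Wt L ℂ) (f : L → ℂ) :
    avg ν f = (Fintype.card L : ℂ)⁻¹ * ∑ l : L, ((ν l⁻¹ : ℂˣ) : ℂ) * f l := by
  simp [avg, LinearMap.sum_apply]

theorem avg_wt (ν μ : Wt L ℂ) : avg ν (fun l => μ l) = if μ = ν then 1 else 0 := by
  rw [avg_apply]
  split_ifs with h
  · simp [h]
  · have := sum_hom_units_eq_zero ((Units.coeHom ℂ).comp (ν⁻¹ * μ : Wt L ℂ)) fun e =>
      h (inv_mul_eq_one.1 (Wt.ext fun l => Units.ext (DFunLike.congr_fun e l))).symm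
    rw [← mul_zero (Fintype.card L : ℂ)⁻¹, ← this]
    simp only [map_inv]
    rfl

theorem avg_mul (ν μ : Wt L ℂ) (f : L → ℂ) : avg (μ * ν) (fun l => μ l * f l) = avg ν f := by
  simp only [avg_apply, Wt.mul_apply, map_inv, Units.val_mul, Units.val_inv_eq_inv_val]
  congr 1
  exact sum_congr rfl fun l _ => by field_simp

theorem eq_of_avg_ne_zero {f : L → ℂ} (h : avg ν f ≠ 0) {z : L} {c : ℂ}
    (hz : ∀ l, f (z * l) = c * f l) : ν z = c := by
  have h1 : avg ν f = (ν z : ℂ)⁻¹ * c * avg ν f := by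
    rw [avg_apply, mul_left_comm, mul_sum _ _ (_ * c)]
    congr 1
    refine (Equiv.sum_comp (Equiv.mulLeft z) _).symm.trans (sum_congr rfl fun l _ => ?_)
    simp only [Equiv.coe_mulLeft, hz, _root_.mul_inv_rev, map_mul, map_inv, Units.val_mul,
      Units.val_inv_eq_inv_val]
    ring
  exact (inv_mul_eq_one₀ (ν z).ne_zero).1 ((mul_eq_right₀ h).1 h1.symm)

theorem sum_pow_apply (he : orderOf β = e) (l : L) :
    ∑ i ∈ range e, (((β ^ i) l : ℂˣ) : ℂ) = if β l = 1 then (e : ℂ) else 0 := by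
  simp only [Wt.pow_apply, Units.val_pow_eq_pow_val]
  split_ifs with h
  · simp [h]
  · rw [geom_sum_eq (by simpa using h), ← Units.val_pow_eq_pow_val, ← Wt.pow_apply, ← he,
      pow_orderOf_eq_one]
    simp

theorem sum_pow_apply_of_ne (he : orderOf β = e) {l : L} (hl : β l ≠ 1) (s r : ℕ) :
    ∑ i ∈ range (e * s + r), (((β ^ i) l : ℂˣ) : ℂ) = ∑ i ∈ range r, (((β ^ i) l : ℂˣ) : ℂ) := by
  induction s with
  | zero => simp
  | succ s ih =>
    rw [show e * (s + 1) + r = e + (e * s + r) by ring, sum_range_add, sum_pow_apply he, if_neg hl,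
      zero_add, ← ih]
    exact sum_congr rfl fun i _ => by rw [pow_add, ← he, pow_orderOf_eq_one, one_mul]

theorem mul_card_eq (he : orderOf β = e) (h0 : 0 < e) :
    e * (univ.filter fun l => β l = 1).card = Fintype.card L := by
  have h1 : avg 1 (∑ i ∈ range e, fun l => (((β ^ i) l : ℂˣ) : ℂ)) = 1 := by
    rw [map_sum, sum_eq_single 0 (fun i hi h => by
      rw [avg_wt, if_neg (pow_ne_one_of_lt_orderOf h (he ▸ mem_range.1 hi))])
      (fun h => absurd (mem_range.2 h0) h), avg_wt, if_pos (pow_zero β)]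
  rw [avg_apply, inv_mul_eq_one₀ (by simp)] at h1
  simp only [Finset.sum_apply, sum_pow_apply he, Wt.one_apply, Units.val_one, one_mul,
    ← sum_filter, sum_const, nsmul_eq_mul] at h1
  rw [mul_comm]
  exact_mod_cast h1.symm

theorem mul_avg_of_supp (he : orderOf β = e) (h0 : 0 < e) {f : L → ℂ} {a : ℂ}
    (h1 : ∀ l, β l ≠ 1 → f l = 0) (h2 : ∀ l, β l = 1 → f l = ν l * a) : e * avg ν f = a := by
  rw [avg_apply, sum_congr rfl (g := fun l => if β l = 1 then a else 0) fun l _ => by
    split_ifs with h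
    · rw [h2 l h, ← mul_assoc, ← Units.val_mul, ← map_mul, inv_mul_cancel, map_one, Units.val_one,
        one_mul]
    · rw [h1 l h, mul_zero], ← sum_filter, sum_const, nsmul_eq_mul, ← mul_card_eq he h0]
  have h3 : ((e * (univ.filter fun l => β l = 1).card : ℕ) : ℂ) ≠ 0 := by
    rw [mul_card_eq he h0]
    simp
  push_cast at h3 ⊢
  have := left_ne_zero_of_mul h3
  have := right_ne_zero_of_mul h3
  field_simp

theorem mul_avg_sub (he : orderOf β = e) (h0 : 0 < e) {f g : L → ℂ} {a b : ℂ}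
    (h1 : ∀ l, β l ≠ 1 → f l = g l) (h2 : ∀ l, β l = 1 → f l = ν l * a)
    (h3 : ∀ l, β l = 1 → g l = ν l * b) : e * (avg ν f - avg ν g) = a - b := by
  rw [← map_sub]
  exact mul_avg_of_supp he h0 (fun l hl => sub_eq_zero.2 (h1 l hl))
    fun l hl => by rw [Pi.sub_apply, h2 l hl, h3 l hl, mul_sub]

theorem exists_pow_eq (he : orderOf β = e) (h0 : 0 < e) (h : ∀ l, β l = 1 → ν l = 1) :
    ∃ j < e, β ^ j = ν := by
  have h1 := mul_avg_of_supp (ν := ν) he h0 (f := ∑ i ∈ range e, fun l => (((β ^ i) l : ℂˣ) : ℂ))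
    (a := e) (fun l hl => by rw [Finset.sum_apply, sum_pow_apply he, if_neg hl])
    fun l hl => by rw [Finset.sum_apply, sum_pow_apply he, if_pos hl, h l hl, Units.val_one, one_mul]
  by_contra h2
  push Not at h2
  rw [map_sum, sum_eq_zero fun i hi => by rw [avg_wt, if_neg (h2 i (mem_range.1 hi))],
    mul_zero] at h1
  exact h0.ne (by exact_mod_cast h1)

end Avg

variable {G : Type u} [Group G] [Finite G] {p : ℕ} [hp : Fact p.Prime] {M : Ideal AlgInt}
  {x : G} {P L : Subgroup G} [Fintype P] [Fintype L]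

/-- The character of `L` on the fixed points of `P`. -/
noncomputable def fix (P L : Subgroup G) [Fintype P] : (G → ℂ) →ₗ[ℂ] L → ℂ :=
  LinearMap.pi fun l => (Fintype.card P : ℂ)⁻¹ • ∑ u : P, LinearMap.proj ((l : G) * u)

theorem fix_apply (F : G → ℂ) (l : L) :
    fix P L F l = (Fintype.card P : ℂ)⁻¹ * ∑ u : P, F (l * u) := by
  simp [fix, LinearMap.sum_apply]

theorem fix_of_mul {F : G → ℂ} {z : L} {c : ℂ} (h : ∀ g, F (z * g) = c * F g) :
    fix P L F z = c * fix P L F 1 := by
  simp only [fix_apply, h, ← mul_sum, OneMemClass.coe_one, one_mul, mul_left_comm]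

theorem sum_range_pow {A : Type*} [AddCommMonoid A] (hx : orderOf x = p) (hP : zpowers x = P)
    (f : G → A) : ∑ i ∈ range p, f (x ^ i) = ∑ u : P, f u := by
  subst hP hx
  rw [Finset.sum_range]
  exact Fintype.sum_equiv (finEquivZPowers (isOfFinOrder_of_finite x)) _ _ fun i => rfl

theorem sum_mul_comm {A : Type*} [AddCommMonoid A] {g : G} (hg : g ∈ normalizer (P : Set G))
    (f : G → A) : ∑ u : P, f (g * u) = ∑ u : P, f (u * g) :=
  Fintype.sum_equiv (P.normalizerMonoidHom ⟨g, hg⟩).toEquiv _ _ fun _ =>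
    congrArg f (inv_mul_cancel_right _ g).symm

theorem Wt.pow_card {k : Type v} [Field k] (ν : Wt L k) (l : L) : (ν l : k) ^ Nat.card L = 1 := by
  rw [← Units.val_pow_eq_pow_val, ← map_pow, pow_card_eq_one', map_one, Units.val_one]

/-- The lifted weight. -/
noncomputable def hat (hM : IsPModular p M) (hL : ¬ p ∣ Nat.card L) : Wt L (ResK M) →* Wt L ℂ where
  toFun ν := MonoidHom.toHomUnits
    { toFun := fun l => teich p M (ν l)
      map_one' := by simp [teich_one hM]
      map_mul' := fun l l' => by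
        rw [map_mul, Units.val_mul, teich_mul hM hL (ν.pow_card l) (ν.pow_card l')] }
  map_one' := Wt.ext fun l => Units.ext (teich_one hM)
  map_mul' ν μ := Wt.ext fun l => Units.ext (teich_mul hM hL (ν.pow_card l) (μ.pow_card l))

theorem hat_apply (hM : IsPModular p M) (hL : ¬ p ∣ Nat.card L) (ν : Wt L (ResK M)) (l : L) :
    (hat hM hL ν l : ℂ) = teich p M (ν l) := rfl

theorem hat_apply_inj (hM : IsPModular p M) (hL : ¬ p ∣ Nat.card L) {ν μ : Wt L (ResK M)} {l : L} :
    hat hM hL ν l = hat hM hL μ l ↔ ν l = μ l := by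
  refine ⟨fun h => Units.ext ?_, fun h => Units.ext (by rw [hat_apply, hat_apply, h])⟩
  have := congrArg (fun z : ℂˣ => red M z) h
  simp only [hat_apply] at this
  rwa [red_teich hM hL (ν.pow_card l), red_teich hM hL (μ.pow_card l)] at this

theorem hat_injective (hM : IsPModular p M) (hL : ¬ p ∣ Nat.card L) :
    Function.Injective (hat hM hL) := fun _ _ h =>
  Wt.ext fun l => (hat_apply_inj hM hL).1 (by rw [h])

variable [CharP (ResK M) p] {α : Wt L (ResK M)} {q q' : (ResK M)[X]} {W : Type w} [AddCommGroup W]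
  [Module (ResK M) W] {F : G → ℂ} {σ : Representation (ResK M) G W}

namespace Loc

variable (h : Loc p x L α q q')
include h

theorem eq_one_of_comm {l : L} {u : G} (hu : u ∈ zpowers x) (hu1 : u ≠ 1) (hc : l * u = u * l) :
    α l = 1 := by
  obtain ⟨i, rfl⟩ := mem_powers_iff_mem_zpowers.2 hu
  obtain ⟨a, ha, ha'⟩ := h.conj l
  have h1 : x ^ (a * i) = x ^ i := by
    rw [pow_mul, ← ha, conj_pow, mul_inv_eq_iff_eq_mul]
    exact hc
  rw [pow_eq_pow_iff_modEq, h.ord, ← CharP.natCast_eq_natCast (ResK M), Nat.cast_mul] at h1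
  refine Units.ext (ha'.trans ((mul_eq_right₀ fun e => hu1 ?_).1 h1))
  rw [CharP.cast_eq_zero_iff _ p, ← h.ord, orderOf_dvd_iff_pow_eq_one] at e
  exact e

theorem comm_of_eq_one {l : L} (hl : α l = 1) : l * x = x * l := by
  obtain ⟨a, ha, ha'⟩ := h.conj l
  rw [hl, Units.val_one, ← Nat.cast_one, CharP.natCast_eq_natCast _ p, ← h.ord,
    ← pow_eq_pow_iff_modEq, pow_one, ← ha] at ha'
  exact mul_inv_eq_iff_eq_mul.1 ha'.symm

theorem fix_of_ne (hP : zpowers x = P) (hF : IsClassFunction G F) {l : L} (hl : α l ≠ 1) :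
    fix P L F l = F l := by
  have h1 := hP ▸ h.le_normalizer (inv_mem l.2)
  let f : P → P := fun u => ⟨(l : G)⁻¹ * (u : G)⁻¹ * l * u, mul_mem (by
    simpa using (mem_normalizer_iff.1 h1 _).1 (inv_mem u.2)) u.2⟩
  have h2 : Function.Injective f := fun u v e => by
    by_contra h2
    refine hl (h.eq_one_of_comm (u := v * (u : G)⁻¹) (hP.ge (mul_mem v.2 (inv_mem u.2)))
      (fun e => h2 (Subtype.ext (mul_inv_eq_one.1 e).symm)) ?_)
    have h3 : (l : G)⁻¹ * (u : G)⁻¹ * l * u = (l : G)⁻¹ * (v : G)⁻¹ * l * v :=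
      congrArg Subtype.val e
    calc (l : G) * (v * (u : G)⁻¹) = v * l * ((l : G)⁻¹ * (v : G)⁻¹ * l * v) * (u : G)⁻¹ := by group
      _ = _ := by rw [← h3]; group
  rw [fix_apply, ← (Finite.injective_iff_bijective.1 h2).sum_comp fun u : P => F (l * u),
    sum_congr rfl (g := fun _ => F l) fun u _ => by
      rw [← hF.apply_inv_mul_mul l u]
      congr 1
      simp only [f]
      group, sum_const, card_univ, nsmul_eq_mul, inv_mul_cancel_left₀ (by simp)]

theorem avg_fix_eq (hP : zpowers x = P) {U : Type w'} [AddCommGroup U] [Module ℂ U]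
    [FiniteDimensional ℂ U] (ρ : Representation ℂ G U) (ν : Wt L ℂ) :
    avg ν (fix P L ρ.character) =
      finrank ℂ (wsp (sig ρ L) ν ⊓ LinearMap.ker (ρ x - 1) : Submodule ℂ U) := by
  have h1 : Commute (∑ u : P, ρ u) (wpr (sig ρ L) ν) := commute_wpr ν fun l => by
    simp only [Commute, SemiconjBy, sig_apply, sum_mul, mul_sum, ← map_mul]
    exact (sum_mul_comm (hP ▸ h.le_normalizer l.2) ρ).symm
  have h2 : ρ x * ∑ u : P, ρ u = ∑ u : P, ρ u := by
    simp only [mul_sum, ← map_mul]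
    exact Fintype.sum_equiv (Equiv.mulLeft ⟨x, hP ▸ mem_zpowers x⟩) _ _ fun _ => rfl
  rw [← LinearMap.IsProj.trace (p := wsp (sig ρ L) ν ⊓ LinearMap.ker (ρ x - 1))
    (f := (Fintype.card P : ℂ)⁻¹ • (wpr (sig ρ L) ν * ∑ u : P, ρ u))
    ⟨fun v => Submodule.smul_mem _ _ ⟨wpr_mem _ _ _, ?_⟩, fun v hv => ?_⟩]
  · simp only [avg_apply, fix_apply, wpr, smul_mul_assoc, sum_mul, mul_sum, map_smul, map_sum,
      sig_apply, ← map_mul, smul_eq_mul, Representation.character]
    rw [sum_comm]
    exact sum_congr rfl fun _ _ => sum_congr rfl fun _ _ => by ring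
  · rw [← h1.eq, SetLike.mem_coe, LinearMap.mem_ker, ← End.mul_apply, ← mul_assoc, sub_mul, h2,
      one_mul, sub_self, zero_mul, LinearMap.zero_apply]
  · have h3 : ∀ i : ℕ, ρ (x ^ i) v = v := fun i => by
      induction i with
      | zero => simp
      | succ i ih => rw [pow_succ, map_mul, End.mul_apply, show ρ x v = v from sub_eq_zero.1 hv.2, ih]
    rw [LinearMap.smul_apply, End.mul_apply, LinearMap.sum_apply,
      sum_congr rfl (g := fun _ => v) fun u _ => by
        obtain ⟨i, hi⟩ := mem_powers_iff_mem_zpowers.2 (hP.ge u.2)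
        rw [← hi]
        exact h3 i, sum_const, card_univ, ← Nat.cast_smul_eq_nsmul ℂ, map_smul,
      wpr_of_mem (by simp) hv.1, smul_smul, inv_mul_cancel₀ (by simp), one_smul]

theorem exists_avg_fix (hP : zpowers x = P) (hF : IsCharacter G F) (ν : Wt L ℂ) :
    ∃ a : ℕ, avg ν (fix P L F) = a := by
  obtain ⟨n, ρ, rfl⟩ := hF
  exact ⟨_, h.avg_fix_eq hP ρ ν⟩

theorem brauerChar_eq_sum [FiniteDimensional (ResK M) W] (hM : IsPModular p M)
    (C : Chains (dop σ x q) (sig σ L)) (l : L) :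
    brauerChar p M σ l = ∑ c, ∑ i ∈ range (C.m c), (hat hM h.hLp (C.w c * α ^ i) l : ℂ) := by
  rw [brauerChar_of_reg _ (isPRegular_of_mem_of_not_dvd h.hLp l.2),
    rootLift_charpoly_of_eigenbasis C.b _ (fun y => (C.w y.1 * α ^ (y.2 : ℕ)) l) fun y => by
      rw [C.b_eq]
      exact C.pow_u_mem (h.shifts σ) _ _ l, Fintype.sum_sigma]
  exact sum_congr rfl fun c _ =>
    Fin.sum_univ_eq_sum_range (fun i => teich p M ((C.w c * α ^ i) l)) _

theorem finrank_wsp_eq' [FiniteDimensional (ResK M) W] (hM : IsPModular p M) (ν : Wt L (ResK M)) :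
    (finrank (ResK M) (wsp (sig σ L) ν) : ℂ) =
      avg (hat hM h.hLp ν) fun l => brauerChar p M σ l := by
  obtain ⟨C⟩ := h.nonempty_chains σ
  rw [show (fun l : L => brauerChar p M σ l) = ∑ c, ∑ i ∈ range (C.m c),
    fun l => (hat hM h.hLp (C.w c * α ^ i) l : ℂ) from funext fun l => by
      simp only [h.brauerChar_eq_sum hM C l, Finset.sum_apply], C.finrank_wsp (h.shifts σ)]
  simp only [map_sum, avg_wt, (hat_injective hM h.hLp).eq_iff, cnt, card_filter, Nat.cast_sum,
    Nat.cast_ite, Nat.cast_one, Nat.cast_zero]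

theorem red_apply [FiniteDimensional (ResK M) W] (hM : IsPModular p M) (hF : Red F σ) (l : L) :
    F l = brauerChar p M σ l := by
  rw [hF.brauerChar_eq hM, pRegularPart_of_reg (isPRegular_of_mem_of_not_dvd h.hLp l.2)]

theorem apply_eq_sum (hM : IsPModular p M) (hF : Red F σ) (C : Chains (dop σ x q) (sig σ L))
    (l : L) : F l = ∑ c, ∑ i ∈ range (C.m c), (hat hM h.hLp (C.w c * α ^ i) l : ℂ) :=
  haveI := hF.finiteDimensional
  (h.red_apply hM hF l).trans (h.brauerChar_eq_sum hM C l)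

theorem finrank_wsp_eq (hM : IsPModular p M) (hF : Red F σ) (ν : Wt L (ResK M)) :
    (finrank (ResK M) (wsp (sig σ L) ν) : ℂ) = avg (hat hM h.hLp ν) fun l => F l := by
  haveI := hF.finiteDimensional
  simp only [h.red_apply hM hF, h.finrank_wsp_eq' hM]

/-- The key inequalities. -/
theorem key (hP : zpowers x = P) (hF : Red F σ) : ∃ a b : ℕ, avg 1 (fix P L F) = a ∧
    ip F (fun _ => 1) = b ∧ a ≤ b + finrank (ResK M) (LinearMap.range (nrm σ p x L)) ∧
    finrank (ResK M) (LinearMap.range (nrm σ p x L)) ≤ a := by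
  letI := Fintype.ofFinite G
  obtain ⟨n, _, _, R, e, rfl, h2⟩ := hF
  have h3 : ∀ y, e (nrm σ p x L y) = nrm (latK R) p x L (e y) := fun y => by
    simp only [nrm, End.mul_apply, LinearMap.sum_apply, map_sum, ← map_pow, h2]
  have h4 : finrank (ResK M) (LinearMap.range (nrm σ p x L)) =
      finrank (ResK M) (LinearMap.range (nrm (latK R) p x L)) := by
    rw [← e.finrank_map_eq, ← LinearMap.range_comp, show e.toLinearMap ∘ₗ nrm σ p x L =
      nrm (latK R) p x L ∘ₗ e.toLinearMap from LinearMap.ext h3, LinearMap.range_comp,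
      e.range, Submodule.map_top]
  have h5 : ∀ {K : Type} [Field K] (f : locO M →+* K) (g : G) (v : n → locO M),
      f ∘ matRep R g v = matRep (matMap R f) g (f ∘ v) := fun f g v =>
    funext fun i => RingHom.map_mulVec f _ v i
  have h6 : ∀ {K : Type} [Field K] (f : locO M →+* K) (v : n → locO M),
      f ∘ nrm (matRep R) p x L v = nrm (matRep (matMap R f)) p x L (f ∘ v) := fun f v => by
    simp only [nrm, End.mul_apply, LinearMap.sum_apply, map_sum, ← map_pow, ← h5]
    funext i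
    simp only [Function.comp_apply, Finset.sum_apply, map_sum]
  have h7 : ∀ v w : n → locO M, (locO M).subtype ∘ v = (locO M).subtype ∘ w → v = w :=
    fun v w e => funext fun i => Subtype.ext (congrFun e i)
  obtain ⟨S, h8, h9, h10⟩ := exists_red_subspace (M := M)
    (wsp (sig (latC R) L) 1 ⊓ LinearMap.ker (latC R x - 1))
  obtain ⟨S', h8', h9', -⟩ := exists_red_subspace (M := M) (latC R).invariants
  haveI : Invertible (Nat.card G : ℂ) := invertibleOfNonzero (by simp)
  refine ⟨_, _, h.avg_fix_eq hP _ _, by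
    rw [ip_def, ← (latC R).card_inv_mul_sum_char_eq_finrank]; simp, ?_, ?_⟩
  · rw [h4, ← h8, ← h8']
    refine (Submodule.finrank_mono fun w hw => ?_).trans
      (Submodule.finrank_add_le_finrank_add_finrank _ _)
    obtain ⟨v, ⟨hv, hv'⟩, rfl⟩ := h10 w hw
    have h11 : ∀ l : L, matRep R l v = v := fun l => h7 _ _ ((h5 _ _ v).trans (by simpa using hv l))
    obtain ⟨Γ, w, h12, -, h13⟩ := exists_trace_prime (matRep R) h.ord L h.hLp h.hL
      (h7 _ _ ((h5 _ x v).trans (sub_eq_zero.1 hv')))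
    have h14 : (Fintype.card L * Fintype.card L) • v =
        Fintype.card L • Γ - nrm (matRep R) p x L w := by
      have := congrArg (fun y => (∑ l : L, matRep R l) y) h13
      simp only [LinearMap.sum_apply, h12, h11, map_add, sum_const, card_univ, map_nsmul,
        sum_add_distrib, smul_smul] at this
      rw [this, nrm, End.mul_apply]
      simp only [LinearMap.sum_apply, add_sub_cancel_right]
    have h15 : ((Fintype.card L : ResK M) * Fintype.card L) • (residue (locO M) ∘ v) =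
        (Fintype.card L : ResK M) • (residue (locO M) ∘ Γ) -
          nrm (latK R) p x L (residue (locO M) ∘ w) := by
      rw [← h6]
      funext i
      simpa using congrArg (residue (locO M)) (congrFun h14 i)
    rw [← Submodule.smul_mem_iff _ (mul_ne_zero h.card_ne_zero h.card_ne_zero), h15]
    exact Submodule.sub_mem _ (Submodule.mem_sup_left (S'.smul_mem _ (h9' _ fun g => by
      rw [← h5, h12]))) (Submodule.mem_sup_right ⟨_, rfl⟩)
  · rw [h4, ← h8]
    refine Submodule.finrank_mono ?_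
    rintro _ ⟨w, rfl⟩
    choose v hv using fun i => residue_surjective (w i)
    obtain rfl : residue (locO M) ∘ v = w := funext hv
    rw [← h6]
    refine h9 _ ⟨fun l => ?_, ?_⟩
    · rw [h6, sig_apply, ← End.mul_apply, l_mul_nrm]
      simp
    · rw [h6, SetLike.mem_coe, LinearMap.mem_ker, LinearMap.sub_apply, ← End.mul_apply, h.x_mul_nrm]
      simp

end Loc

end Cfsg.PM

set_option linter.all false in
theorem Cfsg.Rz.Mod_PrimeWt_0 : True := by
  have := @_root_.Cfsg.PM.avg.eq_def.{0}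
  have := @_root_.Cfsg.PM.avg.fun_cases
  have := @_root_.Cfsg.PM.fix.eq_def.{0}
  have := @_root_.Cfsg.PM.fix.fun_cases
  have := @_root_.Cfsg.PM.hat.eq_def.{0}
  have := @_root_.Cfsg.PM.hat.eq_1.{0}
  have := @_root_.Cfsg.PM.hat.fun_cases
  trivial
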