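import Cfsg.Agent.Mod.Orth3
import Cfsg.Agent.Blk.CycRankA
import Cfsg.Agent.Grp.Transfer

/-!
# Preliminaries for modules of small dimension for groups with a Sylow subgroup of order `p`
-/

set_option autoImplicit false

namespace Cfsg

open Subgroup Module Finset

universe u v w

theorem sum_pow_eq_sub_one_pow {k : Type v} [Field k] (p : ℕ) [hp : Fact p.Prime] [CharP k p]
    {A : Type w} [Ring A] [Algebra k A] (U : A) :
    ∑ i ∈ range p, U ^ i = (U - 1) ^ (p - 1) := by
  have h : ∑ i ∈ range p, (Polynomial.X : Polynomial k) ^ i = (Polynomial.X - 1) ^ (p - 1) := by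
    have h0 : (Polynomial.X - 1 : Polynomial k) ≠ 0 := Polynomial.X_sub_C_ne_zero 1
    refine mul_left_cancel₀ h0 ?_
    rw [mul_geom_sum, ← pow_succ', Nat.sub_add_cancel hp.out.one_le, sub_pow_char, one_pow]
  simpa [map_sum] using congrArg (Polynomial.aeval U) h

theorem end_pow_apply_of_apply_eq {k : Type v} [Semiring k] {A : Type w} [AddCommMonoid A]
    [Module k A] {U : Module.End k A} {v : A} (h : U v = v) (i : ℕ) : (U ^ i) v = v := by
  induction i with
  | zero => rfl
  | succ i ih => rw [pow_succ, Module.End.mul_apply, h, ih]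

theorem pow_sub_one_sq_apply {k : Type v} [Field k] {A : Type w} [AddCommGroup A] [Module k A]
    (U : Module.End k A) {z : A} (hz : U ((U - 1) ((U - 1) z)) = (U - 1) ((U - 1) z)) (a : ℕ) :
    (U ^ a - 1) ((U ^ a - 1) z) = ((a : k) ^ 2) • (U - 1) ((U - 1) z) := by
  set v := (U - 1) ((U - 1) z)
  set S := ∑ i ∈ range a, U ^ i
  have h1 : ∀ i, (U ^ i) v = v := fun i => end_pow_apply_of_apply_eq hz i
  have h2 : S v = (a : k) • v := by
    simp only [S, LinearMap.sum_apply, h1, sum_const, card_range, Nat.cast_smul_eq_nsmul]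
  have h3 : (U ^ a - 1) * (U ^ a - 1) = S * S * ((U - 1) * (U - 1)) := by
    calc (U ^ a - 1) * (U ^ a - 1) = (S * (U - 1)) * (S * (U - 1)) := by rw [geom_sum_mul]
      _ = S * ((U - 1) * S) * (U - 1) := by simp only [mul_assoc]
      _ = S * (S * (U - 1)) * (U - 1) := by rw [mul_geom_sum, geom_sum_mul]
      _ = _ := by simp only [mul_assoc]
  rw [← Module.End.mul_apply, h3]
  simp only [Module.End.mul_apply]
  change S (S v) = _
  rw [h2, map_smul, h2, smul_smul, sq]

theorem exists_sl2_seq {k : Type v} [Field k] {A : Type w} [Ring A] [Algebra k A] (y R : A)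
    (t : A →ₗ[k] k) (ht : ∀ a b, t (a * b) = t (b * a)) (j : ℕ) :
    ∃ h H F : A, y * h - h * y = y ^ (j + 1) * R - R * y ^ (j + 1) ∧
      y * H - H * y = ((j : k) + 1) • (y ^ (j + 1) * R) - h * y ∧
      y * (y * F - F * y) - (y * F - F * y) * y =
        ((j : k) + 3) • (y ^ (j + 2) * R) + ((j : k) + 1) • (R * y ^ (j + 2)) -
          (2 : k) • (y * (h * y + y ^ (j + 1) * R)) ∧
      ∀ z, Commute z y → t (z * h) = (j + 1) * t (z * y ^ j * R) ∧
        2 * t (z * H) = (j + 1) * (j + 2) * t (z * y ^ j * R) ∧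
        6 * t (z * F) = (j + 1) * (j + 2) * (j + 3) * t (z * y ^ j * R) := by
  have hl : ∀ (n : ℕ) (a : A), y ^ (n + 1) * a = y * (y ^ n * a) := fun n a => by
    rw [pow_succ', mul_assoc]
  have hr : ∀ (n : ℕ), R * y ^ (n + 1) = R * y ^ n * y := fun n => by
    rw [pow_succ, mul_assoc]
  induction j with
  | zero =>
    refine ⟨R, R, R, by simp, by simp, ?_, fun z _ => ?_⟩
    · simp only [hl, hr, Nat.cast_zero, pow_zero, one_mul, mul_one, mul_add, mul_sub, sub_mul,
        mul_assoc]
      module
    · simp only [Nat.cast_zero, pow_zero, mul_one]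
      exact ⟨by ring, by ring, by ring⟩
  | succ j ih =>
    obtain ⟨h, H, F, e1, e2, e3, e4⟩ := ih
    refine ⟨h * y + y ^ (j + 1) * R, H * y + ((j : k) + 2) • (y ^ (j + 1) * R),
      F * y + (H * y + ((j : k) + 2) • (y ^ (j + 1) * R)), ?_, ?_, ?_, fun z hz => ?_⟩
    · have e1' := congrArg (· * y) e1
      simp only [hl, hr, mul_add, add_mul, sub_mul, mul_assoc] at e1' ⊢
      linear_combination (norm := module) e1'
    · have e2' := congrArg (· * y) e2
      simp only [hl, mul_add, add_mul, sub_mul, mul_assoc, smul_mul_assoc,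
        mul_smul_comm, Nat.cast_succ] at e2' ⊢
      linear_combination (norm := module) e2'
    · have e3' := congrArg (· * y) e3
      have e2' := congrArg (· * y * y) e2
      have e2'' := congrArg (y * · * y) e2
      have e1' := congrArg (· * y * y) e1
      simp only [hl, hr, mul_add, add_mul, mul_sub, sub_mul, mul_assoc, smul_mul_assoc,
        mul_smul_comm, Nat.cast_succ, smul_add] at e1' e2' e2'' e3' ⊢
      linear_combination (norm := module) e3' + e2'' - e2' - e1'
    · obtain ⟨f1, f2, f3⟩ := e4 (y * z) ((Commute.refl y).mul_left hz)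
      have g1 : ∀ a, t (z * (a * y)) = t (y * z * a) := fun a => by
        rw [← mul_assoc, ht, mul_assoc]
      have g2 : y * z * y ^ j * R = z * y ^ (j + 1) * R := by
        rw [← hz.eq, pow_succ', mul_assoc z y]
      rw [g2] at f1 f2 f3
      simp only [mul_add, map_add, mul_smul_comm, map_smul, smul_eq_mul, g1, Nat.cast_succ]
      simp only [← mul_assoc z]
      exact ⟨by linear_combination f1, by linear_combination f2,
        by linear_combination f3 + 3 * f2⟩

section End

variable {k : Type v} [Field k] {V : Type w} [AddCommGroup V] [Module k V] [FiniteDimensional k V]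

theorem exists_sl2_pair (y : Module.End k V) (m : ℕ) (h0 : y ^ (m + 2) = 0)
    (h1 : y ^ (m + 1) ≠ 0) (h6 : (6 : k) ≠ 0) :
    ∃ π f : Module.End k V, Commute π y ∧ LinearMap.trace k V π = m + 2 ∧
      y * (y * f - f * y) - (y * f - f * y) * y = (-2 : k) • (y * π) ∧
      6 * LinearMap.trace k V (y * f) = (m + 1) * (m + 2) * (m + 3) ∧
      ∀ z, Commute z y → LinearMap.trace k V (y * y * z * f) = 0 := by
  obtain ⟨u, hu⟩ : ∃ u, (y ^ (m + 1)) u ≠ 0 := by
    by_contra h
    push Not at h
    exact h1 (LinearMap.ext h)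
  obtain ⟨φ, hφ⟩ := Projective.exists_dual_eq_one k hu
  set R : Module.End k V := φ.smulRight u with hR
  have hT : LinearMap.trace k V (y ^ (m + 1) * R) = 1 := by
    have : y ^ (m + 1) * R = φ.smulRight ((y ^ (m + 1)) u) := LinearMap.ext fun v => by simp [hR]
    rw [this, LinearMap.trace_smulRight, hφ]
  obtain ⟨h, H, F, e1, -, e3, e4⟩ := exists_sl2_seq y R (LinearMap.trace k V)
    (LinearMap.trace_mul_comm k) m
  have e5 : y * y ^ m = y ^ (m + 1) := (pow_succ' y m).symm
  have e6 : y * y ^ (m + 1) = 0 := by rw [← pow_succ', h0]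
  have e7 : y ^ (m + 1) * y = 0 := by rw [← pow_succ, h0]
  refine ⟨h * y + y ^ (m + 1) * R, F, ?_, ?_, ?_, ?_, fun z hz => ?_⟩
  · have e1' := congrArg (· * y) e1
    simp only [sub_mul, mul_assoc, e7, mul_zero] at e1'
    rw [Commute, SemiconjBy]
    simp only [add_mul, mul_add, mul_assoc, ← mul_assoc y (y ^ (m + 1)), e6, zero_mul]
    linear_combination (norm := module) -e1'
  · rw [map_add, hT, LinearMap.trace_mul_comm, (e4 y (Commute.refl y)).1, e5, hT]; ring
  · rw [e3, h0]; simp
  · rw [(e4 y (Commute.refl y)).2.2, e5, hT, mul_one]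
  · have := (e4 (y * y * z) (((Commute.refl y).mul_left (Commute.refl y)).mul_left hz)).2.2
    rw [show y * y * z * y ^ m = 0 by
      rw [mul_assoc, (hz.pow_right m).eq, ← mul_assoc, mul_assoc y, e5, e6, zero_mul]] at this
    simpa [h6] using this

theorem trace_form_nondeg {a : Module.End k V} (h : ∀ b, LinearMap.trace k V (a * b) = 0) :
    a = 0 := by
  refine LinearMap.ext fun v => ?_
  by_contra hv
  obtain ⟨φ, hφ⟩ := Projective.exists_dual_eq_one k hv
  have : a * φ.smulRight v = φ.smulRight (a v) := LinearMap.ext fun w => by simp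
  have h1 := h (φ.smulRight v)
  rw [this, LinearMap.trace_smulRight, hφ] at h1
  exact one_ne_zero h1

end End

variable {G : Type u} [Group G] [Finite G] {p : ℕ} [hp : Fact p.Prime]

/-- The relative trace from a subgroup `⟨x⟩` of order `p`. -/
theorem exists_trace_prime {k : Type v} [CommRing k] {U : Type w} [AddCommGroup U] [Module k U]
    (τ : Representation k G U) {x : G} (hx : orderOf x = p) (L : Subgroup G) [Fintype L]
    (hLp : ¬ p ∣ Nat.card L)
    (hL : L ⊔ zpowers x = normalizer ((zpowers x : Subgroup G) : Set G)) {u : U}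
    (hu : τ x u = u) :
    ∃ Γ w : U, (∀ g, τ g Γ = Γ) ∧ Γ ∈ Submodule.span k (Set.range fun g => τ g u) ∧
      Γ = ∑ l : L, τ l u + ∑ i ∈ range p, (τ x ^ i) w := by
  classical
  set P := zpowers x with hP
  have hcard : Nat.card P = p := by rw [hP, Nat.card_zpowers, hx]
  letI : Fintype (G ⧸ P) := Fintype.ofFinite _
  letI : Fintype P := Fintype.ofFinite _
  have hu' : ∀ y ∈ P, τ y u = u := by
    intro y hy
    obtain ⟨i, rfl⟩ := (mem_powers_iff_mem_zpowers.mpr hy)
    rw [map_pow]
    exact end_pow_apply_of_apply_eq hu i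
  let F : G ⧸ P → U := fun q => τ q.out u
  have hF : ∀ g : G, F (g : G ⧸ P) = τ g u := fun g => by
    obtain ⟨y, hy⟩ := QuotientGroup.mk_out_eq_mul P g
    simp only [F]
    rw [hy, map_mul, Module.End.mul_apply, hu' _ y.2]
  have hF' : ∀ (g : G) (q : G ⧸ P), F (g • q) = τ g (F q) := fun g q => by
    obtain ⟨h, rfl⟩ := QuotientGroup.mk_surjective q
    rw [MulAction.Quotient.smul_mk, hF, hF, smul_eq_mul, map_mul, Module.End.mul_apply]
  have hLN : L ≤ normalizer (P : Set G) := hL ▸ le_sup_left
  have hgen : ∀ y ∈ P, y ≠ 1 → zpowers y = P := fun y hy hy1 =>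
    (eq_bot_or_eq_of_prime_card (hcard ▸ hp.out) (zpowers_le.mpr hy)).resolve_left
      (mt zpowers_eq_bot.mp hy1)
  obtain ⟨w, hw⟩ := exists_sum_eq_sum_of_free (P := P) (fun y => (τ y).toAddMonoidHom) F
    (fun y q => hF' y q) (univ.filter fun q => x • q ≠ q) (by
      intro y q hq
      simp only [mem_filter, mem_univ, true_and] at hq ⊢
      intro h
      refine hq ((smul_left_cancel_iff (y : G)).mp ?_)
      have hc : (y : G) * x = x * y := by
        obtain ⟨i, hi⟩ := mem_zpowers_iff.mp y.2
        rw [← hi]; exact (Commute.zpow_self x i).eq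
      rw [smul_smul, hc, mul_smul]
      exact h) (by
      intro y q hq h
      simp only [mem_filter, mem_univ, true_and] at hq
      by_contra hy1
      have h2 : zpowers (y : G) ≤ MulAction.stabilizer G q := zpowers_le.mpr h
      rw [hgen _ y.2 fun h => hy1 (Subtype.ext h)] at h2
      exact hq (h2 (mem_zpowers x)))
  refine ⟨∑ q, F q, w, fun g => ?_, Submodule.sum_mem _ fun q _ =>
    Submodule.subset_span ⟨_, rfl⟩, ?_⟩
  · rw [map_sum]
    exact Fintype.sum_equiv (MulAction.toPerm g) _ _ fun q => (hF' g q).symm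
  · rw [← sum_filter_add_sum_filter_not univ fun q : G ⧸ P => x • q = q, hw]
    congr 1
    · symm
      refine sum_bij (fun l _ => ((l : G) : G ⧸ P)) (fun l _ => ?_) (fun l _ l' _ h => ?_)
        (fun q hq => ?_) fun l _ => (hF l).symm
      · simp only [mem_filter, mem_univ, true_and]
        rw [MulAction.Quotient.smul_mk, smul_eq_mul, eq_comm, QuotientGroup.eq]
        have := (mem_normalizer_iff.mp (inv_mem (hLN l.2)) x).mp (mem_zpowers x)
        rwa [inv_inv, mul_assoc] at this
      · have h1 := QuotientGroup.eq.mp h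
        by_contra hne
        have h2 : (l : G)⁻¹ * l' ≠ 1 := fun h => hne (Subtype.ext (inv_mul_eq_one.mp h))
        have h3 : P ≤ L := hgen _ h1 h2 ▸ zpowers_le.mpr (L.mul_mem (L.inv_mem l.2) l'.2)
        exact hLp (hcard ▸ card_dvd_of_le h3)
      · obtain ⟨g, rfl⟩ := QuotientGroup.mk_surjective q
        simp only [mem_filter, mem_univ, true_and] at hq
        rw [MulAction.Quotient.smul_mk, smul_eq_mul, eq_comm, QuotientGroup.eq] at hq
        have h1 : g ∈ normalizer (P : Set G) := by
          rw [← inv_mem_iff]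
          exact mem_normalizer_zpowers_of_conj_mem (by rwa [inv_inv, mul_assoc])
        obtain ⟨l, hl, y, hy, rfl⟩ := (mem_sup_of_le_normalizer hLN).mp (hL ▸ h1)
        exact ⟨⟨l, hl⟩, mem_univ _, by simp [hy]⟩
    · rw [← hx, ← Fin.sum_univ_eq_sum_range (fun i => (τ x ^ i) w)]
      symm
      refine Fintype.sum_equiv (finEquivZPowers (isOfFinOrder_of_finite x)) _ _ fun i => ?_
      rw [finEquivZPowers_apply, ← map_pow]
      rfl

end Cfsg
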